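import Cfsg.Agent.Lib.Helper84.Stab

set_option autoImplicit false

namespace Cfsg.Agent.Lib.Helper84

open Cfsg Cfsg.Agent.Lib Cfsg.Agent.Lib.Helper21 Cfsg.Agent.Lib.Helper4
open scoped ComplexConjugate

universe u

section stab2

variable {G : Type u} [Group G] [Fintype G] {p : ℕ} [hp : Fact p.Prime] {M : Ideal AlgInt}

omit [Fintype G] hp in
theorem blockHeight_trSet {A B' : Type*} [Group A] [Group B'] (e : A ≃* B')
    (b : Set (IrrCharacter B')) (ξ : IrrCharacter A) :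
    blockHeight p (trSet e b) (ξ : A → ℂ) = blockHeight p b (trIrr e.symm ξ : B' → ℂ) := by
  unfold blockHeight
  rw [charDegree_trIrr]
  congr 2
  ext d
  constructor
  · rintro ⟨ξ', hξ', rfl⟩
    refine ⟨trIrr e.symm ξ', hξ', ?_⟩
    show (charDegree (trIrr e.symm ξ' : B' → ℂ)).factorization p = _
    rw [charDegree_trIrr]
  · rintro ⟨θ, hθ, rfl⟩
    refine ⟨trIrr e θ, (trIrr_mem_trSet e b θ).mpr hθ, ?_⟩
    show (charDegree (trIrr e θ : A → ℂ)).factorization p = _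
    rw [charDegree_trIrr]

omit [Fintype G] hp in
/-- `ν_p(χ(1)) + d(B) ≥ ν_p(|G|)` for `χ ∈ B` -/
theorem defect_add_ge (B : Set (IrrCharacter G)) (χ : IrrCharacter G) (hχ : χ ∈ B) :
    (Nat.card G).factorization p ≤
      (charDegree (χ : G → ℂ)).factorization p + blockDefect p B := by
  unfold blockDefect
  have h1 : sInf ((fun χ : IrrCharacter G => (charDegree (χ : G → ℂ)).factorization p) '' B) ≤
      (charDegree (χ : G → ℂ)).factorization p := Nat.sInf_le ⟨χ, hχ, rfl⟩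
  omega

omit [Fintype G] hp in
/-- `ν_p(χ(1)) + d(B) = ν_p(|G|)` forces height zero -/
theorem height_zero_of_add (B : Set (IrrCharacter G)) (χ : IrrCharacter G) (hχ : χ ∈ B)
    (h : (charDegree (χ : G → ℂ)).factorization p + blockDefect p B =
      (Nat.card G).factorization p) : blockHeight p B (χ : G → ℂ) = 0 := by
  unfold blockHeight
  unfold blockDefect at h
  have h1 : sInf ((fun χ : IrrCharacter G => (charDegree (χ : G → ℂ)).factorization p) '' B) ≤
      (charDegree (χ : G → ℂ)).factorization p := Nat.sInf_le ⟨χ, hχ, rfl⟩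
  omega

/-- Fong in a subgroup `T` normalizing `H` and stabilizing the block `b` of `H`: a block of
`T` covering `b` of defect `d(b) + ν_p(|T : H|)`, all of whose characters lie over `b` only -/
theorem fong_sub (hM : IsPModular p M) (H T : Subgroup G) [Fintype H] [Fintype T]
    (hHT : H ≤ T) (hconj : ∀ t ∈ T, ∀ x ∈ H, t * x * t⁻¹ ∈ H)
    (b : Set (IrrCharacter H)) (hb : IsPBlock M b)
    (hstab : ∀ t ∈ T, ∀ θ ∈ b, ∀ θ' : IrrCharacter H,
      (∀ h h' : H, (h' : G) = t * h * t⁻¹ → (θ' : H → ℂ) h' = (θ : H → ℂ) h) → θ' ∈ b)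
    [Fintype ↥(H.subgroupOf T)] :
    ∃ β : Set (IrrCharacter T), IsPBlock M β ∧
      blockDefect p β = blockDefect p b + (H.relIndex T).factorization p ∧
      ∀ χ ∈ β, ∀ ξ : IrrCharacter ↥(H.subgroupOf T),
        classInner (fun n : ↥(H.subgroupOf T) => (χ : T → ℂ) n)
          (ξ : ↥(H.subgroupOf T) → ℂ) ≠ 0 →
        ξ ∈ trSet (Subgroup.subgroupOfEquivOfLe hHT) b := by
  classical
  have hp' : p.Prime := hp.out
  haveI hnorm : (H.subgroupOf T).Normal := ⟨fun x hx g => by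
    rw [Subgroup.mem_subgroupOf] at hx ⊢
    have h1 := hconj g g.2 x hx
    simpa using h1⟩
  have hbT : IsPBlock M (trSet (Subgroup.subgroupOfEquivOfLe hHT) b) :=
    isPBlock_trSet _ b hb
  have hAT : ∀ φ ∈ trSet (Subgroup.subgroupOfEquivOfLe hHT) b, ∀ t : T,
      Helper22.irrConjFun (H.subgroupOf T) φ t ∈ trSet (Subgroup.subgroupOfEquivOfLe hHT) b := by
    intro φ hφ t
    refine hstab ((t : G)⁻¹) (inv_mem t.2) _ hφ _ (fun h h' hh' => ?_)
    show (φ : ↥(H.subgroupOf T) → ℂ) ⟨t * ((Subgroup.subgroupOfEquivOfLe hHT).symm h' : T) * t⁻¹, _⟩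
      = (φ : ↥(H.subgroupOf T) → ℂ) ((Subgroup.subgroupOfEquivOfLe hHT).symm h)
    refine congrArg (φ : ↥(H.subgroupOf T) → ℂ) ?_
    apply Subtype.ext
    apply Subtype.ext
    show (t : G) * (((Subgroup.subgroupOfEquivOfLe hHT).symm h' : T) : G) * (t : G)⁻¹ =
      (((Subgroup.subgroupOfEquivOfLe hHT).symm h : T) : G)
    rw [Subgroup.subgroupOfEquivOfLe_symm_apply_coe_coe,
      Subgroup.subgroupOfEquivOfLe_symm_apply_coe_coe, hh']
    group
  obtain ⟨Bm, hBm, hcovm, hmax⟩ : ∃ Bm : Set (IrrCharacter T), IsPBlock M Bm ∧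
      (∃ χ ∈ Bm, ∃ θ ∈ trSet (Subgroup.subgroupOfEquivOfLe hHT) b,
        classInner (fun n : ↥(H.subgroupOf T) => (χ : T → ℂ) n)
          (θ : ↥(H.subgroupOf T) → ℂ) ≠ 0) ∧
      ∀ B' : Set (IrrCharacter T), IsPBlock M B' →
        (∃ χ ∈ B', ∃ θ ∈ trSet (Subgroup.subgroupOfEquivOfLe hHT) b,
          classInner (fun n : ↥(H.subgroupOf T) => (χ : T → ℂ) n)
            (θ : ↥(H.subgroupOf T) → ℂ) ≠ 0) →
        blockDefect p B' ≤ blockDefect p Bm := by
    set S : Set ℕ := {d | ∃ B' : Set (IrrCharacter T), IsPBlock M B' ∧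
      (∃ χ ∈ B', ∃ θ ∈ trSet (Subgroup.subgroupOfEquivOfLe hHT) b,
        classInner (fun n : ↥(H.subgroupOf T) => (χ : T → ℂ) n)
          (θ : ↥(H.subgroupOf T) → ℂ) ≠ 0) ∧ blockDefect p B' = d} with hS
    have hSne : S.Nonempty := by
      obtain ⟨θ₁, hθ₁⟩ : ∃ θ₁, θ₁ ∈ trSet (Subgroup.subgroupOfEquivOfLe hHT) b := by
        obtain ⟨θ₁, hθ₁eq⟩ := hbT
        exact ⟨θ₁, by rw [hθ₁eq]; exact Helper79.mem_blockOf_self hM θ₁⟩
      obtain ⟨ψ, hψ, hcon⟩ := Helper20.exists_irr_over (H.subgroupOf T) θ₁.2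
      exact ⟨_, blockOf M ψ, Helper79.isPBlock_blockOf ⟨ψ, hψ⟩,
        ⟨⟨ψ, hψ⟩, Helper79.mem_blockOf_self hM ⟨ψ, hψ⟩, θ₁, hθ₁, hcon⟩, rfl⟩
    have hSbdd : BddAbove S := ⟨(Nat.card T).factorization p, fun d hd => by
      obtain ⟨B', -, -, rfl⟩ := hd
      exact Nat.sub_le _ _⟩
    obtain ⟨Bm, hBm, hcovm, hdm⟩ := Nat.sSup_mem hSne hSbdd
    refine ⟨Bm, hBm, hcovm, fun B' hB' hc => ?_⟩
    rw [hdm]
    exact le_csSup hSbdd ⟨B', hB', hc, rfl⟩
  obtain ⟨y, hy⟩ := Cfsg.Agent.S0906.result p M hM Bm hBm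
  obtain ⟨Q⟩ : Nonempty (Sylow p (Subgroup.centralizer ({y} : Set T))) := inferInstance
  have hPm : IsDefectGroup p M Bm
      ((Q : Subgroup (Subgroup.centralizer ({y} : Set T))).map
        (Subgroup.centralizer ({y} : Set T)).subtype) := ⟨y, hy, Q, rfl⟩
  obtain ⟨-, -, hfong⟩ := fong_main hM (H.subgroupOf T) _ hbT hAT Bm hBm hcovm hmax _ hPm
  refine ⟨Bm, hBm, ?_, ?_⟩
  · rw [hfong, blockDefect_trSet]
    rfl
  · intro χ hχ ξ hcon
    obtain ⟨χ₁, hχ₁, hχ₁o⟩ := hcovm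
    rw [Helper79.blockOf_eq_of_mem hM hBm hχ₁] at hχ
    exact mem_of_over_stable hM (H.subgroupOf T) _ hbT hAT χ₁ hχ₁o χ hχ ξ hcon

/-- S4723: a block of a normal subgroup contains a height-zero character whose inertia group
has index prime to `p` in the stabilizer of the block -/
theorem exists_height_zero_stab (hM : IsPModular p M) (H : Subgroup G) [hH : H.Normal]
    [Fintype H] (b : Set (IrrCharacter H)) (hb : IsPBlock M b) (T : Subgroup G)
    (hT : ∀ g : G, g ∈ T ↔ ∀ θ ∈ b, ∀ θ' : IrrCharacter H,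
      (∀ h h' : H, (h' : G) = g * h * g⁻¹ → (θ' : H → ℂ) h' = (θ : H → ℂ) h) → θ' ∈ b) :
    ∃ θ ∈ b, blockHeight p b (θ : H → ℂ) = 0 ∧ ∃ S : Subgroup G, S ≤ T ∧
      (∀ g : G, g ∈ S ↔ (g ∈ T ∧ ∀ h h' : H, (h' : G) = g * h * g⁻¹ →
        (θ : H → ℂ) h' = (θ : H → ℂ) h)) ∧ ¬ p ∣ S.relIndex T := by
  classical
  have hp' : p.Prime := hp.out
  letI : Fintype T := Fintype.ofFinite _
  letI : Fintype ↥(H.subgroupOf T) := Fintype.ofFinite _
  have hHT : H ≤ T := by
    intro g hg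
    rw [hT]
    intro θ hθ θ' hθ'
    have e : θ' = θ := by
      apply Subtype.ext
      funext k
      have h1 := hθ' ⟨g⁻¹ * k * g, H.mul_mem (H.mul_mem (inv_mem hg) k.2) hg⟩ k (by
          show (k : G) = g * (g⁻¹ * k * g) * g⁻¹
          group)
      rw [h1]
      have h3 := isClassFunction_irr θ k ⟨g⁻¹, inv_mem hg⟩
      rw [← h3]
      refine congrArg (θ : H → ℂ) ?_
      apply Subtype.ext
      show g⁻¹ * (k : G) * g = g⁻¹ * (k : G) * g⁻¹⁻¹
      rw [inv_inv]
    rw [e]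
    exact hθ
  haveI hnorm : (H.subgroupOf T).Normal := Subgroup.normal_subgroupOf
  obtain ⟨β, hβ, hdβ, hover⟩ := fong_sub hM H T hHT (fun t _ x hx => hH.conj_mem x hx t) b hb
    (fun t ht => (hT t).mp ht)
  obtain ⟨χ, hχ, h0⟩ := Helper22.exists_height_zero hM β hβ
  obtain ⟨ξf, hξf, hcon⟩ := Helper20.exists_constituent (H.subgroupOf T) χ.2
  obtain ⟨ξ, hξeq⟩ : ∃ ξ : IrrCharacter ↥(H.subgroupOf T),
      (ξ : ↥(H.subgroupOf T) → ℂ) = ξf := ⟨⟨ξf, hξf⟩, rfl⟩
  subst hξeq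
  have hξb := hover χ hχ ξ hcon
  obtain ⟨n, hn⟩ := classInner_isCharacter_isCharacter_nat
    (fun h : ↥(H.subgroupOf T) => (χ : T → ℂ) h) (ξ : ↥(H.subgroupOf T) → ℂ)
    (Helper35.isCharacter_res (H.subgroupOf T) (isCharacter_of_irr χ)) (isCharacter_of_irr ξ)
  have hn0 : n ≠ 0 := by
    rintro rfl
    apply hcon
    rw [hn]
    simp
  have hdeg := Helper20.clifford_degree (H.subgroupOf T) ξ.2 χ.2 hcon
    (Helper20.inertia (H.subgroupOf T) (ξ : ↥(H.subgroupOf T) → ℂ)) (fun g => Iff.rfl)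
  rw [hn, (Helper83.irr_degree χ.2).2, (Helper83.irr_degree ξ.2).2] at hdeg
  have hdegN : charDegree (χ : T → ℂ) =
      n * (Helper20.inertia (H.subgroupOf T) (ξ : ↥(H.subgroupOf T) → ℂ)).index *
        charDegree (ξ : ↥(H.subgroupOf T) → ℂ) := by
    exact_mod_cast hdeg
  obtain ⟨I, hIdef⟩ : ∃ I : Subgroup T,
      I = Helper20.inertia (H.subgroupOf T) (ξ : ↥(H.subgroupOf T) → ℂ) := ⟨_, rfl⟩
  rw [← hIdef] at hdegN
  have hIi0 : I.index ≠ 0 := Subgroup.index_ne_zero_of_finite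
  have hξd0 : charDegree (ξ : ↥(H.subgroupOf T) → ℂ) ≠ 0 := (Helper83.irr_degree ξ.2).1.ne'
  have vχ : (charDegree (χ : T → ℂ)).factorization p =
      n.factorization p + I.index.factorization p +
        (charDegree (ξ : ↥(H.subgroupOf T) → ℂ)).factorization p := by
    rw [hdegN, Nat.factorization_mul (Nat.mul_ne_zero hn0 hIi0) hξd0,
      Nat.factorization_mul hn0 hIi0, Finsupp.add_apply, Finsupp.add_apply]
  have hχh := height_zero_add_defect hM β hβ χ hχ h0
  have hξge := defect_add_ge (p := p) (trSet (Subgroup.subgroupOfEquivOfLe hHT) b) ξ hξb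
  have hdb : blockDefect p (trSet (Subgroup.subgroupOfEquivOfLe hHT) b) = blockDefect p b :=
    blockDefect_trSet _ b
  have cHT := (H.subgroupOf T).card_mul_index
  have hH0 : Nat.card ↥(H.subgroupOf T) ≠ 0 := Nat.card_pos.ne'
  have hi0 : (H.subgroupOf T).index ≠ 0 := Subgroup.index_ne_zero_of_finite
  have vT : (Nat.card ↥(H.subgroupOf T)).factorization p + (H.subgroupOf T).index.factorization p =
      (Nat.card T).factorization p := by
    rw [← cHT, Nat.factorization_mul hH0 hi0, Finsupp.add_apply]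
  have hrel : (H.relIndex T).factorization p = (H.subgroupOf T).index.factorization p := rfl
  have hI0 : I.index.factorization p = 0 := by omega
  have hξ0 : blockHeight p (trSet (Subgroup.subgroupOfEquivOfLe hHT) b)
      (ξ : ↥(H.subgroupOf T) → ℂ) = 0 := by
    apply height_zero_of_add _ ξ hξb
    omega
  refine ⟨trIrr (Subgroup.subgroupOfEquivOfLe hHT).symm ξ, hξb, ?_, ?_⟩
  · rw [← blockHeight_trSet]
    exact hξ0
  · refine ⟨I.map T.subtype, ?_, ?_, ?_⟩
    · rintro _ ⟨g, -, rfl⟩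
      exact g.2
    · intro g
      constructor
      · rintro ⟨t, ht, rfl⟩
        refine ⟨t.2, fun h h' hh' => ?_⟩
        rw [hIdef] at ht
        have ht' : Helper20.conjFun (H.subgroupOf T) (ξ : ↥(H.subgroupOf T) → ℂ) t = _ := ht
        have h1 := congrFun ht' ((Subgroup.subgroupOfEquivOfLe hHT).symm h)
        rw [Helper20.conjFun_apply] at h1
        show (ξ : ↥(H.subgroupOf T) → ℂ) ((Subgroup.subgroupOfEquivOfLe hHT).symm h') =
          (ξ : ↥(H.subgroupOf T) → ℂ) ((Subgroup.subgroupOfEquivOfLe hHT).symm h)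
        rw [← h1]
        refine congrArg (ξ : ↥(H.subgroupOf T) → ℂ) ?_
        apply Subtype.ext
        apply Subtype.ext
        show (((Subgroup.subgroupOfEquivOfLe hHT).symm h' : T) : G) =
          (t : G) * (((Subgroup.subgroupOfEquivOfLe hHT).symm h : T) : G) * (t : G)⁻¹
        rw [Subgroup.subgroupOfEquivOfLe_symm_apply_coe_coe,
          Subgroup.subgroupOfEquivOfLe_symm_apply_coe_coe]
        exact hh'
      · rintro ⟨hgT, hg⟩
        refine ⟨⟨g, hgT⟩, ?_, rfl⟩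
        rw [hIdef]
        show Helper20.conjFun (H.subgroupOf T) (ξ : ↥(H.subgroupOf T) → ℂ) ⟨g, hgT⟩ = _
        funext k
        rw [Helper20.conjFun_apply]
        have h1 := hg (Subgroup.subgroupOfEquivOfLe hHT k)
          (Subgroup.subgroupOfEquivOfLe hHT ⟨⟨g, hgT⟩ * k * ⟨g, hgT⟩⁻¹,
            hnorm.conj_mem k k.2 ⟨g, hgT⟩⟩) (by
              rw [Subgroup.subgroupOfEquivOfLe_apply_coe, Subgroup.subgroupOfEquivOfLe_apply_coe]
              rfl)
        have h2 : ∀ k' : ↥(H.subgroupOf T),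
            ((trIrr (Subgroup.subgroupOfEquivOfLe hHT).symm ξ : IrrCharacter H) : H → ℂ)
              (Subgroup.subgroupOfEquivOfLe hHT k') = (ξ : ↥(H.subgroupOf T) → ℂ) k' := by
          intro k'
          show (ξ : ↥(H.subgroupOf T) → ℂ) ((Subgroup.subgroupOfEquivOfLe hHT).symm
            (Subgroup.subgroupOfEquivOfLe hHT k')) = _
          rw [MulEquiv.symm_apply_apply]
        rw [h2, h2] at h1
        exact h1
    · rw [Subgroup.relIndex]
      have e : (I.map T.subtype).subgroupOf T = I :=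
        Subgroup.comap_map_eq_self_of_injective (Subgroup.subtype_injective T) _
      rw [e]
      intro hdvd
      have h9 := (hp'.dvd_iff_one_le_factorization hIi0).mp hdvd
      omega

end stab2

end Cfsg.Agent.Lib.Helper84
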