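import Mathlib
import Cfsg.Agent.Lib.Helper84.Stab2
import Cfsg.Agent.Lib.Helper22.BrCorrC
import Cfsg.Agent.Lib.Helper81.BrMax2
import Cfsg.Agent.S0965
import Cfsg.Agent.S0964
import Cfsg.Agent.S4438

/-!
# Block induction along homomorphisms (helper84)

* `indSum ι ξ g`, `IndHom M ι b B`: the induced central character and block induction along a
  group homomorphism `ι`; `IsInducedBlock M H b B` is `IndHom M H.subtype b B` and
  `IsInducedBlockIn M H K e f` is `IndHom M (Subgroup.inclusion _) e f`.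
* `IndHom.trans`, `IndHom.of_comp`: transitivity of block induction, in both forms.
* `IndHom.map`: transport along a commuting square of isomorphisms.
* `fmt_down_sub`, `fmt_up_sub`: the first main theorem between `N_G(D)` and a subgroup `H`
  containing it, in terms of `IndHom`.
-/

set_option autoImplicit false
set_option linter.style.haveILetI false

namespace Cfsg.Agent.Lib.Helper84

open Cfsg Cfsg.Agent.Lib.Helper4 Cfsg.Agent.Lib.Helper21 Cfsg.Agent.Lib.Helper22
  Cfsg.Agent.Lib.Helper81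
open scoped ComplexConjugate

section indhom

variable {p : ℕ} {M : Ideal AlgInt}

/-- the central character of `ξ` induced along a homomorphism `ι` -/
noncomputable def indSum {A G : Type*} [Group A] [Group G] (ι : A →* G) (ξ : A → ℂ) (g : G) : ℂ :=
  ∑ᶠ a ∈ {a : A | IsConj g (ι a)}, ξ a / ξ 1

/-- block induction along a homomorphism -/
def IndHom (M : Ideal AlgInt) {A G : Type*} [Group A] [Group G] (ι : A →* G)
    (b : Set (IrrCharacter A)) (B : Set (IrrCharacter G)) : Prop :=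
  IsPBlock M b ∧ IsPBlock M B ∧ ∀ ξ ∈ b, ∀ χ ∈ B, ∀ g : G,
    MemLocalIdeal M (indSum ι (ξ : A → ℂ) g - centralChar (χ : G → ℂ) g)

theorem isInducedBlock_iff_indHom {G : Type*} [Group G] (H : Subgroup G)
    (b : Set (IrrCharacter H)) (B : Set (IrrCharacter G)) :
    IsInducedBlock M H b B ↔ IndHom M H.subtype b B := Iff.rfl

theorem isInducedBlockIn_iff_indHom {G : Type*} [Group G] (H K : Subgroup G) (hKH : K ≤ H)
    (e : Set (IrrCharacter K)) (f : Set (IrrCharacter H)) :
    IsInducedBlockIn M H K e f ↔ IndHom M (Subgroup.inclusion hKH) e f := by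
  have key : ∀ (ξ : K → ℂ) (h : H),
      inducedCentralCharIn H K ξ (h : G) = indSum (Subgroup.inclusion hKH) ξ h := by
    intro ξ h
    unfold inducedCentralCharIn indSum
    have hs : {k : K | ∃ x : H, (x : G) * (k : G) * (x : G)⁻¹ = (h : G)} =
        {a : K | IsConj h (Subgroup.inclusion hKH a)} := by
      ext k
      simp only [Set.mem_ofPred_eq]
      constructor
      · rintro ⟨x, hx⟩
        rw [isConj_comm, isConj_iff]
        refine ⟨x, Subtype.ext ?_⟩
        simpa using hx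
      · intro hc
        rw [isConj_comm, isConj_iff] at hc
        obtain ⟨x, hx⟩ := hc
        refine ⟨x, ?_⟩
        have := congrArg (Subtype.val) hx
        simpa using this
    rw [hs]
  unfold IsInducedBlockIn IndHom
  simp only [key]

open scoped Classical in
theorem indSum_eq_sum {A G : Type*} [Group A] [Fintype A] [Group G] (ι : A →* G) (ξ : A → ℂ)
    (g : G) : indSum ι ξ g = ∑ a : A, if IsConj g (ι a) then ξ a / ξ 1 else 0 := by
  unfold indSum
  rw [finsum_mem_eq_finite_toFinset_sum _ (Set.toFinite _), ← Finset.sum_filter]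
  refine Finset.sum_congr ?_ (fun _ _ => rfl)
  ext a
  simp

open scoped Classical in
theorem indSum_irr_eq_classes {H G : Type*} [Group H] [Fintype H] [Group G] (κ : H →* G)
    (ψ : IrrCharacter H) (g : G) :
    indSum κ (ψ : H → ℂ) g = ∑ C : ConjClasses H,
      (if IsConj g (κ (Quotient.out C)) then (1 : ℂ) else 0) *
        centralChar (ψ : H → ℂ) (Quotient.out C) := by
  have ha : IsClassFunction H (fun h : H => if IsConj g (κ h) then (1 : ℂ) else 0) := by
    intro h k
    have : IsConj g (κ (k * h * k⁻¹)) ↔ IsConj g (κ h) := by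
      have hc : IsConj (κ h) (κ (k * h * k⁻¹)) := by
        rw [isConj_iff]; exact ⟨κ k, by simp⟩
      exact ⟨fun h1 => h1.trans hc.symm, fun h1 => h1.trans hc⟩
    simp only [this]
  rw [← omega_eq_sum_classes _ _ (isClassFunction_irr ψ) ha, omega_def, indSum_eq_sum,
    Finset.sum_div]
  refine Finset.sum_congr rfl fun h _ => ?_
  split_ifs <;> simp

open scoped Classical in
theorem indSum_comp {A H G : Type*} [Group A] [Fintype A] [Group H] [Fintype H] [Group G]
    (ι : A →* H) (κ : H →* G) (ξ : A → ℂ) (g : G) :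
    indSum (κ.comp ι) ξ g = ∑ C : ConjClasses H,
      (if IsConj g (κ (Quotient.out C)) then (1 : ℂ) else 0) * indSum ι ξ (Quotient.out C) := by
  have h1 : ∀ C : ConjClasses H,
      (if IsConj g (κ (Quotient.out C)) then (1 : ℂ) else 0) * indSum ι ξ (Quotient.out C) =
      ∑ a : A, (if IsConj g (κ (Quotient.out C)) then (1 : ℂ) else 0) *
        (if IsConj (Quotient.out C) (ι a) then ξ a / ξ 1 else 0) := by
    intro C
    rw [indSum_eq_sum, Finset.mul_sum]
    refine Finset.sum_congr rfl fun a _ => ?_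
    congr
  rw [Finset.sum_congr rfl (fun C _ => h1 C), Finset.sum_comm, indSum_eq_sum]
  refine Finset.sum_congr rfl fun a _ => ?_
  rw [Finset.sum_eq_single (ConjClasses.mk (ι a))]
  · have h2 : IsConj (Quotient.out (ConjClasses.mk (ι a))) (ι a) := by
      rw [← ConjClasses.mk_eq_mk_iff_isConj]
      exact Quotient.out_eq _
    have h3 : IsConj g (κ (Quotient.out (ConjClasses.mk (ι a)))) ↔ IsConj g (κ (ι a)) := by
      have hc : IsConj (κ (Quotient.out (ConjClasses.mk (ι a)))) (κ (ι a)) := κ.map_isConj h2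
      exact ⟨fun h => h.trans hc, fun h => h.trans hc.symm⟩
    rw [if_pos h2]
    simp only [h3, MonoidHom.comp_apply]
    split_ifs <;> simp
  · intro C _ hC
    have h2 : ¬ IsConj (Quotient.out C) (ι a) := by
      intro h
      apply hC
      rw [← Quotient.out_eq C]
      exact ConjClasses.mk_eq_mk_iff_isConj.mpr h
    rw [if_neg h2, mul_zero]
  · intro h; exact absurd (Finset.mem_univ _) h

theorem indHom_core (hM : IsPModular p M) {A H G : Type*} [Group A] [Finite A] [Group H]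
    [Finite H] [Group G] (ι : A →* H) (κ : H →* G) (b : Set (IrrCharacter A))
    (c : Set (IrrCharacter H)) (h : IndHom M ι b c) (ξ : IrrCharacter A) (hξ : ξ ∈ b)
    (ψ : IrrCharacter H) (hψ : ψ ∈ c) (g : G) :
    MemLocalIdeal M (indSum (κ.comp ι) (ξ : A → ℂ) g - indSum κ (ψ : H → ℂ) g) := by
  classical
  letI := Fintype.ofFinite A
  letI := Fintype.ofFinite H
  rw [indSum_comp, indSum_irr_eq_classes, ← Finset.sum_sub_distrib]
  refine locIdeal_sum hM _ _ fun C _ => ?_
  rw [← mul_sub]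
  refine locIdeal_mul_left hM ?_ (h.2.2 ξ hξ ψ hψ _)
  split_ifs
  · exact locRing_one hM
  · exact locRing_zero hM

theorem IndHom.trans (hM : IsPModular p M) {A H G : Type*} [Group A] [Finite A] [Group H]
    [Finite H] [Group G] {ι : A →* H} {κ : H →* G} {b : Set (IrrCharacter A)}
    {c : Set (IrrCharacter H)} {B : Set (IrrCharacter G)} (h1 : IndHom M ι b c)
    (h2 : IndHom M κ c B) : IndHom M (κ.comp ι) b B := by
  obtain ⟨ψ, hψ⟩ := exists_mem_of_isPBlock hM h1.2.1
  refine ⟨h1.1, h2.2.1, fun ξ hξ χ hχ g => ?_⟩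
  have e1 := indHom_core hM ι κ b c h1 ξ hξ ψ hψ g
  have e2 := h2.2.2 ψ hψ χ hχ g
  have := locIdeal_add hM e1 e2
  rwa [sub_add_sub_cancel] at this

theorem IndHom.of_comp (hM : IsPModular p M) {A H G : Type*} [Group A] [Finite A] [Group H]
    [Finite H] [Group G] {ι : A →* H} {κ : H →* G} {b : Set (IrrCharacter A)}
    {c : Set (IrrCharacter H)} {B : Set (IrrCharacter G)} (h1 : IndHom M ι b c)
    (h2 : IndHom M (κ.comp ι) b B) : IndHom M κ c B := by
  obtain ⟨ξ, hξ⟩ := exists_mem_of_isPBlock hM h1.1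
  refine ⟨h1.2.1, h2.2.1, fun ψ hψ χ hχ g => ?_⟩
  have e1 := indHom_core hM ι κ b c h1 ξ hξ ψ hψ g
  have e2 := h2.2.2 ξ hξ χ hχ g
  have := locIdeal_sub hM e2 e1
  rwa [sub_sub_sub_cancel_left] at this

theorem indHom_unique (hM : IsPModular p M) {A G : Type*} [Group A] [Group G] {ι : A →* G}
    {b : Set (IrrCharacter A)} {B₁ B₂ : Set (IrrCharacter G)} (h1 : IndHom M ι b B₁)
    (h2 : IndHom M ι b B₂) : B₁ = B₂ := by
  obtain ⟨ξ, hξ⟩ := exists_mem_of_isPBlock hM h1.1
  obtain ⟨χ₁, hχ₁⟩ := exists_mem_of_isPBlock hM h1.2.1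
  obtain ⟨χ₂, hχ₂⟩ := exists_mem_of_isPBlock hM h2.2.1
  have hsb : SameBlock M (χ₁ : G → ℂ) (χ₂ : G → ℂ) := by
    intro g
    have := locIdeal_sub hM (h2.2.2 ξ hξ χ₂ hχ₂ g) (h1.2.2 ξ hξ χ₁ hχ₁ g)
    rwa [sub_sub_sub_cancel_left] at this
  have h3 : χ₂ ∈ B₁ := by
    rw [blockOf_eq_of_mem hM B₁ h1.2.1 χ₁ hχ₁]
    exact hsb
  exact block_eq_of_mem_of_mem hM h1.2.1 h2.2.1 χ₂ h3 hχ₂

/-- transport of block induction along a commuting square of isomorphisms -/
theorem IndHom.map {A A' G G' : Type*} [Group A] [Finite A] [Group A'] [Group G]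
    [Group G'] (φ : A ≃* A') (σ : G ≃* G') (ι : A →* G) (ι' : A' →* G')
    (hsq : ∀ a, σ (ι a) = ι' (φ a)) (b : Set (IrrCharacter A)) (B : Set (IrrCharacter G))
    (h : IndHom M ι b B) : IndHom M ι' (irrMap φ '' b) (irrMap σ '' B) := by
  classical
  letI := Fintype.ofFinite A
  letI : Fintype A' := Fintype.ofEquiv A φ.toEquiv
  refine ⟨isPBlock_image_irrMap φ h.1, isPBlock_image_irrMap σ h.2.1, ?_⟩
  rintro _ ⟨ξ, hξ, rfl⟩ _ ⟨χ, hχ, rfl⟩ g'
  have e1 : indSum ι' (irrMap φ ξ : A' → ℂ) g' = indSum ι (ξ : A → ℂ) (σ.symm g') := by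
    rw [indSum_eq_sum, indSum_eq_sum]
    refine (Fintype.sum_equiv φ.toEquiv _ _ fun a => ?_).symm
    have hc : IsConj (σ.symm g') (ι a) ↔ IsConj g' (ι' (φ a)) := by
      rw [← hsq a]
      constructor
      · intro h
        have := σ.toMonoidHom.map_isConj h
        simpa using this
      · intro h
        have := σ.symm.toMonoidHom.map_isConj h
        simpa using this
    show (if IsConj (σ.symm g') (ι a) then (ξ : A → ℂ) a / (ξ : A → ℂ) 1 else 0) =
      if IsConj g' (ι' (φ a)) then (irrMap φ ξ : A' → ℂ) (φ a) / (irrMap φ ξ : A' → ℂ) 1 else 0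
    simp only [hc, irrMap_apply_apply, irrMap_one]
  rw [e1, centralChar_irrMap]
  exact h.2.2 ξ hξ χ hχ _

theorem indHom_irrMap_source {A A' G : Type*} [Group A] [Finite A] [Group A'] [Group G]
    (φ : A ≃* A') (ι : A →* G) (b : Set (IrrCharacter A)) (B : Set (IrrCharacter G))
    (h : IndHom M ι b B) : IndHom M (ι.comp φ.symm.toMonoidHom) (irrMap φ '' b) B := by
  have h1 := IndHom.map φ (MulEquiv.refl G) ι (ι.comp φ.symm.toMonoidHom)
    (by intro a; simp) b B h
  have e : irrMap (MulEquiv.refl G) '' B = B := by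
    ext χ
    simp [irrMap_refl]
  rwa [e] at h1

end indhom

section fmtsub

variable {G : Type*} [Group G] [Fintype G] {p : ℕ} [Fact p.Prime] {M : Ideal AlgInt}

theorem normalizer_subtype_comp_normEquiv_symm (D H : Subgroup G)
    (hNH : Subgroup.normalizer (D : Set G) ≤ H) :
    (Subgroup.normalizer ((D.subgroupOf H : Subgroup H) : Set H)).subtype.comp
      (normEquiv D H hNH).symm.toMonoidHom = Subgroup.inclusion hNH := by
  ext y
  exact normEquiv_symm_coe D H hNH y

/-- first main theorem, downwards, between a subgroup `H ⊇ N_G(D)` and `N_G(D)` -/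
theorem fmt_down_sub (hM : IsPModular p M) (D H : Subgroup G) (hD : IsPGroup p D)
    (hNH : Subgroup.normalizer (D : Set G) ≤ H) (c : Set (IrrCharacter H)) (hc : IsPBlock M c)
    (hDc : IsDefectGroup p M c (D.subgroupOf H)) :
    ∃ b : Set (IrrCharacter (Subgroup.normalizer (D : Set G))), IsPBlock M b ∧
      IsDefectGroup p M b (D.subgroupOf (Subgroup.normalizer (D : Set G))) ∧
      IndHom M (Subgroup.inclusion hNH) b c := by
  classical
  letI : Fintype H := Fintype.ofFinite _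
  obtain ⟨b', hb', hb'D, hind, -⟩ := fmt_down hM (D.subgroupOf H) hD.comap_subtype c hc hDc
  refine ⟨irrMap (normEquiv D H hNH) '' b', isPBlock_image_irrMap _ hb', ?_, ?_⟩
  · have h1 := isDefectGroup_image_irrMap (M := M) (p := p) (normEquiv D H hNH) b' _ hb'D
    rwa [map_normEquiv] at h1
  · have h1 := indHom_irrMap_source (normEquiv D H hNH)
      (Subgroup.normalizer ((D.subgroupOf H : Subgroup H) : Set H)).subtype b' c hind
    rwa [normalizer_subtype_comp_normEquiv_symm] at h1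

/-- first main theorem, upwards, between `N_G(D)` and a subgroup `H ⊇ N_G(D)` -/
theorem fmt_up_sub (hM : IsPModular p M) (D H : Subgroup G) (hD : IsPGroup p D)
    (hNH : Subgroup.normalizer (D : Set G) ≤ H)
    (b : Set (IrrCharacter (Subgroup.normalizer (D : Set G)))) (hb : IsPBlock M b)
    (hDb : IsDefectGroup p M b (D.subgroupOf (Subgroup.normalizer (D : Set G)))) :
    ∃ c : Set (IrrCharacter H), IsPBlock M c ∧ IsDefectGroup p M c (D.subgroupOf H) ∧
      IndHom M (Subgroup.inclusion hNH) b c := by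
  classical
  letI : Fintype H := Fintype.ofFinite _
  have hb' : IsPBlock M (irrMap (normEquiv D H hNH).symm '' b) := isPBlock_image_irrMap _ hb
  have hb'D : IsDefectGroup p M (irrMap (normEquiv D H hNH).symm '' b)
      ((D.subgroupOf H).subgroupOf
        (Subgroup.normalizer ((D.subgroupOf H : Subgroup H) : Set H))) := by
    have h1 := isDefectGroup_image_irrMap (M := M) (p := p) (normEquiv D H hNH).symm b _ hDb
    rwa [map_normEquiv_symm] at h1
  obtain ⟨c, hc, hcD, hind, -⟩ := fmt_up hM (D.subgroupOf H) hD.comap_subtype _ hb' hb'D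
  refine ⟨c, hc, hcD, ?_⟩
  have h1 := indHom_irrMap_source (normEquiv D H hNH)
    (Subgroup.normalizer ((D.subgroupOf H : Subgroup H) : Set H)).subtype _ c hind
  rwa [normalizer_subtype_comp_normEquiv_symm, image_irrMap_symm_image] at h1

end fmtsub

section cover

variable {G : Type*} [Group G] [Fintype G] {p : ℕ} [Fact p.Prime] {M : Ideal AlgInt}

/-- Knörr's theorem inside a subgroup `H`, for the normal subgroup `H ⊓ N` of `H` -/
theorem knorr_sub (hM : IsPModular p M) (N : Subgroup G) [hN : N.Normal] (H : Subgroup G)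
    [Fintype ↥(H ⊓ N)] (c : Set (IrrCharacter H)) (hc : IsPBlock M c)
    (e : Set (IrrCharacter ↥(H ⊓ N))) (he : IsPBlock M e) (R : Subgroup G) (hR : R ≤ H ⊓ N)
    (heR : IsDefectGroup p M e (R.subgroupOf (H ⊓ N)))
    (hcov : ∃ ψ ∈ c, ∃ ξ ∈ e, classInner (fun l : ↥(H ⊓ N) =>
      (ψ : H → ℂ) (Subgroup.inclusion inf_le_left l)) (ξ : ↥(H ⊓ N) → ℂ) ≠ 0) :
    ∃ D : Subgroup G, D ≤ H ∧ IsDefectGroup p M c (D.subgroupOf H) ∧ D ⊓ N = R := by
  classical
  letI : Fintype H := Fintype.ofFinite _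
  haveI hnorm : ((H ⊓ N).subgroupOf H).Normal := by
    rw [Subgroup.inf_subgroupOf_left]; infer_instance
  letI : Fintype ↥((H ⊓ N).subgroupOf H) := Fintype.ofFinite _
  obtain ⟨φ, hφ⟩ : ∃ φ : ↥((H ⊓ N).subgroupOf H) ≃* ↥(H ⊓ N),
      φ = Subgroup.subgroupOfEquivOfLe (inf_le_left : H ⊓ N ≤ H) := ⟨_, rfl⟩
  have hφc : ∀ y : ↥((H ⊓ N).subgroupOf H), ((φ y : ↥(H ⊓ N)) : G) = ((y : H) : G) := by
    intro y; rw [hφ]; rfl
  have he' : IsPBlock M (irrMap φ.symm '' e) := isPBlock_image_irrMap _ he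
  have hdef : IsDefectGroup p M (irrMap φ.symm '' e)
      ((R.subgroupOf H).subgroupOf ((H ⊓ N).subgroupOf H)) := by
    have h1 := isDefectGroup_image_irrMap (M := M) (p := p) φ.symm e _ heR
    have e1 : (R.subgroupOf (H ⊓ N)).map φ.symm.toMonoidHom =
        (R.subgroupOf H).subgroupOf ((H ⊓ N).subgroupOf H) := by
      ext y
      rw [Subgroup.mem_map_equiv, Subgroup.mem_subgroupOf, Subgroup.mem_subgroupOf,
        Subgroup.mem_subgroupOf, MulEquiv.symm_symm, hφc]
    rwa [e1] at h1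
  have hcov' : ∃ χ ∈ c, ∃ θ ∈ irrMap φ.symm '' e,
      classInner (fun n : ↥((H ⊓ N).subgroupOf H) => (χ : H → ℂ) n)
        (θ : ↥((H ⊓ N).subgroupOf H) → ℂ) ≠ 0 := by
    obtain ⟨ψ, hψ, ξ, hξ, hcon⟩ := hcov
    refine ⟨ψ, hψ, irrMap φ.symm ξ, ⟨ξ, hξ, rfl⟩, ?_⟩
    have h1 := classInner_subgroupOf H (H ⊓ N) inf_le_left (ψ : H → ℂ) ξ
    have e2 : (irrMap φ.symm ξ : ↥((H ⊓ N).subgroupOf H) → ℂ) =
        (trIrr (Subgroup.subgroupOfEquivOfLe (inf_le_left : H ⊓ N ≤ H)) ξ :
          ↥((H ⊓ N).subgroupOf H) → ℂ) := by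
      funext y
      rw [hφ]
      rfl
    rw [e2, h1]
    exact hcon
  obtain ⟨P, hP, hPN⟩ := Cfsg.Agent.S4438.result p M hM ((H ⊓ N).subgroupOf H)
    (irrMap φ.symm '' e) he' (R.subgroupOf H)
    (by
      intro x hx
      rw [Subgroup.mem_subgroupOf] at hx ⊢
      exact hR hx) hdef c hc hcov'
  refine ⟨P.map H.subtype, Subgroup.map_subtype_le P, ?_, ?_⟩
  · have e3 : (P.map H.subtype).subgroupOf H = P :=
      Subgroup.comap_map_eq_self_of_injective H.subtype_injective P
    rw [e3]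
    exact hP
  · ext g
    rw [Subgroup.mem_inf, Subgroup.mem_map]
    constructor
    · rintro ⟨⟨y, hy, rfl⟩, hgN⟩
      have h1 : y ∈ P ⊓ (H ⊓ N).subgroupOf H :=
        Subgroup.mem_inf.mpr ⟨hy, Subgroup.mem_subgroupOf.mpr (Subgroup.mem_inf.mpr ⟨y.2, hgN⟩)⟩
      rw [hPN] at h1
      exact Subgroup.mem_subgroupOf.mp h1
    · intro hg
      have hgH : g ∈ H := (hR hg).1
      have h1 : (⟨g, hgH⟩ : H) ∈ P ⊓ (H ⊓ N).subgroupOf H := by
        rw [hPN]
        exact Subgroup.mem_subgroupOf.mpr hg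
      exact ⟨⟨⟨g, hgH⟩, (Subgroup.mem_inf.mp h1).1, rfl⟩, (hR hg).2⟩

/-- if `c` (a block of `H`) covers `e` (a block of `H ⊓ N`), `c` induces `B` and `e`
induces `d` in `N`, then `B` covers `d` -/
theorem cover_transfer (hM : IsPModular p M) (N : Subgroup G) [hN : N.Normal] [Fintype N]
    (H : Subgroup G) [Fintype ↥(H ⊓ N)] (c : Set (IrrCharacter H))
    (e : Set (IrrCharacter ↥(H ⊓ N))) (d : Set (IrrCharacter N)) (B : Set (IrrCharacter G))
    (hcov : ∃ ψ ∈ c, ∃ ξ ∈ e, classInner (fun l : ↥(H ⊓ N) =>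
      (ψ : H → ℂ) (Subgroup.inclusion inf_le_left l)) (ξ : ↥(H ⊓ N) → ℂ) ≠ 0)
    (hind : IsInducedBlock M H c B) (hed : IsInducedBlockIn M N (H ⊓ N) e d) :
    ∃ χ ∈ B, ∃ θ ∈ d, classInner (fun n : N => (χ : G → ℂ) n) (θ : N → ℂ) ≠ 0 := by
  classical
  letI : Fintype H := Fintype.ofFinite _
  letI : Fintype ↥((H ⊓ N).subgroupOf H) := Fintype.ofFinite _
  obtain ⟨ψ, hψ, ξ, hξ, hcon⟩ := hcov
  have hed' := (isInducedBlockIn_iff_indHom N (H ⊓ N) inf_le_right e d).mp hed
  refine (Cfsg.Agent.S0965.result p M hM N B hind.2.1 d hed.2.1).mpr fun χ hχ θ hθ n => ?_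
  have h1 : MemLocalIdeal M (indSum H.subtype (ψ : H → ℂ) (n : G) -
      centralChar (χ : G → ℂ) (n : G)) := hind.2.2 ψ hψ χ hχ n
  obtain ⟨φ, hφ⟩ : ∃ φ : ↥((H ⊓ N).subgroupOf H) ≃* ↥(H ⊓ N),
      φ = Subgroup.subgroupOfEquivOfLe (inf_le_left : H ⊓ N ≤ H) := ⟨_, rfl⟩
  have hφc : ∀ y : ↥((H ⊓ N).subgroupOf H), ((φ y : ↥(H ⊓ N)) : G) = ((y : H) : G) := by
    intro y; rw [hφ]; rfl
  have h2 : indSum H.subtype (ψ : H → ℂ) (n : G) =
      indSum (H ⊓ N).subtype (ξ : ↥(H ⊓ N) → ℂ) (n : G) := by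
    obtain ⟨z, hz⟩ : ∃ z : H → ℂ,
        z = fun h : H => if IsConj (n : G) (h : G) then (1 : ℂ) else 0 := ⟨_, rfl⟩
    have hz1 : ∀ h : H, IsConj (n : G) (h : G) → z h = 1 := by
      intro h hc
      rw [hz]
      exact if_pos hc
    have hz0 : ∀ h : H, ¬ IsConj (n : G) (h : G) → z h = 0 := by
      intro h hc
      rw [hz]
      exact if_neg hc
    have hzc : IsClassFunction H z := by
      intro h k
      have : IsConj (n : G) ((k * h * k⁻¹ : H) : G) ↔ IsConj (n : G) (h : G) := by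
        have hc : IsConj (h : G) ((k * h * k⁻¹ : H) : G) := by
          rw [isConj_iff]; exact ⟨k, by simp⟩
        exact ⟨fun h1 => h1.trans hc.symm, fun h1 => h1.trans hc⟩
      simp only [hz, this]
    have hzs : ∀ h : H, h ∉ (H ⊓ N).subgroupOf H → z h = 0 := by
      intro h hh
      simp only [hz]
      rw [if_neg]
      intro hc
      apply hh
      rw [Subgroup.mem_subgroupOf]
      refine ⟨h.2, ?_⟩
      rw [isConj_iff] at hc
      obtain ⟨x, hx⟩ := hc
      rw [← hx]
      exact hN.conj_mem _ n.2 x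
    have hcon' : classInner (fun k : ↥((H ⊓ N).subgroupOf H) => (ψ : H → ℂ) k)
        (trIrr φ ξ : ↥((H ⊓ N).subgroupOf H) → ℂ) ≠ 0 := by
      rw [hφ, classInner_subgroupOf H (H ⊓ N) inf_le_left (ψ : H → ℂ) ξ]
      exact hcon
    have h5 := omega_over ((H ⊓ N).subgroupOf H) z hzc hzs ψ (trIrr φ ξ) hcon'
    have h6 : indSum H.subtype (ψ : H → ℂ) (n : G) = omega (ψ : H → ℂ) z := by
      rw [indSum_eq_sum, omega_def, Finset.sum_div]
      refine Finset.sum_congr rfl fun h _ => ?_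
      have e1 : IsConj (n : G) (H.subtype h) ↔ IsConj (n : G) (h : G) := Iff.rfl
      by_cases hc : IsConj (n : G) (h : G)
      · rw [if_pos (e1.mpr hc), hz1 h hc, one_mul]
      · rw [if_neg (fun h' => hc (e1.mp h')), hz0 h hc, zero_mul, zero_div]
    have h7 : indSum (H ⊓ N).subtype (ξ : ↥(H ⊓ N) → ℂ) (n : G) =
        omega (trIrr φ ξ : ↥((H ⊓ N).subgroupOf H) → ℂ) (fun k' => z k') := by
      rw [indSum_eq_sum, omega_def, Finset.sum_div]
      refine (Fintype.sum_equiv φ.toEquiv _ _ fun k' => ?_).symm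
      have e1 : IsConj (n : G) ((H ⊓ N).subtype (φ.toEquiv k')) ↔
          IsConj (n : G) ((k' : H) : G) := by
        have e0 : (H ⊓ N).subtype (φ.toEquiv k') = ((k' : H) : G) := hφc k'
        rw [e0]
      have e2 : (trIrr φ ξ : ↥((H ⊓ N).subgroupOf H) → ℂ) k' =
          (ξ : ↥(H ⊓ N) → ℂ) (φ.toEquiv k') := rfl
      have e3 : (trIrr φ ξ : ↥((H ⊓ N).subgroupOf H) → ℂ) 1 = (ξ : ↥(H ⊓ N) → ℂ) 1 := by
        rw [trIrr_apply, map_one]
      beta_reduce
      by_cases hc : IsConj (n : G) ((k' : H) : G)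
      · rw [if_pos (e1.mpr hc), e2, e3, hz1 _ hc, one_mul]
      · rw [if_neg (fun h' => hc (e1.mp h')), e2, e3, hz0 _ hc, zero_mul, zero_div]
    rw [h6, h5, h7]
  have h3 := indHom_core hM (Subgroup.inclusion (inf_le_right : H ⊓ N ≤ N)) N.subtype e d hed'
    ξ hξ θ hθ (n : G)
  have e3 : N.subtype.comp (Subgroup.inclusion (inf_le_right : H ⊓ N ≤ N)) =
      (H ⊓ N).subtype := by
    ext y
    rfl
  rw [e3] at h3
  rw [h2] at h1
  have h4 := locIdeal_sub hM h3 h1
  rw [sub_sub_sub_cancel_left] at h4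
  exact h4

end cover

end Cfsg.Agent.Lib.Helper84
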