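import Mathlib
import Cfsg.Agent.Lib.Helper84.IndHom
import Cfsg.Agent.Lib.Helper81.BrSubgrp
import Cfsg.Agent.S4435
import Cfsg.Agent.S0917
import Cfsg.Agent.S0908

/-!
# Defect groups under the Fong–Reynolds correspondence (helper84)

* `fr_defectGroup`: the defect groups of the Fong–Reynolds correspondent `B'` (a block of the
  stabilizer `T` of `b`) are defect groups of `B = B'^G`.
* `knorr_over`: Knörr's theorem inside a subgroup `T ⊇ N`.
* `blockStabilizer_hT`: helper81's `blockStabilizer` satisfies the hypothesis of S4435.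
-/

set_option autoImplicit false
set_option linter.style.haveILetI false

namespace Cfsg.Agent.Lib.Helper84

open Cfsg Cfsg.Agent.Lib.Helper4 Cfsg.Agent.Lib.Helper21 Cfsg.Agent.Lib.Helper22
  Cfsg.Agent.Lib.Helper81
open scoped ComplexConjugate

section frd

variable {G : Type*} [Group G] [Fintype G] {p : ℕ} [Fact p.Prime] {M : Ideal AlgInt}

omit [Fact p.Prime] in
theorem charDegree_indFun (T : Subgroup G) (ψ : IrrCharacter T) :
    charDegree (indFun T (ψ : T → ℂ)) = T.index * charDegree (ψ : T → ℂ) := by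
  have h1 := indFun_one_card T (ψ : T → ℂ)
  obtain ⟨d, hd⟩ : ∃ d : ℕ, charDegree (ψ : T → ℂ) = d := ⟨_, rfl⟩
  have h2 : (ψ : T → ℂ) 1 = (d : ℂ) := by
    rw [← hd]
    exact (Cfsg.Agent.Lib.Helper83.irr_degree ψ.2).2
  have h3 : (Nat.card T : ℂ)⁻¹ * (Nat.card G : ℂ) = (T.index : ℂ) := by
    have h4 : (Nat.card T : ℂ) ≠ 0 := by
      exact_mod_cast Nat.card_pos.ne'
    rw [← Subgroup.index_mul_card T]
    push_cast
    field_simp
  rw [hd]
  unfold charDegree
  rw [h1, h3, h2, ← Nat.cast_mul, Complex.natCast_re, Nat.floor_natCast]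

/-- Fong–Reynolds: the defect groups of the correspondent in the stabilizer are defect groups
of the induced block -/
theorem fr_defectGroup (hM : IsPModular p M) (N : Subgroup G) [hN : N.Normal] [Fintype N]
    (b : Set (IrrCharacter N)) (hb : IsPBlock M b) (T : Subgroup G) [Fintype T]
    (hT : ∀ g : G, g ∈ T ↔ ∀ θ ∈ b, ∀ θ' : IrrCharacter N,
      (∀ n : N, (θ' : N → ℂ) n = (θ : N → ℂ) ⟨g * n * g⁻¹, hN.conj_mem n n.2 g⟩) → θ' ∈ b)
    (hNT : N ≤ T) (B' : Set (IrrCharacter T)) (hB' : IsPBlock M B')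
    (hcov' : ∃ ψ ∈ B', ∃ θ ∈ b,
      classInner (fun n : N => (ψ : T → ℂ) ⟨(n : G), hNT n.2⟩) (θ : N → ℂ) ≠ 0)
    (B : Set (IrrCharacter G)) (hind : IsInducedBlock M T B' B) (D' : Subgroup T)
    (hD' : IsDefectGroup p M B' D') : IsDefectGroup p M B (D'.map T.subtype) := by
  classical
  obtain ⟨h1, -, -⟩ := Cfsg.Agent.S4435.result p M hM N b hb T hT hNT
  obtain ⟨B₁, hind₁, -, hirr, hmem⟩ := h1 B' hB' hcov'
  have hBB : B₁ = B := indHom_unique hM ((isInducedBlock_iff_indHom _ _ _).mp hind₁)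
    ((isInducedBlock_iff_indHom _ _ _).mp hind)
  subst hBB
  have hidx : (Nat.card G).factorization p =
      T.index.factorization p + (Nat.card T).factorization p := by
    rw [← Subgroup.index_mul_card T, Nat.factorization_mul
      (Subgroup.index_ne_zero_of_finite) Nat.card_pos.ne']
    rfl
  have hdeg : ∀ ψ : IrrCharacter T,
      (charDegree (indFun T (ψ : T → ℂ))).factorization p =
        T.index.factorization p + (charDegree (ψ : T → ℂ)).factorization p := by
    intro ψ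
    rw [charDegree_indFun, Nat.factorization_mul (Subgroup.index_ne_zero_of_finite)
      (Cfsg.Agent.Lib.Helper83.irr_degree ψ.2).1.ne']
    rfl
  have hdef : blockDefect p B₁ = blockDefect p B' := by
    apply le_antisymm
    · obtain ⟨χ₁, hχ₁, h0⟩ := exists_height_zero hM B₁ hind.2.1
      obtain ⟨ψ₁, hψ₁, hχψ⟩ := (hmem χ₁).mp hχ₁
      have e1 := height_zero_add_defect hM B₁ hind.2.1 χ₁ hχ₁ h0
      have e2 := defect_add_ge (p := p) B' ψ₁ hψ₁
      rw [hχψ, hdeg ψ₁, hidx] at e1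
      omega
    · obtain ⟨ψ₀, hψ₀, h0⟩ := exists_height_zero hM B' hB'
      have hχ₀ : (⟨indFun T (ψ₀ : T → ℂ), hirr ψ₀ hψ₀⟩ : IrrCharacter G) ∈ B₁ :=
        (hmem _).mpr ⟨ψ₀, hψ₀, rfl⟩
      have e1 := height_zero_add_defect hM B' hB' ψ₀ hψ₀ h0
      have e2 := defect_add_ge (p := p) B₁ _ hχ₀
      have e3 := hdeg ψ₀
      rw [hidx] at e2
      change T.index.factorization p + (Nat.card T).factorization p ≤
        (charDegree (indFun T (ψ₀ : T → ℂ))).factorization p + blockDefect p B₁ at e2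
      omega
  obtain ⟨E, hE, hle⟩ := Cfsg.Agent.S0917.result p M hM T B' hB' B₁ hind.2.1 hind D' hD'
  have c1 := Cfsg.Agent.S0908.result p M hM B₁ hind.2.1 E hE
  have c2 := Cfsg.Agent.S0908.result p M hM B' hB' D' hD'
  have h3 : D'.map T.subtype = E := by
    refine Subgroup.eq_of_le_of_card_ge hle ?_
    rw [c1, hdef, ← c2, Subgroup.card_map_of_injective (Subgroup.subtype_injective _)]
  rw [h3]
  exact hE

/-- Knörr's theorem inside a subgroup `T ⊇ N` -/
theorem knorr_over (hM : IsPModular p M) (N : Subgroup G) [hN : N.Normal] [Fintype N]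
    (T : Subgroup G) [Fintype T] (hNT : N ≤ T) (B' : Set (IrrCharacter T))
    (hB' : IsPBlock M B') (b : Set (IrrCharacter N)) (hb : IsPBlock M b) (R : Subgroup G)
    (hRN : R ≤ N) (hbR : IsDefectGroup p M b (R.subgroupOf N))
    (hcov : ∃ ψ ∈ B', ∃ θ ∈ b,
      classInner (fun n : N => (ψ : T → ℂ) ⟨(n : G), hNT n.2⟩) (θ : N → ℂ) ≠ 0) :
    ∃ D : Subgroup G, D ≤ T ∧ IsDefectGroup p M B' (D.subgroupOf T) ∧ D ⊓ N = R := by
  classical
  letI : Fintype ↥(N.subgroupOf T) := Fintype.ofFinite _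
  obtain ⟨φ, hφ⟩ : ∃ φ : ↥(N.subgroupOf T) ≃* ↥N,
      φ = Subgroup.subgroupOfEquivOfLe hNT := ⟨_, rfl⟩
  have hφc : ∀ y : ↥(N.subgroupOf T), ((φ y : ↥N) : G) = ((y : T) : G) := by
    intro y; rw [hφ]; rfl
  have he' : IsPBlock M (irrMap φ.symm '' b) := isPBlock_image_irrMap _ hb
  have hdef : IsDefectGroup p M (irrMap φ.symm '' b)
      ((R.subgroupOf T).subgroupOf (N.subgroupOf T)) := by
    have h1 := isDefectGroup_image_irrMap (M := M) (p := p) φ.symm b _ hbR
    have e1 : (R.subgroupOf N).map φ.symm.toMonoidHom =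
        (R.subgroupOf T).subgroupOf (N.subgroupOf T) := by
      ext y
      rw [Subgroup.mem_map_equiv, Subgroup.mem_subgroupOf, Subgroup.mem_subgroupOf,
        Subgroup.mem_subgroupOf, MulEquiv.symm_symm, hφc]
    rwa [e1] at h1
  have hcov' : ∃ χ ∈ B', ∃ θ ∈ irrMap φ.symm '' b,
      classInner (fun n : ↥(N.subgroupOf T) => (χ : T → ℂ) n)
        (θ : ↥(N.subgroupOf T) → ℂ) ≠ 0 := by
    obtain ⟨ψ, hψ, ξ, hξ, hcon⟩ := hcov
    refine ⟨ψ, hψ, irrMap φ.symm ξ, ⟨ξ, hξ, rfl⟩, ?_⟩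
    have h1 := classInner_subgroupOf T N hNT (ψ : T → ℂ) ξ
    have e2 : (irrMap φ.symm ξ : ↥(N.subgroupOf T) → ℂ) =
        (trIrr (Subgroup.subgroupOfEquivOfLe hNT) ξ : ↥(N.subgroupOf T) → ℂ) := by
      funext y
      rw [hφ]
      rfl
    rw [e2, h1]
    exact hcon
  obtain ⟨P, hP, hPN⟩ := Cfsg.Agent.S4438.result p M hM (N.subgroupOf T)
    (irrMap φ.symm '' b) he' (R.subgroupOf T)
    (by
      intro x hx
      rw [Subgroup.mem_subgroupOf] at hx ⊢
      exact hRN hx) hdef B' hB' hcov'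
  refine ⟨P.map T.subtype, Subgroup.map_subtype_le P, ?_, ?_⟩
  · have e3 : (P.map T.subtype).subgroupOf T = P :=
      Subgroup.comap_map_eq_self_of_injective T.subtype_injective P
    rw [e3]
    exact hP
  · ext g
    rw [Subgroup.mem_inf, Subgroup.mem_map]
    constructor
    · rintro ⟨⟨y, hy, rfl⟩, hgN⟩
      have h1 : y ∈ P ⊓ N.subgroupOf T :=
        Subgroup.mem_inf.mpr ⟨hy, Subgroup.mem_subgroupOf.mpr hgN⟩
      rw [hPN] at h1
      exact Subgroup.mem_subgroupOf.mp h1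
    · intro hg
      have hgT : g ∈ T := hNT (hRN hg)
      have h1 : (⟨g, hgT⟩ : T) ∈ P ⊓ N.subgroupOf T := by
        rw [hPN]
        exact Subgroup.mem_subgroupOf.mpr hg
      exact ⟨⟨⟨g, hgT⟩, (Subgroup.mem_inf.mp h1).1, rfl⟩, hRN hg⟩

omit [Fact p.Prime] in
/-- the block stabilizer satisfies the hypothesis of the Fong–Reynolds statement S4435 -/
theorem blockStabilizer_hT (N : Subgroup G) [hN : N.Normal] (b : Set (IrrCharacter N)) (g : G) :
    g ∈ blockStabilizer N b ↔ ∀ θ ∈ b, ∀ θ' : IrrCharacter N,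
      (∀ n : N, (θ' : N → ℂ) n = (θ : N → ℂ) ⟨g * n * g⁻¹, hN.conj_mem n n.2 g⟩) → θ' ∈ b := by
  have hnorm : ∀ x : G, x ∈ Subgroup.normalizer (N : Set G) := by
    intro x
    rw [Subgroup.mem_normalizer_iff]
    intro n
    exact ⟨fun h => hN.conj_mem n h x, fun h => by simpa [mul_assoc] using hN.conj_mem _ h x⁻¹⟩
  have key : ∀ (θ θ' : IrrCharacter N),
      (∀ n : N, (θ' : N → ℂ) n = (θ : N → ℂ) ⟨g * n * g⁻¹, hN.conj_mem n n.2 g⟩) ↔
        θ' = irrMap (normConj N g⁻¹ (hnorm g⁻¹)) θ := by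
    intro θ θ'
    constructor
    · intro h
      apply Subtype.ext
      funext n
      rw [h n, irrMap_apply]
      refine congrArg (θ : N → ℂ) ?_
      apply Subtype.ext
      rw [normConj_symm_apply, inv_inv]
    · rintro rfl n
      rw [irrMap_apply]
      refine congrArg (θ : N → ℂ) ?_
      apply Subtype.ext
      rw [normConj_symm_apply, inv_inv]
  constructor
  · intro hg θ hθ θ' hθ'
    have hg' : g⁻¹ ∈ blockStabilizer N b := inv_mem hg
    obtain ⟨_, h1⟩ := (stabilizesBlock_iff N b g⁻¹).mp ((mem_blockStabilizer N b g⁻¹).mp hg')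
    rw [(key θ θ').mp hθ']
    exact h1 ⟨θ, hθ, rfl⟩
  · intro h
    have h1 : g⁻¹ ∈ blockStabilizer N b := by
      rw [mem_blockStabilizer, stabilizesBlock_iff]
      refine ⟨hnorm g⁻¹, ?_⟩
      rintro _ ⟨θ, hθ, rfl⟩
      exact h θ hθ _ ((key θ _).mpr rfl)
    have h2 := inv_mem h1
    rwa [inv_inv] at h2

end frd

end Cfsg.Agent.Lib.Helper84
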