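import Mathlib
import Cfsg.Agent.Lib.Helper84.FRDefect
import Cfsg.Agent.Lib.Helper84.Fong2

/-!
# Stable blocks, `p`-power quotients and defect groups inside the normal subgroup (helper84)

* `exists_mid_constituent`: an intermediate constituent for `N ≤ T ≤ G`.
* `stabilizes_sub`: `StabilizesBlock` read inside a subgroup `T ⊇ N`.
* `stable_defect_in`: `N ≤ L` normal in `G`, `L/N` a `p`-group, `c` an `L`-stable block of `N`,
  `B` a block of `G` covering `c` with a defect group inside `N`: then `L = N`.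
-/

set_option autoImplicit false
set_option linter.style.haveILetI false

namespace Cfsg.Agent.Lib.Helper84

open Cfsg Cfsg.Agent.Lib.Helper4 Cfsg.Agent.Lib.Helper21 Cfsg.Agent.Lib.Helper22
  Cfsg.Agent.Lib.Helper81
open scoped ComplexConjugate

universe u

section sd

variable {G : Type u} [Group G] [Fintype G] {p : ℕ} [hp : Fact p.Prime] {M : Ideal AlgInt}

omit hp in
theorem exists_mid_constituent (N T : Subgroup G) [Fintype N] [Fintype T] (hNT : N ≤ T)
    (χ : IrrCharacter G) (θ : IrrCharacter N)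
    (h : classInner (fun n : N => (χ : G → ℂ) n) (θ : N → ℂ) ≠ 0) :
    ∃ ψ : IrrCharacter T, classInner (fun t : T => (χ : G → ℂ) t) (ψ : T → ℂ) ≠ 0 ∧
      classInner (fun n : N => (ψ : T → ℂ) ⟨(n : G), hNT n.2⟩) (θ : N → ℂ) ≠ 0 := by
  classical
  have := irr_finite (G := T)
  let _ := Fintype.ofFinite (IrrCharacter T)
  by_contra hcon
  push Not at hcon
  apply h
  rw [Cfsg.Agent.Lib.Helper33.classInner_res_expansion N T hNT _ (isClassFunction_irr χ)]
  refine Finset.sum_eq_zero fun ξ _ => ?_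
  by_cases h1 : classInner (fun t : T => (χ : G → ℂ) t) (ξ : T → ℂ) = 0
  · rw [h1, zero_mul]
  · have h2 : classInner (Cfsg.Agent.Lib.Helper33.resN N T hNT (ξ : T → ℂ)) (θ : N → ℂ) = 0 :=
      hcon ξ h1
    rw [h2, mul_zero]

omit [Fintype G] hp in
theorem stabilizes_sub (N T : Subgroup G) [hN : N.Normal] (hNT : N ≤ T)
    (c : Set (IrrCharacter N)) (x : T) (h : StabilizesBlock N c (x : G)) :
    StabilizesBlock (N.subgroupOf T)
      (irrMap (Subgroup.subgroupOfEquivOfLe hNT).symm '' c) x := by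
  refine ⟨?_, ?_⟩
  · rw [Subgroup.mem_normalizer_iff]
    intro n
    rw [Subgroup.mem_subgroupOf, Subgroup.mem_subgroupOf]
    exact ⟨fun h => hN.conj_mem _ h x,
      fun h => by simpa [mul_assoc] using hN.conj_mem _ h (x : G)⁻¹⟩
  · rintro _ ⟨χ, hχ, rfl⟩
    obtain ⟨χ₂, hχ₂, hc⟩ := h.2 χ hχ
    refine ⟨irrMap _ χ₂, ⟨χ₂, hχ₂, rfl⟩, ?_⟩
    intro k k' hk
    rw [irrMap_apply, irrMap_apply, MulEquiv.symm_symm]
    refine hc _ _ ?_
    have h1 := congrArg (Subtype.val : T → G) hk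
    exact h1

omit [Fintype G] hp in
theorem irrConjFun_mem_of_stabilizes (N : Subgroup G) [hN : N.Normal] (c : Set (IrrCharacter N))
    (hst : ∀ x : G, StabilizesBlock N c x) :
    ∀ φ ∈ c, ∀ g : G, irrConjFun N φ g ∈ c := by
  intro φ hφ g
  obtain ⟨χ', hχ', hconj⟩ := (hst g⁻¹).2 φ hφ
  have e : irrConjFun N φ g = χ' := by
    apply Subtype.ext
    funext n
    have h1 := hconj ⟨g * n * g⁻¹, hN.conj_mem n n.2 g⟩ n (by simp; group)
    rw [h1]
    rfl
  rw [e]
  exact hχ'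

/-- `N ≤ L` normal in `G` with `L/N` a `p`-group, `c` an `L`-stable block of `N`, `B` a block
of `G` covering `c` and having a defect group inside `N`: then `L = N` -/
theorem stable_defect_in (hM : IsPModular p M) (N L : Subgroup G) [hN : N.Normal]
    [hL : L.Normal] [Fintype N] (hNL : N ≤ L)
    (hidx : ∃ k : ℕ, (N.subgroupOf L).index = p ^ k)
    (c : Set (IrrCharacter N)) (hc : IsPBlock M c) (hst : ∀ x ∈ L, StabilizesBlock N c x)
    (B : Set (IrrCharacter G)) (hB : IsPBlock M B)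
    (hcov : ∃ χ ∈ B, ∃ θ ∈ c, classInner (fun n : N => (χ : G → ℂ) n) (θ : N → ℂ) ≠ 0)
    (D : Subgroup G) (hD : IsDefectGroup p M B D) (hDN : D ≤ N) : L ≤ N := by
  classical
  letI : Fintype L := Fintype.ofFinite _
  letI : Fintype ↥(N.subgroupOf L) := Fintype.ofFinite _
  obtain ⟨φ, hφ⟩ : ∃ φ : ↥(N.subgroupOf L) ≃* ↥N,
      φ = Subgroup.subgroupOfEquivOfLe hNL := ⟨_, rfl⟩
  obtain ⟨cL, hcLdef⟩ : ∃ cL : Set (IrrCharacter ↥(N.subgroupOf L)),
      cL = irrMap φ.symm '' c := ⟨_, rfl⟩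
  have hcL : IsPBlock M cL := by
    rw [hcLdef]
    exact isPBlock_image_irrMap _ hc
  have hstL : ∀ x : L, StabilizesBlock (N.subgroupOf L) cL x := by
    intro x
    rw [hcLdef, hφ]
    exact stabilizes_sub N L hNL c x (hst x x.2)
  have hA := irrConjFun_mem_of_stabilizes (N.subgroupOf L) cL hstL
  obtain ⟨hblk, hunq⟩ := isPBlock_overSet_of_pquot hM (N.subgroupOf L) hidx cL hcL hA
  obtain ⟨χ, hχ, θ, hθ, hcon⟩ := hcov
  obtain ⟨ψ, hχψ, hψθ⟩ := exists_mid_constituent N L hNL χ θ hcon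
  have hψθ' : classInner (fun n : ↥(N.subgroupOf L) => (ψ : L → ℂ) n)
      (irrMap φ.symm θ : ↥(N.subgroupOf L) → ℂ) ≠ 0 := by
    have h1 := classInner_subgroupOf L N hNL (ψ : L → ℂ) θ
    have e2 : (irrMap φ.symm θ : ↥(N.subgroupOf L) → ℂ) =
        (trIrr (Subgroup.subgroupOfEquivOfLe hNL) θ : ↥(N.subgroupOf L) → ℂ) := by
      funext y
      rw [hφ]
      rfl
    rw [e2, h1]
    exact hψθ
  have hψC : ψ ∈ overSet (N.subgroupOf L) cL :=
    ⟨irrMap φ.symm θ, by rw [hcLdef]; exact ⟨θ, hθ, rfl⟩, hψθ'⟩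
  have hcovC : ∃ ψ ∈ overSet (N.subgroupOf L) cL, ∃ θ' ∈ cL,
      classInner (fun n : ↥(N.subgroupOf L) => (ψ : L → ℂ) n)
        (θ' : ↥(N.subgroupOf L) → ℂ) ≠ 0 :=
    ⟨ψ, hψC, irrMap φ.symm θ, by rw [hcLdef]; exact ⟨θ, hθ, rfl⟩, hψθ'⟩
  have hmax : ∀ B' : Set (IrrCharacter L), IsPBlock M B' →
      (∃ χ ∈ B', ∃ θ ∈ cL, classInner (fun n : ↥(N.subgroupOf L) => (χ : L → ℂ) n)
        (θ : ↥(N.subgroupOf L) → ℂ) ≠ 0) →
      blockDefect p B' ≤ blockDefect p (overSet (N.subgroupOf L) cL) := by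
    intro B' hB' hcov'
    rw [hunq B' hB' hcov']
  -- a defect group of the covering block of `L`
  obtain ⟨y, hy⟩ := Cfsg.Agent.S0906.result p M hM _ hblk
  obtain ⟨S⟩ : Nonempty (Sylow p (Subgroup.centralizer ({y} : Set ↥L))) := inferInstance
  obtain ⟨PL, hPLdef⟩ : ∃ PL : Subgroup ↥L,
      PL = (S : Subgroup (Subgroup.centralizer ({y} : Set ↥L))).map
        (Subgroup.centralizer ({y} : Set ↥L)).subtype := ⟨_, rfl⟩
  have hPL : IsDefectGroup p M (overSet (N.subgroupOf L) cL) PL := ⟨y, hy, S, hPLdef⟩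
  obtain ⟨h1, -, -⟩ := fong_main hM (N.subgroupOf L) cL hcL hA _ hblk hcovC hmax PL hPL
  -- Knörr in `G` for the normal subgroup `L`
  have hPLsub : (PL.map L.subtype).subgroupOf L = PL :=
    Subgroup.comap_map_eq_self_of_injective L.subtype_injective PL
  obtain ⟨P, hP, hPL'⟩ := Cfsg.Agent.S4438.result p M hM L (overSet (N.subgroupOf L) cL) hblk
    (PL.map L.subtype) (Subgroup.map_subtype_le PL) (by rw [hPLsub]; exact hPL) B hB
    ⟨χ, hχ, ψ, hψC, hχψ⟩
  obtain ⟨x, hx⟩ := defectGroup_conj hM B hB D P hD hP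
  have hPN : P ≤ N := by
    intro z hz
    rw [← hx, Subgroup.mem_map_equiv, MulAut.conj_symm_apply] at hz
    have h2 := hN.conj_mem _ (hDN hz) x
    have e : x * (x⁻¹ * z * x) * x⁻¹ = z := by group
    rwa [e] at h2
  have hPLN : PL ≤ N.subgroupOf L := by
    intro z hz
    rw [Subgroup.mem_subgroupOf]
    have h2 : (z : G) ∈ P ⊓ L := by
      rw [hPL']
      exact ⟨z, hz, rfl⟩
    exact hPN (Subgroup.mem_inf.mp h2).1
  rw [sup_eq_right.mpr hPLN] at h1
  obtain ⟨k, hk⟩ := hidx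
  have hk0 : k = 0 := by
    by_contra hne
    apply h1
    rw [hk]
    exact dvd_pow_self p hne
  rw [hk0, pow_zero, Subgroup.index_eq_one] at hk
  intro l hl
  have h2 : (⟨l, hl⟩ : L) ∈ N.subgroupOf L := by
    rw [hk]
    exact Subgroup.mem_top _
  exact Subgroup.mem_subgroupOf.mp h2

end sd

end Cfsg.Agent.Lib.Helper84
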