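import Mathlib
import Cfsg.Agent.Lib.Helper84.Core
import Cfsg.Agent.Lib.Helper84.StabDefect
import Cfsg.Agent.Lib.Helper21.Loc2
import Cfsg.Agent.Lib.Helper82.ResMult
import Cfsg.Agent.Lib.Helper82.Principal
import Cfsg.Agent.Lib.Helper83.Rg1
import Cfsg.Agent.Lib.Helper12.Ambivalent
import Cfsg.Agent.Lib.Helper35.Ind
import Cfsg.Agent.Lib.Helper4.CharSimple

/-!
# Principal blocks and a normal subgroup supplemented by the centralizer of a Sylow subgroup

Basic lemmas (helper84):

* `principal_near_one`: members of the principal block take values congruent to their degree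
  at the elements centralizing a Sylow subgroup.
* `irr_trivial_of_near`: an irreducible character of a group of order prime to `p` whose values
  are all congruent to its degree is trivial.
* `ext_unique`: uniqueness of extensions with values congruent to the degree.
* `dade_invariant`: members of the principal block of `N` are invariant when `G = N C_G(P)`.
-/

set_option autoImplicit false
set_option linter.style.haveILetI false

namespace Cfsg.Agent.Lib.Helper84.AD

open Cfsg
open Cfsg.Agent.Lib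
open Cfsg.Agent.Lib.Helper21
open scoped ComplexConjugate

universe u

/-- the value of `χ` at `x` is congruent to the degree: `χ x / χ 1 ≡ 1` modulo the local ideal -/
def Near1 {H : Type u} [Group H] (M : Ideal AlgInt) (χ : H → ℂ) (x : H) : Prop :=
  MemLocalIdeal M (χ x / χ 1 - 1)

theorem principal_near_one {H : Type u} [Group H] [Finite H] {p : ℕ} {M : Ideal AlgInt}
    (hM : IsPModular p M) (χ : IrrCharacter H) (hχ : χ ∈ principalBlock M H) (x : H)
    (hx : ¬ p ∣ (Subgroup.centralizer ({x} : Set H)).index) : Near1 M (χ : H → ℂ) x := by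
  have h : MemLocalIdeal M (centralChar (fun _ : H => (1 : ℂ)) x - centralChar (χ : H → ℂ) x) :=
    hχ x
  unfold centralChar at h
  have hm0 : ((Subgroup.centralizer ({x} : Set H)).index : ℂ) ≠ 0 := by
    intro h0
    have h1 : (Subgroup.centralizer ({x} : Set H)).index = 0 := by exact_mod_cast h0
    exact hx (h1 ▸ dvd_zero p)
  have h2 := locIdeal_mul_left hM (locRing_neg (locRing_inv_natCast hM hx)) h
  unfold Near1
  have e : χ.1 x / χ.1 1 - 1 = -((Subgroup.centralizer ({x} : Set H)).index : ℂ)⁻¹ *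
      (((Subgroup.centralizer ({x} : Set H)).index : ℂ) * 1 / 1 -
        ((Subgroup.centralizer ({x} : Set H)).index : ℂ) * χ.1 x / χ.1 1) := by
    rw [mul_div_assoc, mul_div_assoc, div_one, ← mul_sub, ← mul_assoc, neg_mul,
      inv_mul_cancel₀ hm0]
    ring
  rw [e]
  exact h2

theorem sylow_centralizer_index {H : Type u} [Group H] [Finite H] {p : ℕ} [Fact p.Prime]
    (P : Sylow p H) (x : H) (hx : x ∈ Subgroup.centralizer ((P : Subgroup H) : Set H)) :
    ¬ p ∣ (Subgroup.centralizer ({x} : Set H)).index := by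
  have hle : (P : Subgroup H) ≤ Subgroup.centralizer ({x} : Set H) := by
    intro y hy
    rw [Subgroup.mem_centralizer_iff]
    intro z hz
    rw [Set.mem_singleton_iff] at hz
    subst hz
    exact (Subgroup.mem_centralizer_iff.mp hx y hy).symm
  intro hdvd
  exact P.not_dvd_index (dvd_trans hdvd (Subgroup.index_dvd_of_le hle))

theorem irr_trivial_of_near {Q : Type u} [Group Q] [Finite Q] {p : ℕ} {M : Ideal AlgInt}
    (hM : IsPModular p M) (hQ : ¬ p ∣ Nat.card Q) (β : IrrCharacter Q)
    (h : ∀ q : Q, MemLocalIdeal M ((β : Q → ℂ) q - (β : Q → ℂ) 1)) :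
    (β : Q → ℂ) = fun _ => 1 := by
  classical
  letI := Fintype.ofFinite Q
  by_contra hne
  have hp : p.Prime := hM.1
  have hbt : β ≠ (⟨fun _ => 1, irr_trivial⟩ : IrrCharacter Q) :=
    fun e => hne (congrArg Subtype.val e)
  have h1 : ∑ q : Q, β.1 q = 0 := by
    have h0 := irr_row_orth β (⟨fun _ => 1, irr_trivial⟩ : IrrCharacter Q)
    rw [if_neg hbt] at h0
    simpa using h0
  have hd := irr_one β
  have h2 : MemLocalIdeal M (∑ q : Q, (β.1 q - β.1 1)) :=
    locIdeal_sum hM _ _ (fun q _ => h q)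
  rw [Finset.sum_sub_distrib, h1, Finset.sum_const, Finset.card_univ, nsmul_eq_mul, zero_sub,
    hd] at h2
  have h3 : MemLocalIdeal M ((Fintype.card Q * charDegree β.1 : ℕ) : ℂ) := by
    have h0 := locIdeal_neg h2
    rw [neg_neg] at h0
    rw [Nat.cast_mul]
    exact h0
  rw [locIdeal_natCast_iff hM] at h3
  have h4 : p ∣ charDegree β.1 := by
    rcases hp.dvd_mul.mp h3 with h5 | h5
    · exact absurd (by rwa [Nat.card_eq_fintype_card]) hQ
    · exact h5
  have h5 : MemLocalIdeal M (β.1 1) := by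
    rw [hd]; exact (locIdeal_natCast_iff hM _).mpr h4
  have h6 : ∀ q : Q, MemLocalIdeal M (β.1 q) := fun q => by
    have h0 := locIdeal_add hM (h q) h5
    rwa [sub_add_cancel] at h0
  have h7 : ∑ q : Q, β.1 q * conj (β.1 q) = (Nat.card Q : ℂ) := by
    have h0 := irr_row_orth β β
    rwa [if_pos rfl] at h0
  have h8 : MemLocalIdeal M (∑ q : Q, β.1 q * conj (β.1 q)) :=
    locIdeal_sum hM _ _ (fun q _ => by
      rw [← irr_inv]
      exact locIdeal_mul_right hM (h6 q)
        (locRing_of_isIntegral hM (Helper4.irr_isIntegral β q⁻¹)))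
  rw [h7, locIdeal_natCast_iff hM] at h8
  exact hQ h8

/-- uniqueness of an extension whose values on a set of coset representatives are congruent
to the degree -/
theorem ext_unique {H : Type u} [Group H] [Fintype H] {p : ℕ} {M : Ideal AlgInt}
    (hM : IsPModular p M) (N : Subgroup H) [N.Normal] [Fintype N] (hidx : ¬ p ∣ N.index)
    (C : Set H) (hC : ∀ h : H, ∃ c ∈ C, ∃ n ∈ N, h = n * c)
    {χ₁ χ₂ : H → ℂ} (h₁ : IsIrrCharacter H χ₁) (h₂ : IsIrrCharacter H χ₂)
    (hirr : IsIrrCharacter N (fun n : N => χ₁ n))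
    (hover : classInner (fun n : N => χ₂ n) (fun n : N => χ₁ n) ≠ 0)
    (hn₁ : ∀ c ∈ C, Near1 M χ₁ c) (hn₂ : ∀ c ∈ C, Near1 M χ₂ c) : χ₂ = χ₁ := by
  classical
  obtain ⟨β, hβ⟩ := Helper83.gallagher_exists N h₁ hirr h₂ hover
  subst hβ
  have hχ1ne : χ₁ 1 ≠ 0 := by
    obtain ⟨hpos, h1⟩ := Helper83.irr_degree h₁
    rw [h1]; exact_mod_cast hpos.ne'
  have hb1 := irr_one β
  have hb1ne : β.1 1 ≠ 0 := by
    rw [hb1]; exact_mod_cast (irr_degree_pos β).ne'
  have hβ1 : (β : H ⧸ N → ℂ) = fun _ => 1 := by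
    apply irr_trivial_of_near hM ?_ β ?_
    · rw [← Subgroup.index_eq_card]; exact hidx
    · intro q
      obtain ⟨g, rfl⟩ := QuotientGroup.mk_surjective q
      obtain ⟨c, hc, n, hn, rfl⟩ := hC g
      have hq : ((n * c : H) : H ⧸ N) = (c : H ⧸ N) := by
        rw [QuotientGroup.mk_mul, (QuotientGroup.eq_one_iff n).mpr hn, one_mul]
      rw [hq]
      have e2 := hn₂ c hc
      have e1 := hn₁ c hc
      unfold Near1 at e1 e2
      have f2 := locIdeal_mul_left hM
        (locRing_of_isIntegral hM (Helper4.irr_isIntegral β 1)) e2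
      have f1 := locIdeal_mul_left hM
        (locRing_of_isIntegral hM (Helper4.irr_isIntegral β (c : H ⧸ N))) e1
      have f3 := locIdeal_sub hM f2 f1
      have e : β.1 (c : H ⧸ N) - β.1 1 =
          β.1 1 * (β.1 (c : H ⧸ N) * χ₁ c / (β.1 ((1 : H) : H ⧸ N) * χ₁ 1) - 1) -
            β.1 (c : H ⧸ N) * (χ₁ c / χ₁ 1 - 1) := by
        rw [QuotientGroup.mk_one]
        field_simp
        ring
      rw [e]
      exact f3
  funext g
  show (β : H ⧸ N → ℂ) (g : H ⧸ N) * χ₁ g = χ₁ g
  rw [hβ1, one_mul]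

theorem sup_centralizer_decomp {H : Type u} [Group H] (N C : Subgroup H) [N.Normal]
    (hsup : N ⊔ C = ⊤) (x : H) : ∃ n ∈ N, ∃ c ∈ C, n * c = x := by
  have h1 : x ∈ ((N ⊔ C : Subgroup H) : Set H) := by rw [hsup]; trivial
  rw [Subgroup.normal_mul] at h1
  exact Set.mem_mul.mp h1

/-- Dade: if `H = N C_H(P)` then the members of the principal block of `N` are `H`-invariant -/
theorem dade_invariant {H : Type u} [Group H] [Finite H] {p : ℕ} [Fact p.Prime]
    {M : Ideal AlgInt} (hM : IsPModular p M) (N : Subgroup H) [hN : N.Normal] (P : Sylow p H)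
    (hsup : N ⊔ Subgroup.centralizer ((P : Subgroup H) : Set H) = ⊤)
    (θ : IrrCharacter N) (hθ : θ ∈ principalBlock M N) :
    Helper83.inertia N (θ : N → ℂ) = ⊤ := by
  classical
  letI := Fintype.ofFinite H
  letI := Fintype.ofFinite N
  by_contra hT
  obtain ⟨χ, hχ, hres⟩ := Helper82.exists_over_principal N hM θ hθ
  have hover : classInner (fun n : N => (χ : H → ℂ) n) (θ : N → ℂ) ≠ 0 := by
    rw [Helper82.resMult_spec]; exact_mod_cast hres
  obtain ⟨T, hTdef⟩ : ∃ T : Subgroup H, T = Helper83.inertia N (θ : N → ℂ) := ⟨_, rfl⟩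
  rw [← hTdef] at hT
  letI := Fintype.ofFinite T
  have hNT : N ≤ T := hTdef ▸ Helper83.le_inertia N θ.2
  have hTiff : ∀ g : H, g ∈ T ↔ Helper20.conjFun N (θ : N → ℂ) g = θ := by
    intro g; rw [hTdef]; exact Iff.rfl
  obtain ⟨ψ, hψ1, hψ2⟩ := exists_mid_constituent N T hNT χ θ hover
  have hind := Helper83.clifford_ind N θ.2 T hTiff hNT ψ.2 hψ2
  have hcf : IsClassFunction H (χ : H → ℂ) :=
    Helper35.isClassFunction_of_isCharacter (Helper35.isChar_of_irr χ.2)
  have hfr : classInner (χ : H → ℂ) (indFun T (ψ : T → ℂ)) =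
      classInner (Helper35.res T (χ : H → ℂ)) (ψ : T → ℂ) :=
    Helper35.frobenius_reciprocity' T _ _ hcf
  have hχeq : (χ : H → ℂ) = indFun T (ψ : T → ℂ) := by
    by_contra hne
    have h0 := Helper35.classInner_irr' χ.2 hind.1
    rw [if_neg hne, hfr] at h0
    exact hψ1 h0
  obtain ⟨x₀, hx₀⟩ := Helper12.exists_forall_conj_notMem T hT
  obtain ⟨n, hn, c, hc, hnc⟩ := sup_centralizer_decomp N _ hsup x₀
  have hcT : ∀ g : H, g⁻¹ * c * g ∉ T := by
    intro g hg
    apply hx₀ g
    rw [← hnc]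
    have h0 : g⁻¹ * (n * c) * g = (g⁻¹ * n * g⁻¹⁻¹) * (g⁻¹ * c * g) := by group
    rw [h0]
    exact T.mul_mem (hNT (hN.conj_mem n hn g⁻¹)) hg
  have hχc : (χ : H → ℂ) c = 0 := by
    rw [hχeq, Helper4.indFun_apply, Finset.sum_eq_zero, mul_zero]
    intro x _
    exact Helper4.extendByZero_apply_not_mem T _ (hcT x)
  have hnear := principal_near_one hM χ hχ c (sylow_centralizer_index P c hc)
  unfold Near1 at hnear
  rw [hχc, zero_div, zero_sub] at hnear
  have h0 := locIdeal_neg hnear
  rw [neg_neg] at h0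
  exact locIdeal_one_not hM h0

end Cfsg.Agent.Lib.Helper84.AD
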