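import Mathlib
import Cfsg.Agent.Lib.Helper84.AD1
import Cfsg.Agent.Lib.Helper84.AD2
import Cfsg.Agent.Lib.Helper20.ExtPrime
import Cfsg.Agent.Lib.Helper35.Abel

/-!
# Extension of principal block characters from a normal subgroup of index prime to `p`
supplemented by the centralizer of a Sylow subgroup (helper84)

* `exists_ext_solv`: existence of an extension in the principal block when the quotient is
  solvable.
-/

set_option autoImplicit false
set_option linter.style.haveILetI false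

namespace Cfsg.Agent.Lib.Helper84.AD

open Cfsg
open Cfsg.Agent.Lib
open Cfsg.Agent.Lib.Helper21
open scoped ComplexConjugate
open scoped commutatorElement

universe u

theorem sylow_le_normal {H : Type u} [Group H] [Finite H] {p : ℕ} [Fact p.Prime]
    (N : Subgroup H) [N.Normal] (hidx : ¬ p ∣ N.index) (P : Sylow p H) :
    (P : Subgroup H) ≤ N := by
  intro y hy
  have h1 : orderOf ((y : H) : H ⧸ N) ∣ orderOf y := orderOf_map_dvd (QuotientGroup.mk' N) y
  have h2 : orderOf ((y : H) : H ⧸ N) ∣ N.index := by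
    rw [Subgroup.index_eq_card]; exact orderOf_dvd_natCard _
  obtain ⟨k, hk⟩ := (IsPGroup.iff_orderOf.mp P.isPGroup') ⟨y, hy⟩
  have h3 : orderOf y = p ^ k := by
    rw [← hk]; exact Subgroup.orderOf_coe (⟨y, hy⟩ : (P : Subgroup H))
  have hcop : Nat.Coprime (p ^ k) N.index :=
    Nat.Coprime.pow_left k ((Nat.Prime.coprime_iff_not_dvd Fact.out).mpr hidx)
  have h4 : orderOf ((y : H) : H ⧸ N) = 1 := Nat.eq_one_of_dvd_coprimes hcop (h3 ▸ h1) h2
  rw [orderOf_eq_one_iff] at h4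
  exact (QuotientGroup.eq_one_iff y).mp h4

theorem sup_centralizer_sub {H : Type u} [Group H] [Finite H] {p : ℕ} [Fact p.Prime]
    (N : Subgroup H) [N.Normal] (P : Sylow p H)
    (hsup : N ⊔ Subgroup.centralizer ((P : Subgroup H) : Set H) = ⊤) (K : Subgroup H)
    (hNK : N ≤ K) (hPK : (P : Subgroup H) ≤ K) :
    N.subgroupOf K ⊔
      Subgroup.centralizer (((P.subtype hPK : Sylow p K) : Subgroup K) : Set K) = ⊤ := by
  rw [eq_top_iff]
  intro m _
  obtain ⟨n, hn, c, hc, hnc⟩ := sup_centralizer_decomp N _ hsup (m : H)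
  have hcK : c ∈ K := by
    have h0 : c = n⁻¹ * (m : H) := by rw [← hnc]; group
    rw [h0]; exact K.mul_mem (K.inv_mem (hNK hn)) m.2
  have hm : m = (⟨n, hNK hn⟩ : K) * ⟨c, hcK⟩ := Subtype.ext hnc.symm
  rw [hm]
  apply Subgroup.mul_mem_sup
  · exact Subgroup.mem_subgroupOf.mpr hn
  · rw [Subgroup.mem_centralizer_iff]
    intro y hy
    have hyP : (y : H) ∈ (P : Subgroup H) := Subgroup.mem_subgroupOf.mp hy
    apply Subtype.ext
    exact Subgroup.mem_centralizer_iff.mp hc (y : H) hyP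

theorem quot_comm_of_commutator_le {H : Type u} [Group H] (K : Subgroup H) [K.Normal]
    (hcomm : commutator H ≤ K) (a b : H ⧸ K) : a * b = b * a := by
  obtain ⟨x, rfl⟩ := QuotientGroup.mk_surjective a
  obtain ⟨y, rfl⟩ := QuotientGroup.mk_surjective b
  rw [← QuotientGroup.mk_mul, ← QuotientGroup.mk_mul, QuotientGroup.eq]
  apply hcomm
  have h0 : (x * y)⁻¹ * (y * x) = ⁅y⁻¹, x⁻¹⁆ := by
    rw [commutatorElement_def]; group
  rw [h0, commutator_def]
  exact Subgroup.commutator_mem_commutator (Subgroup.mem_top _) (Subgroup.mem_top _)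

/-- existence of an extension in the principal block, solvable quotient -/
theorem exists_ext_solv {p : ℕ} [Fact p.Prime] {M : Ideal AlgInt} (hM : IsPModular p M) :
    ∀ (k : ℕ) (H : Type u) [Group H] [Finite H], Nat.card H = k →
    ∀ (N : Subgroup H) [N.Normal], ¬ p ∣ N.index → Group.IsSolvable (H ⧸ N) →
    ∀ (P : Sylow p H), N ⊔ Subgroup.centralizer ((P : Subgroup H) : Set H) = ⊤ →
    ∀ (θ : IrrCharacter N), θ ∈ principalBlock M N →
    ∃ χ : IrrCharacter H, χ ∈ principalBlock M H ∧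
      ∀ n : N, (χ : H → ℂ) n = (θ : N → ℂ) n := by
  intro k
  induction k using Nat.strong_induction_on with
  | _ k ih =>
  intro H _ _ hk N hN hidx hsolv P hsup θ hθ
  classical
  letI : Fintype H := Fintype.ofFinite H
  by_cases hNtop : N = ⊤
  · subst hNtop
    refine ⟨Helper82.irrComp (Subgroup.topEquiv : (⊤ : Subgroup H) ≃* H).symm θ,
      Helper82.irrComp_mem_principal M _ θ hθ, fun n => ?_⟩
    show (θ : (⊤ : Subgroup H) → ℂ)
      ((Subgroup.topEquiv : (⊤ : Subgroup H) ≃* H).symm (n : H)) = (θ : _ → ℂ) n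
    congr 1
  · obtain ⟨M₁, q, hM₁n, hNM₁, hq, hM₁idx, hcomm⟩ :=
      Helper20.exists_normal_prime_index N hNtop hsolv
    have hM₁lt : Nat.card M₁ < k := by
      rw [← hk]
      have h1 := Subgroup.card_mul_index M₁
      have h4 : 0 < Nat.card M₁ := Nat.card_pos
      have h5 : 2 ≤ M₁.index := by rw [hM₁idx]; exact hq.two_le
      calc Nat.card M₁ < Nat.card M₁ * 2 := by omega
        _ ≤ Nat.card M₁ * M₁.index := Nat.mul_le_mul_left _ h5
        _ = Nat.card H := h1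
    have hidx₁ : ¬ p ∣ M₁.index :=
      fun h => hidx (dvd_trans h (Subgroup.index_dvd_of_le hNM₁))
    have hPM₁ : (P : Subgroup H) ≤ M₁ := sylow_le_normal M₁ hidx₁ P
    have hN'norm : (N.subgroupOf M₁).Normal := Subgroup.normal_subgroupOf
    have hidx' : ¬ p ∣ (N.subgroupOf M₁).index :=
      fun h => hidx (dvd_trans h (Subgroup.relIndex_dvd_index_of_le hNM₁))
    have hsolv' : Group.IsSolvable (M₁ ⧸ N.subgroupOf M₁) :=
      Helper20.solvable_quotient_subgroupOf N M₁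
    have hsup' := sup_centralizer_sub N P hsup M₁ hNM₁ hPM₁
    obtain ⟨χ₁, hχ₁, hχ₁N⟩ := ih (Nat.card M₁) hM₁lt M₁ rfl (N.subgroupOf M₁) hidx' hsolv'
      (P.subtype hPM₁) hsup' (Helper82.irrComp (Subgroup.subgroupOfEquivOfLe hNM₁) θ)
      (Helper82.irrComp_mem_principal M _ θ hθ)
    have hsup₁ : M₁ ⊔ Subgroup.centralizer ((P : Subgroup H) : Set H) = ⊤ := by
      rw [eq_top_iff, ← hsup]; exact sup_le_sup_right hNM₁ _
    have hinert := dade_invariant hM M₁ P hsup₁ χ₁ hχ₁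
    have hinv : ∀ (g : H) (m : M₁),
        (χ₁ : M₁ → ℂ) ⟨g * m * g⁻¹, hM₁n.conj_mem (m : H) m.2 g⟩ = (χ₁ : M₁ → ℂ) m := by
      intro g m
      have h1 : g ∈ Helper83.inertia M₁ (χ₁ : M₁ → ℂ) := by rw [hinert]; trivial
      exact congrFun ((Helper83.mem_inertia M₁ _ g).mp h1) m
    letI : Fintype M₁ := Fintype.ofFinite M₁
    obtain ⟨χ', hχ', hχ'M⟩ :=
      Helper20.extends_of_prime_index M₁ q hq hM₁idx hcomm (χ₁ : M₁ → ℂ) χ₁.2 hinv
    obtain ⟨χ, hχ, hres⟩ := Helper82.exists_over_principal M₁ hM χ₁ hχ₁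
    have hχ'res : (fun m : M₁ => χ' m) = (χ₁ : M₁ → ℂ) := funext hχ'M
    have hover : classInner (fun m : M₁ => (χ : H → ℂ) m) (fun m : M₁ => χ' m) ≠ 0 := by
      rw [hχ'res, Helper82.resMult_spec]; exact_mod_cast hres
    have hirr' : IsIrrCharacter M₁ (fun m : M₁ => χ' m) := by
      rw [hχ'res]; exact χ₁.2
    obtain ⟨β, hβ⟩ := Helper83.gallagher_exists M₁ hχ' hirr' χ.2 hover
    have hβ1 : (β : H ⧸ M₁ → ℂ) 1 = 1 :=
      Helper35.irr_one_of_comm (quot_comm_of_commutator_le M₁ hcomm) β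
    refine ⟨χ, hχ, fun n => ?_⟩
    have h1 : (χ : H → ℂ) (n : H) = (β : H ⧸ M₁ → ℂ) ((n : H) : H ⧸ M₁) * χ' (n : H) :=
      congrFun hβ (n : H)
    have h2 : (((n : H) : H ⧸ M₁)) = 1 := (QuotientGroup.eq_one_iff (n : H)).mpr (hNM₁ n.2)
    rw [h1, h2, hβ1, one_mul]
    have h3 := hχ'M ⟨(n : H), hNM₁ n.2⟩
    have h4 := hχ₁N ⟨⟨(n : H), hNM₁ n.2⟩, Subgroup.mem_subgroupOf.mpr n.2⟩
    rw [show χ' (n : H) = _ from h3, show (χ₁ : M₁ → ℂ) ⟨(n : H), hNM₁ n.2⟩ = _ from h4]
    show (θ : N → ℂ) (Subgroup.subgroupOfEquivOfLe hNM₁ _) = (θ : N → ℂ) n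
    congr 1

end Cfsg.Agent.Lib.Helper84.AD
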