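import Mathlib
import Cfsg.Agent.Lib.Helper84.AD3

/-!
# The Alperin–Dade restriction bijection for principal blocks (helper84)

`N` normal in `G` of index prime to `p`, `P` a Sylow `p`-subgroup with `G = N C_G(P)`.

* `IsCan`: the canonical extension of a member `θ` of the principal block of `N` to an
  intermediate subgroup: the extension whose values at the elements centralizing a Sylow
  `p`-subgroup are congruent to the degree.
* `glueData`: the canonical extensions satisfy the hypotheses of the gluing argument.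
* `main_unique`: `θ` has an extension `χ₀` to `G`, and every member of the principal block of `G`
  lying over `θ` equals `χ₀`.
-/

set_option autoImplicit false
set_option linter.style.haveILetI false

namespace Cfsg.Agent.Lib.Helper84.AD

open Cfsg
open Cfsg.Agent.Lib
open Cfsg.Agent.Lib.Helper21
open scoped ComplexConjugate

universe u

section Can

variable {G : Type u} [Group G]

/-- the canonical extension to an intermediate subgroup -/
def IsCan (M : Ideal AlgInt) (N : Subgroup G) (P : Subgroup G) (ϑ : N → ℂ) (H : Subgroup G)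
    (χ : H → ℂ) : Prop :=
  IsIrrCharacter H χ ∧ (∀ (x : H) (hx : (x : G) ∈ N), χ x = ϑ ⟨x, hx⟩) ∧
    ∀ x : H, (∃ g : G, g⁻¹ * (x : G) * g ∈ Subgroup.centralizer (P : Set G)) → Near1 M χ x

variable [Finite G] {p : ℕ} [hp : Fact p.Prime] {M : Ideal AlgInt}

theorem glueData (hM : IsPModular p M) (N : Subgroup G) [hN : N.Normal]
    (hidx : ¬ p ∣ N.index) (P : Sylow p G)
    (hsup : N ⊔ Subgroup.centralizer ((P : Subgroup G) : Set G) = ⊤)
    (θ : IrrCharacter N) (hθ : θ ∈ principalBlock M N) :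
    GlueData N (θ : N → ℂ) (IsCan M N (P : Subgroup G) (θ : N → ℂ)) := by
  classical
  have hinert := dade_invariant hM N P hsup θ hθ
  have hinv : ∀ (g : G) (n : N),
      (θ : N → ℂ) ⟨g * n * g⁻¹, hN.conj_mem (n : G) n.2 g⟩ = (θ : N → ℂ) n := by
    intro g n
    have h1 : g ∈ Helper83.inertia N (θ : N → ℂ) := by rw [hinert]; trivial
    exact congrFun ((Helper83.mem_inertia N _ g).mp h1) n
  have hsubirr : ∀ (H : Subgroup G) (hNH : N ≤ H),
      IsIrrCharacter (N.subgroupOf H) (Helper20.thetaSub N (θ : N → ℂ) H hNH) := fun H hNH =>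
    Helper20.irr_comp_surjective (Subgroup.subgroupOfEquivOfLe hNH).toMonoidHom
      (Subgroup.subgroupOfEquivOfLe hNH).surjective θ.2
  have hresfun : ∀ (H : Subgroup G) (hNH : N ≤ H) (χ : H → ℂ),
      IsCan M N (P : Subgroup G) (θ : N → ℂ) H χ →
      (fun n : N.subgroupOf H => χ n) = Helper20.thetaSub N (θ : N → ℂ) H hNH := by
    intro H hNH χ hχ
    funext x
    rw [hχ.2.1 (x : H) (Subgroup.mem_subgroupOf.mp x.2), Helper20.thetaSub_apply]
  have hPN : ∀ Q : Sylow p G, (Q : Subgroup G) ≤ N := fun Q => sylow_le_normal N hidx Q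
  refine ⟨θ.2, fun H χ h => h.1, fun H χ h => h.2.1, ?_, ?_, ?_, ?_⟩
  · -- uniqueness
    intro H hNH χ₁ χ₂ h₁ h₂
    letI : Fintype H := Fintype.ofFinite H
    letI : Fintype (N.subgroupOf H) := Fintype.ofFinite _
    have hN' : (N.subgroupOf H).Normal := Subgroup.normal_subgroupOf
    have hidx' : ¬ p ∣ (N.subgroupOf H).index :=
      fun h => hidx (dvd_trans h (Subgroup.relIndex_dvd_index_of_le hNH))
    have hirr1 : IsIrrCharacter (N.subgroupOf H) (fun n : N.subgroupOf H => χ₁ n) := by
      rw [hresfun H hNH χ₁ h₁]; exact hsubirr H hNH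
    symm
    refine ext_unique hM (N.subgroupOf H) hidx'
      {x : H | (x : G) ∈ Subgroup.centralizer ((P : Subgroup G) : Set G)} ?_ h₁.1 h₂.1 hirr1
      ?_ ?_ ?_
    · intro h
      obtain ⟨n, hn, c, hc, hnc⟩ := sup_centralizer_decomp N _ hsup (h : G)
      have hcH : c ∈ H := by
        have h0 : c = n⁻¹ * (h : G) := by rw [← hnc]; group
        rw [h0]; exact H.mul_mem (H.inv_mem (hNH hn)) h.2
      exact ⟨⟨c, hcH⟩, hc, ⟨n, hNH hn⟩, Subgroup.mem_subgroupOf.mpr hn, Subtype.ext hnc.symm⟩
    · rw [hresfun H hNH χ₂ h₂, hresfun H hNH χ₁ h₁,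
        Helper35.classInner_irr' (hsubirr H hNH) (hsubirr H hNH), if_pos rfl]
      exact one_ne_zero
    · intro c hc
      exact h₁.2.2 c ⟨1, by simpa using hc⟩
    · intro c hc
      exact h₂.2.2 c ⟨1, by simpa using hc⟩
  · -- existence
    intro H hNH hsolv
    have hN' : (N.subgroupOf H).Normal := Subgroup.normal_subgroupOf
    have hidx' : ¬ p ∣ (N.subgroupOf H).index :=
      fun h => hidx (dvd_trans h (Subgroup.relIndex_dvd_index_of_le hNH))
    have hPH : (P : Subgroup G) ≤ H := (hPN P).trans hNH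
    obtain ⟨χ, hχ, hχN⟩ := exists_ext_solv hM (Nat.card H) H rfl (N.subgroupOf H) hidx' hsolv
      (P.subtype hPH) (sup_centralizer_sub N P hsup H hNH hPH)
      (Helper82.irrComp (Subgroup.subgroupOfEquivOfLe hNH) θ)
      (Helper82.irrComp_mem_principal M _ θ hθ)
    refine ⟨(χ : H → ℂ), χ.2, ?_, ?_⟩
    · intro x hx
      have h4 := hχN ⟨x, Subgroup.mem_subgroupOf.mpr hx⟩
      rw [show (χ : H → ℂ) x = _ from h4]
      show (θ : N → ℂ) (Subgroup.subgroupOfEquivOfLe hNH _) = (θ : N → ℂ) ⟨x, hx⟩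
      congr 1
    · rintro x ⟨g, hg⟩
      have hQH : ((g • P : Sylow p G) : Subgroup G) ≤ H := (hPN (g • P)).trans hNH
      apply principal_near_one hM χ hχ x
      apply sylow_centralizer_index ((g • P : Sylow p G).subtype hQH) x
      rw [Subgroup.mem_centralizer_iff]
      intro y hy
      have hyQ : (y : G) ∈ ((g • P : Sylow p G) : Subgroup G) := Subgroup.mem_subgroupOf.mp hy
      rw [Sylow.coe_subgroup_smul, Subgroup.mem_smul_pointwise_iff_exists] at hyQ
      obtain ⟨s, hs, hsy⟩ := hyQ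
      have hsy' : g * s * g⁻¹ = (y : G) := hsy
      apply Subtype.ext
      show (y : G) * (x : G) = (x : G) * (y : G)
      have h5 := Subgroup.mem_centralizer_iff.mp hg s hs
      rw [← hsy']
      calc g * s * g⁻¹ * (x : G) = g * (s * (g⁻¹ * (x : G) * g)) * g⁻¹ := by group
        _ = g * (g⁻¹ * (x : G) * g * s) * g⁻¹ := by rw [h5]
        _ = (x : G) * (g * s * g⁻¹) := by group
  · -- restriction
    intro K H hNK hKH χ h
    have hchar : IsCharacter K (fun k : K => χ (Subgroup.inclusion hKH k)) :=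
      Helper20.isCharacter_comp (Subgroup.inclusion hKH) (Helper35.isChar_of_irr h.1)
    have hNv : ∀ (x : K) (hx : (x : G) ∈ N),
        χ (Subgroup.inclusion hKH x) = (θ : N → ℂ) ⟨x, hx⟩ :=
      fun x hx => h.2.1 (Subgroup.inclusion hKH x) hx
    refine ⟨?_, hNv, ?_⟩
    · apply Helper20.irr_of_res_irr (N.subgroupOf K) hchar
      have h1 : (fun x : N.subgroupOf K => χ (Subgroup.inclusion hKH (x : K))) =
          Helper20.thetaSub N (θ : N → ℂ) K hNK := by
        funext x
        rw [hNv (x : K) (Subgroup.mem_subgroupOf.mp x.2), Helper20.thetaSub_apply]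
      rw [h1]
      exact hsubirr K hNK
    · rintro x ⟨g, hg⟩
      have h6 := h.2.2 (Subgroup.inclusion hKH x) ⟨g, hg⟩
      unfold Near1 at h6
      show MemLocalIdeal M (χ (Subgroup.inclusion hKH x) / χ (Subgroup.inclusion hKH 1) - 1)
      rw [map_one]
      exact h6
  · -- conjugation
    intro H H' e g he χ h
    refine ⟨Helper20.irr_comp_surjective e.toMonoidHom e.surjective h.1, fun x hx => ?_, ?_⟩
    · have hmem : ((e x : H) : G) ∈ N := by
        rw [he]
        have := hN.conj_mem _ hx g⁻¹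
        rwa [inv_inv] at this
      show χ (e x) = (θ : N → ℂ) ⟨↑x, hx⟩
      rw [h.2.1 (e x) hmem, ← hinv g⁻¹ ⟨x, hx⟩]
      exact congrArg (θ : N → ℂ) (Subtype.ext (by simp [he]))
    · rintro x ⟨g₁, hg₁⟩
      have h6 := h.2.2 (e x) ⟨g⁻¹ * g₁, by
        rw [he]
        have h0 : (g⁻¹ * g₁)⁻¹ * (g⁻¹ * (x : G) * g) * (g⁻¹ * g₁) = g₁⁻¹ * (x : G) * g₁ := by
          group
        rw [h0]; exact hg₁⟩
      unfold Near1 at h6
      show MemLocalIdeal M (χ (e x) / χ (e 1) - 1)
      rw [map_one]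
      exact h6

/-- every member of the principal block of `N` has an extension `χ₀` to `G` such that every
member of the principal block of `G` lying over it equals `χ₀` -/
theorem main_unique [Fintype G] (hM : IsPModular p M) (N : Subgroup G) [hN : N.Normal]
    [Fintype N] (hidx : ¬ p ∣ N.index) (P : Sylow p G)
    (hsup : N ⊔ Subgroup.centralizer ((P : Subgroup G) : Set G) = ⊤)
    (θ : IrrCharacter N) (hθ : θ ∈ principalBlock M N) :
    ∃ χ₀ : IrrCharacter G, (∀ n : N, (χ₀ : G → ℂ) n = (θ : N → ℂ) n) ∧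
      ∀ χ : IrrCharacter G, χ ∈ principalBlock M G →
        classInner (fun n : N => (χ : G → ℂ) n) (θ : N → ℂ) ≠ 0 → χ = χ₀ := by
  classical
  have S := glueData hM N hidx P hsup θ hθ
  obtain ⟨hirr, hres⟩ := glue_irr S
  refine ⟨⟨_, hirr⟩, hres, fun χ hχ hover => ?_⟩
  apply Subtype.ext
  show (χ : G → ℂ) = glue N (IsCan M N (P : Subgroup G) (θ : N → ℂ))
  have hresfun : (fun n : N => glue N (IsCan M N (P : Subgroup G) (θ : N → ℂ)) n) =
      (θ : N → ℂ) := funext hres
  refine ext_unique hM N hidx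
    ((Subgroup.centralizer ((P : Subgroup G) : Set G) : Subgroup G) : Set G) ?_ hirr χ.2
    ?_ ?_ ?_ ?_
  · intro h
    obtain ⟨n, hn, c, hc, hnc⟩ := sup_centralizer_decomp N _ hsup h
    exact ⟨c, hc, n, hn, hnc.symm⟩
  · rw [hresfun]; exact θ.2
  · rw [hresfun]; exact hover
  · intro c hc
    obtain ⟨ψ, hψ⟩ := exists_canon_zpowers S c
    have hcm : c ∈ N ⊔ Subgroup.zpowers c := Subgroup.mem_sup_right (Subgroup.mem_zpowers c)
    have h1 := glue_eq_canon S le_sup_left hψ ⟨c, hcm⟩
    have h2 := glue_eq_canon S le_sup_left hψ 1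
    have h3 := hψ.2.2 ⟨c, hcm⟩ ⟨1, by simpa using hc⟩
    unfold Near1 at h3 ⊢
    rw [show glue N (IsCan M N (P : Subgroup G) (θ : N → ℂ)) c = _ from h1,
      show glue N (IsCan M N (P : Subgroup G) (θ : N → ℂ)) (1 : G) = _ from h2]
    exact h3
  · intro c hc
    exact principal_near_one hM χ hχ c (sylow_centralizer_index P c hc)

end Can

end Cfsg.Agent.Lib.Helper84.AD
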