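import Mathlib
import Cfsg.Agent.Lib.Helper84.AD3

/-!
# Principal block extensions over a normal subgroup: local tools (helper84)

Setting: `N` normal in `G`, `Pm ≤ N` a Sylow `p`-subgroup of `N` (as a subgroup of `G`),
`θ` a member of the principal block of `N`.

* `IsCanP`: the extension of `θ` to an intermediate subgroup `K` whose values at the elements
  of `K` centralizing `Pm` are congruent to the degree.
* `canP_unique`, `canP_exists`, `canP_res`: for `N ≤ K` with `K / N` a (solvable) group of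
  order prime to `p` and `K ⊆ N C_G(Pm)`, there is exactly one such extension, it lies in the
  principal block of `K`, and it is compatible with restriction.
* `principal_of_pregular_le`: if a subgroup `K` of `L` contains all `p`-regular elements of `L`
  and `χ` restricts to a member of the principal block of `K`, then `χ` lies in the principal
  block of `L`.
* `principal_of_local`: a local criterion for membership in the principal block of `J`.
-/

set_option autoImplicit false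
set_option linter.style.haveILetI false

namespace Cfsg.Agent.Lib.Helper84.AD

open Cfsg
open Cfsg.Agent.Lib
open Cfsg.Agent.Lib.Helper21
open scoped ComplexConjugate

universe u

section CanP

variable {G : Type u} [Group G]

/-- the extension with values congruent to the degree at the elements centralizing `Pm` -/
def IsCanP (M : Ideal AlgInt) (N Pm : Subgroup G) (ϑ : N → ℂ) (K : Subgroup G)
    (η : K → ℂ) : Prop :=
  IsIrrCharacter K η ∧ (∀ (x : K) (hx : (x : G) ∈ N), η x = ϑ ⟨x, hx⟩) ∧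
    ∀ x : K, (x : G) ∈ Subgroup.centralizer (Pm : Set G) → Near1 M η x

variable [Finite G] {p : ℕ} {M : Ideal AlgInt}

theorem thetaSub_irr (N : Subgroup G) (θ : IrrCharacter N) (K : Subgroup G) (hNK : N ≤ K) :
    IsIrrCharacter (N.subgroupOf K) (Helper20.thetaSub N (θ : N → ℂ) K hNK) :=
  Helper20.irr_comp_surjective (Subgroup.subgroupOfEquivOfLe hNK).toMonoidHom
    (Subgroup.subgroupOfEquivOfLe hNK).surjective θ.2

theorem canP_resfun {N Pm : Subgroup G} {θ : IrrCharacter N} {K : Subgroup G} (hNK : N ≤ K)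
    {η : K → ℂ} (h : IsCanP M N Pm (θ : N → ℂ) K η) :
    (fun n : N.subgroupOf K => η n) = Helper20.thetaSub N (θ : N → ℂ) K hNK := by
  funext x
  rw [h.2.1 (x : K) (Subgroup.mem_subgroupOf.mp x.2), Helper20.thetaSub_apply]

theorem canP_unique (hM : IsPModular p M) (N : Subgroup G) [N.Normal] (Pm : Subgroup G)
    (θ : IrrCharacter N) (K : Subgroup G) (hNK : N ≤ K) (hidx : ¬ p ∣ N.relIndex K)
    (hKC : ∀ k ∈ K, ∃ n ∈ N, ∃ c ∈ Subgroup.centralizer (Pm : Set G), n * c = k)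
    {η₁ η₂ : K → ℂ} (h₁ : IsCanP M N Pm (θ : N → ℂ) K η₁)
    (h₂ : IsCanP M N Pm (θ : N → ℂ) K η₂) : η₁ = η₂ := by
  classical
  letI : Fintype K := Fintype.ofFinite K
  letI : Fintype (N.subgroupOf K) := Fintype.ofFinite _
  have hN' : (N.subgroupOf K).Normal := Subgroup.normal_subgroupOf
  have hirr1 : IsIrrCharacter (N.subgroupOf K) (fun n : N.subgroupOf K => η₁ n) := by
    rw [canP_resfun hNK h₁]; exact thetaSub_irr N θ K hNK
  symm
  refine ext_unique hM (N.subgroupOf K) hidx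
    {x : K | (x : G) ∈ Subgroup.centralizer (Pm : Set G)} ?_ h₁.1 h₂.1 hirr1 ?_ ?_ ?_
  · intro h
    obtain ⟨n, hn, c, hc, hnc⟩ := hKC (h : G) h.2
    have hcK : c ∈ K := by
      have h0 : c = n⁻¹ * (h : G) := by rw [← hnc]; group
      rw [h0]; exact K.mul_mem (K.inv_mem (hNK hn)) h.2
    exact ⟨⟨c, hcK⟩, hc, ⟨n, hNK hn⟩, Subgroup.mem_subgroupOf.mpr hn, Subtype.ext hnc.symm⟩
  · rw [canP_resfun hNK h₂, canP_resfun hNK h₁,
      Helper35.classInner_irr' (thetaSub_irr N θ K hNK) (thetaSub_irr N θ K hNK), if_pos rfl]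
    exact one_ne_zero
  · intro c hc
    exact h₁.2.2 c hc
  · intro c hc
    exact h₂.2.2 c hc

theorem canP_res {N Pm : Subgroup G} [N.Normal] {θ : IrrCharacter N} {K' K : Subgroup G}
    (hNK' : N ≤ K') (hK'K : K' ≤ K) {η : K → ℂ} (h : IsCanP M N Pm (θ : N → ℂ) K η) :
    IsCanP M N Pm (θ : N → ℂ) K' (fun k : K' => η (Subgroup.inclusion hK'K k)) := by
  have hchar : IsCharacter K' (fun k : K' => η (Subgroup.inclusion hK'K k)) :=
    Helper20.isCharacter_comp (Subgroup.inclusion hK'K) (Helper35.isChar_of_irr h.1)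
  have hNv : ∀ (x : K') (hx : (x : G) ∈ N),
      η (Subgroup.inclusion hK'K x) = (θ : N → ℂ) ⟨x, hx⟩ :=
    fun x hx => h.2.1 (Subgroup.inclusion hK'K x) hx
  refine ⟨?_, hNv, ?_⟩
  · apply Helper20.irr_of_res_irr (N.subgroupOf K') hchar
    have h1 : (fun x : N.subgroupOf K' => η (Subgroup.inclusion hK'K (x : K'))) =
        Helper20.thetaSub N (θ : N → ℂ) K' hNK' := by
      funext x
      rw [hNv (x : K') (Subgroup.mem_subgroupOf.mp x.2), Helper20.thetaSub_apply]
    rw [h1]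
    exact thetaSub_irr N θ K' hNK'
  · intro x hx
    have h6 := h.2.2 (Subgroup.inclusion hK'K x) hx
    unfold Near1 at h6
    show MemLocalIdeal M (η (Subgroup.inclusion hK'K x) / η (Subgroup.inclusion hK'K 1) - 1)
    rw [map_one]
    exact h6

theorem canP_exists [Fact p.Prime] (hM : IsPModular p M) (N : Subgroup G) [N.Normal]
    (Pm : Subgroup G) (hPmN : Pm ≤ N) (hPm : IsPGroup p Pm) (hPmidx : ¬ p ∣ Pm.relIndex N)
    (θ : IrrCharacter N) (hθ : θ ∈ principalBlock M N) (K : Subgroup G) (hNK : N ≤ K)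
    (hidx : ¬ p ∣ N.relIndex K) (hsolv : Group.IsSolvable (K ⧸ N.subgroupOf K))
    (hKC : ∀ k ∈ K, ∃ n ∈ N, ∃ c ∈ Subgroup.centralizer (Pm : Set G), n * c = k) :
    ∃ η : IrrCharacter K, η ∈ principalBlock M K ∧ IsCanP M N Pm (θ : N → ℂ) K (η : K → ℂ) := by
  classical
  have hN' : (N.subgroupOf K).Normal := Subgroup.normal_subgroupOf
  have hp1 : IsPGroup p (Pm.subgroupOf K) := hPm.comap_subtype
  have hp2 : ¬ p ∣ (Pm.subgroupOf K).index := by
    have h0 : Pm.relIndex N * N.relIndex K = Pm.relIndex K :=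
      Subgroup.relIndex_mul_relIndex Pm N K hPmN hNK
    intro h
    have h1 : p ∣ Pm.relIndex N * N.relIndex K := by rw [h0]; exact h
    rcases (Nat.Prime.dvd_mul Fact.out).mp h1 with h2 | h2
    · exact hPmidx h2
    · exact hidx h2
  have hsupK : N.subgroupOf K ⊔
      Subgroup.centralizer (((hp1.toSylow hp2 : Sylow p K) : Subgroup K) : Set K) = ⊤ := by
    rw [eq_top_iff]
    intro m _
    obtain ⟨n, hn, c, hc, hnc⟩ := hKC (m : G) m.2
    have hcK : c ∈ K := by
      have h0 : c = n⁻¹ * (m : G) := by rw [← hnc]; group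
      rw [h0]; exact K.mul_mem (K.inv_mem (hNK hn)) m.2
    have hm : m = (⟨n, hNK hn⟩ : K) * ⟨c, hcK⟩ := Subtype.ext hnc.symm
    rw [hm]
    apply Subgroup.mul_mem_sup
    · exact Subgroup.mem_subgroupOf.mpr hn
    · rw [Subgroup.mem_centralizer_iff]
      intro y hy
      have hyP : (y : G) ∈ Pm := Subgroup.mem_subgroupOf.mp ((IsPGroup.mem_toSylow hp1 hp2).mp hy)
      apply Subtype.ext
      exact Subgroup.mem_centralizer_iff.mp hc (y : G) hyP
  obtain ⟨χ, hχ, hχN⟩ := exists_ext_solv hM (Nat.card K) K rfl (N.subgroupOf K) hidx hsolv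
    (hp1.toSylow hp2) hsupK (Helper82.irrComp (Subgroup.subgroupOfEquivOfLe hNK) θ)
    (Helper82.irrComp_mem_principal M _ θ hθ)
  refine ⟨χ, hχ, χ.2, ?_, ?_⟩
  · intro x hx
    have h4 := hχN ⟨x, Subgroup.mem_subgroupOf.mpr hx⟩
    rw [show (χ : K → ℂ) x = _ from h4]
    show (θ : N → ℂ) (Subgroup.subgroupOfEquivOfLe hNK _) = (θ : N → ℂ) ⟨x, hx⟩
    congr 1
  · intro x hx
    apply principal_near_one hM χ hχ x
    apply sylow_centralizer_index (hp1.toSylow hp2) x
    rw [Subgroup.mem_centralizer_iff]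
    intro y hy
    have hyP : (y : G) ∈ Pm := Subgroup.mem_subgroupOf.mp ((IsPGroup.mem_toSylow hp1 hp2).mp hy)
    apply Subtype.ext
    exact Subgroup.mem_centralizer_iff.mp hx (y : G) hyP

/-- the canonical extension lies in the principal block -/
theorem canP_mem_principal [Fact p.Prime] (hM : IsPModular p M) (N : Subgroup G) [N.Normal]
    (Pm : Subgroup G) (hPmN : Pm ≤ N) (hPm : IsPGroup p Pm) (hPmidx : ¬ p ∣ Pm.relIndex N)
    (θ : IrrCharacter N) (hθ : θ ∈ principalBlock M N) (K : Subgroup G) (hNK : N ≤ K)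
    (hidx : ¬ p ∣ N.relIndex K) (hsolv : Group.IsSolvable (K ⧸ N.subgroupOf K))
    (hKC : ∀ k ∈ K, ∃ n ∈ N, ∃ c ∈ Subgroup.centralizer (Pm : Set G), n * c = k)
    {η : K → ℂ} (h : IsCanP M N Pm (θ : N → ℂ) K η) :
    ∃ η' : IrrCharacter K, η' ∈ principalBlock M K ∧ (η' : K → ℂ) = η := by
  obtain ⟨η', hη', hcan⟩ := canP_exists hM N Pm hPmN hPm hPmidx θ hθ K hNK hidx hsolv hKC
  exact ⟨η', hη', canP_unique hM N Pm θ K hNK hidx hKC hcan h⟩

end CanP

section Local

/-- if all `p`-regular elements of `L` lie in the subgroup `K` and `χ` restricts to a member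
of the principal block of `K`, then `χ` lies in the principal block of `L` -/
theorem principal_of_pregular_le {L : Type u} [Group L] [Finite L] {p : ℕ} [Fact p.Prime]
    {M : Ideal AlgInt} (hM : IsPModular p M) (K : Subgroup L)
    (hK : ∀ l : L, ¬ p ∣ orderOf l → l ∈ K) (χ : IrrCharacter L) (φ : IrrCharacter K)
    (hφ : φ ∈ principalBlock M K) (hres : ∀ k : K, (χ : L → ℂ) k = (φ : K → ℂ) k) :
    χ ∈ principalBlock M L := by
  classical
  letI := Fintype.ofFinite L
  letI := Fintype.ofFinite K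
  rw [Helper82.mem_principal_iff_sum_pRegular hM]
  have h1 := (Helper82.mem_principal_iff_sum_pRegular hM φ).mp hφ
  have h2 : ∑ k : K, Helper82.pRegInd p K k * (φ : K → ℂ) k =
      ∑ g : L, Helper82.pRegInd p L g * (χ : L → ℂ) g := by
    apply Fintype.sum_of_injective (Subtype.val : K → L) Subtype.val_injective
    · intro g hg
      have hgK : g ∉ K := fun h => hg ⟨⟨g, h⟩, rfl⟩
      have hp : p ∣ orderOf g := by
        by_contra h0; exact hgK (hK g h0)
      rw [Helper82.pRegInd_of_sing hp, zero_mul]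
    · intro k
      rw [Helper82.pRegInd_res K k, hres k]
  rw [← h2]; exact h1

/-- index of the centralizer of an element of a subgroup, computed in the ambient group -/
theorem centralizer_subtype_index {G : Type u} [Group G] (L : Subgroup G) (x : L) :
    (Subgroup.centralizer ({x} : Set L)).index =
      (Subgroup.centralizer ({(x : G)} : Set G)).relIndex L := by
  have h : Subgroup.centralizer ({x} : Set L) =
      (Subgroup.centralizer ({(x : G)} : Set G)).subgroupOf L := by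
    ext z
    rw [Subgroup.mem_centralizer_iff, Subgroup.mem_subgroupOf, Subgroup.mem_centralizer_iff]
    constructor
    · intro h y hy
      rw [Set.mem_singleton_iff] at hy
      rw [hy]
      exact congrArg Subtype.val (h x (Set.mem_singleton x))
    · intro h y hy
      rw [Set.mem_singleton_iff] at hy
      rw [hy]
      exact Subtype.ext (h (x : G) (Set.mem_singleton _))
  rw [h]; rfl

/-- the subgroup `K S` for a subgroup `S` normalizing `K` -/
def mulSub {G : Type u} [Group G] (K S : Subgroup G)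
    (h : ∀ s ∈ S, ∀ k ∈ K, s * k * s⁻¹ ∈ K) : Subgroup G where
  carrier := {l | ∃ k ∈ K, ∃ s ∈ S, l = k * s}
  mul_mem' := by
    rintro a b ⟨k₁, hk₁, s₁, hs₁, rfl⟩ ⟨k₂, hk₂, s₂, hs₂, rfl⟩
    refine ⟨k₁ * (s₁ * k₂ * s₁⁻¹), K.mul_mem hk₁ (h s₁ hs₁ k₂ hk₂), s₁ * s₂,
      S.mul_mem hs₁ hs₂, ?_⟩
    group
  one_mem' := ⟨1, K.one_mem, 1, S.one_mem, by simp⟩
  inv_mem' := by
    rintro a ⟨k, hk, s, hs, rfl⟩
    refine ⟨s⁻¹ * k⁻¹ * s⁻¹⁻¹, h s⁻¹ (S.inv_mem hs) k⁻¹ (K.inv_mem hk), s⁻¹, S.inv_mem hs, ?_⟩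
    group

theorem mem_mulSub {G : Type u} [Group G] (K S : Subgroup G)
    (h : ∀ s ∈ S, ∀ k ∈ K, s * k * s⁻¹ ∈ K) (l : G) :
    l ∈ mulSub K S h ↔ ∃ k ∈ K, ∃ s ∈ S, l = k * s := Iff.rfl

/-- in `K S` with `S` a `p`-group normalizing `K`, the `p`-regular elements lie in `K` -/
theorem pregular_mem_of_mulSub {G : Type u} [Group G] {p : ℕ} [Fact p.Prime] (K S : Subgroup G)
    (h : ∀ s ∈ S, ∀ k ∈ K, s * k * s⁻¹ ∈ K) (hS : IsPGroup p S) (l : G)
    (hl : l ∈ mulSub K S h) (hlp : ¬ p ∣ orderOf l) : l ∈ K := by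
  obtain ⟨k, hk, s, hs, rfl⟩ := hl
  obtain ⟨t', ht'⟩ := hS ⟨s, hs⟩
  have hs1 : s ^ (p ^ t') = 1 := congrArg Subtype.val ht'
  have hpow : ∀ j : ℕ, ∃ k' ∈ K, (k * s) ^ j = k' * s ^ j := by
    intro j
    induction j with
    | zero => exact ⟨1, K.one_mem, by simp⟩
    | succ j ih =>
      obtain ⟨k', hk', e⟩ := ih
      refine ⟨k' * (s ^ j * k * (s ^ j)⁻¹), K.mul_mem hk' (h _ (S.pow_mem hs j) k hk), ?_⟩
      rw [pow_succ, e, pow_succ]; group
  obtain ⟨k', hk', e⟩ := hpow (p ^ t')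
  rw [hs1, mul_one] at e
  have hcop : (p ^ t').Coprime (orderOf (k * s)) :=
    Nat.Coprime.pow_left _ ((Nat.Prime.coprime_iff_not_dvd Fact.out).mpr hlp)
  obtain ⟨m', hm'⟩ := exists_pow_eq_self_of_coprime hcop
  rw [← hm', e]
  exact K.pow_mem hk' m'

/-- local criterion for membership in the principal block of a subgroup `J`: for every `x ∈ J`
there is a subgroup `K ≤ J`, normalized by `C_J(x)`, with `x ∈ K u` for some `p`-element
`u ∈ C_J(x)`, such that `χ` restricts to a member of the principal block of `K`. -/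
theorem principal_of_local {G : Type u} [Group G] [Finite G] {p : ℕ} [Fact p.Prime]
    {M : Ideal AlgInt} (hM : IsPModular p M) (J : Subgroup G) (χ : IrrCharacter J)
    (hloc : ∀ x : J, ∃ (K : Subgroup G) (hKJ : K ≤ J),
      (∀ g ∈ J, g * (x : G) = (x : G) * g → ∀ k ∈ K, g * k * g⁻¹ ∈ K) ∧
      (∃ u ∈ J, u * (x : G) = (x : G) * u ∧ (∃ t : ℕ, u ^ (p ^ t) = 1) ∧ (x : G) * u⁻¹ ∈ K) ∧
      ∃ φ : IrrCharacter K, φ ∈ principalBlock M K ∧
        ∀ k : K, (φ : K → ℂ) k = (χ : J → ℂ) ⟨k, hKJ k.2⟩) :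
    χ ∈ principalBlock M J := by
  classical
  intro x
  obtain ⟨K, hKJ, hnorm, ⟨u, huJ, hux, ⟨t, hut⟩, hxu⟩, φ, hφ, hφχ⟩ := hloc x
  obtain ⟨Cx, hCx⟩ : ∃ Cx : Subgroup G, Cx = Subgroup.centralizer ({(x : G)} : Set G) :=
    ⟨_, rfl⟩
  have hmemCx : ∀ g : G, g ∈ Cx ↔ (x : G) * g = g * (x : G) := by
    intro g
    rw [hCx, Subgroup.mem_centralizer_iff]
    constructor
    · intro h; exact h _ (Set.mem_singleton _)
    · intro h y hy
      rw [Set.mem_singleton_iff] at hy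
      rw [hy]; exact h
  obtain ⟨D, hD⟩ : ∃ D : Subgroup G, D = Cx ⊓ J := ⟨_, rfl⟩
  have hDJ : D ≤ J := hD ▸ inf_le_right
  have hDCx : D ≤ Cx := hD ▸ inf_le_left
  have huD : u ∈ D := by
    rw [hD]; exact ⟨(hmemCx u).mpr hux.symm, huJ⟩
  have hZp : IsPGroup p (Subgroup.zpowers (⟨u, huD⟩ : D)) := by
    rintro ⟨g, hg⟩
    obtain ⟨i, rfl⟩ := Subgroup.mem_zpowers_iff.mp hg
    refine ⟨t, Subtype.ext (Subtype.ext ?_)⟩
    show (u ^ i) ^ (p ^ t) = 1
    rw [← zpow_natCast, ← zpow_mul, mul_comm, zpow_mul, zpow_natCast, hut, one_zpow]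
  obtain ⟨S', hS'⟩ := hZp.exists_le_sylow
  obtain ⟨S, hS⟩ : ∃ S : Subgroup G, S = (S' : Subgroup D).map D.subtype := ⟨_, rfl⟩
  have hSD : S ≤ D := by
    rw [hS]; exact Subgroup.map_subtype_le _
  have huS : u ∈ S := by
    rw [hS]; exact ⟨⟨u, huD⟩, hS' (Subgroup.mem_zpowers _), rfl⟩
  have hSp : IsPGroup p S := by
    rw [hS]; exact S'.isPGroup'.map _
  have hSidx : ¬ p ∣ S.relIndex D := by
    have h0 : S.subgroupOf D = (S' : Subgroup D) := by
      rw [hS]
      exact Subgroup.comap_map_eq_self_of_injective Subtype.coe_injective _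
    show ¬ p ∣ (S.subgroupOf D).index
    rw [h0]
    exact S'.not_dvd_index
  have hnormS : ∀ s ∈ S, ∀ k ∈ K, s * k * s⁻¹ ∈ K := fun s hs k hk =>
    hnorm s (hDJ (hSD hs)) ((hmemCx s).mp (hDCx (hSD hs))).symm k hk
  obtain ⟨L, hL⟩ : ∃ L : Subgroup G, L = mulSub K S hnormS := ⟨_, rfl⟩
  have hLmem : ∀ l, l ∈ L ↔ ∃ k ∈ K, ∃ s ∈ S, l = k * s := by
    intro l; rw [hL]; exact Iff.rfl
  have hKL : K ≤ L := fun k hk => (hLmem k).mpr ⟨k, hk, 1, S.one_mem, by simp⟩
  have hSL : S ≤ L := fun s hs => (hLmem s).mpr ⟨1, K.one_mem, s, hs, by simp⟩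
  have hLJ : L ≤ J := by
    intro l hl
    obtain ⟨k, hk, s, hs, rfl⟩ := (hLmem l).mp hl
    exact J.mul_mem (hKJ hk) (hDJ (hSD hs))
  have hxL : (x : G) ∈ L := (hLmem _).mpr ⟨(x : G) * u⁻¹, hxu, u, huS, by group⟩
  have hreg : ∀ l : L, ¬ p ∣ orderOf l → l ∈ K.subgroupOf L := by
    intro l hl
    rw [Subgroup.mem_subgroupOf]
    have hl' : (l : G) ∈ mulSub K S hnormS := hL ▸ l.2
    exact pregular_mem_of_mulSub K S hnormS hSp (l : G) hl' (by rwa [Subgroup.orderOf_coe])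
  -- the restriction of `χ` to `L`
  have hcharL : IsCharacter L (fun l : L => (χ : J → ℂ) (Subgroup.inclusion hLJ l)) :=
    Helper20.isCharacter_comp (Subgroup.inclusion hLJ) (Helper35.isChar_of_irr χ.2)
  have hφ' := Helper82.irrComp_mem_principal M (Subgroup.subgroupOfEquivOfLe hKL) φ hφ
  have hresL : ∀ z : K.subgroupOf L,
      (χ : J → ℂ) (Subgroup.inclusion hLJ (z : L)) =
        (Helper82.irrComp (Subgroup.subgroupOfEquivOfLe hKL) φ : K.subgroupOf L → ℂ) z := by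
    intro z
    rw [Helper82.irrComp_apply, hφχ]
    congr 1
  have hirrL : IsIrrCharacter L (fun l : L => (χ : J → ℂ) (Subgroup.inclusion hLJ l)) := by
    apply Helper20.irr_of_res_irr (K.subgroupOf L) hcharL
    have h1 : (fun z : K.subgroupOf L => (χ : J → ℂ) (Subgroup.inclusion hLJ (z : L))) =
        (Helper82.irrComp (Subgroup.subgroupOfEquivOfLe hKL) φ : K.subgroupOf L → ℂ) :=
      funext hresL
    rw [h1]
    exact (Helper82.irrComp (Subgroup.subgroupOfEquivOfLe hKL) φ).2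
  have hχL : (⟨_, hirrL⟩ : IrrCharacter L) ∈ principalBlock M L :=
    principal_of_pregular_le hM (K.subgroupOf L) hreg ⟨_, hirrL⟩ _ hφ' hresL
  have h1 := hχL ⟨(x : G), hxL⟩
  unfold centralChar at h1 ⊢
  rw [centralizer_subtype_index L ⟨(x : G), hxL⟩] at h1
  rw [centralizer_subtype_index J x]
  have hx1 : (χ : J → ℂ) (Subgroup.inclusion hLJ ⟨(x : G), hxL⟩) = (χ : J → ℂ) x := rfl
  have hx2 : (χ : J → ℂ) (Subgroup.inclusion hLJ 1) = (χ : J → ℂ) 1 := by rw [map_one]
  have h1' : MemLocalIdeal M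
      (((Subgroup.centralizer ({(x : G)} : Set G)).relIndex L : ℂ) * 1 / 1 -
        ((Subgroup.centralizer ({(x : G)} : Set G)).relIndex L : ℂ) * (χ : J → ℂ) x /
          (χ : J → ℂ) 1) := by
    rw [← hx1, ← hx2]; exact h1
  rw [← hCx] at h1' ⊢
  -- index bookkeeping
  have hle1 : Cx ⊓ L ≤ D := by
    rw [hD]; exact inf_le_inf_left Cx hLJ
  have e1 : (Cx ⊓ L).relIndex D * D.relIndex J = (Cx ⊓ L).relIndex J :=
    Subgroup.relIndex_mul_relIndex _ _ _ hle1 hDJ
  have e2 : (Cx ⊓ L).relIndex L * L.relIndex J = (Cx ⊓ L).relIndex J :=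
    Subgroup.relIndex_mul_relIndex _ _ _ inf_le_right hLJ
  have e3 : D.relIndex J = Cx.relIndex J := by
    rw [hD]; exact Subgroup.inf_relIndex_right Cx J
  have e4 : (Cx ⊓ L).relIndex L = Cx.relIndex L := Subgroup.inf_relIndex_right Cx L
  have htp : ¬ p ∣ (Cx ⊓ L).relIndex D := by
    intro h
    have hSle : S ≤ Cx ⊓ L := le_inf (hSD.trans hDCx) hSL
    exact hSidx (dvd_trans h (Subgroup.relIndex_dvd_of_le_left D hSle))
  have hcast : (((Cx ⊓ L).relIndex D : ℕ) : ℂ) * (Cx.relIndex J : ℂ) =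
      (Cx.relIndex L : ℂ) * (L.relIndex J : ℂ) := by
    have h0 : (Cx ⊓ L).relIndex D * Cx.relIndex J = Cx.relIndex L * L.relIndex J := by
      rw [← e3, e1, ← e4, e2]
    exact_mod_cast h0
  have ht0 : (((Cx ⊓ L).relIndex D : ℕ) : ℂ) ≠ 0 := by
    intro h0
    have h00 : (Cx ⊓ L).relIndex D = 0 := by exact_mod_cast h0
    exact htp (h00 ▸ dvd_zero p)
  have h2 := locIdeal_mul_left hM (locRing_inv_natCast hM htp)
    (locIdeal_mul_left hM (locRing_natCast hM (L.relIndex J)) h1')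
  have e : (Cx.relIndex J : ℂ) * 1 / 1 - (Cx.relIndex J : ℂ) * (χ : J → ℂ) x / (χ : J → ℂ) 1 =
      (((Cx ⊓ L).relIndex D : ℕ) : ℂ)⁻¹ * ((L.relIndex J : ℂ) *
        ((Cx.relIndex L : ℂ) * 1 / 1 - (Cx.relIndex L : ℂ) * (χ : J → ℂ) x / (χ : J → ℂ) 1)) := by
    rw [mul_div_assoc, mul_div_assoc, mul_div_assoc, mul_div_assoc, ← mul_sub, ← mul_sub,
      ← mul_assoc, ← mul_assoc]
    congr 1
    rw [mul_assoc, mul_comm (L.relIndex J : ℂ), ← hcast, ← mul_assoc, inv_mul_cancel₀ ht0,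
      one_mul]
  rw [e]
  exact h2

end Local

end Cfsg.Agent.Lib.Helper84.AD
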