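import Mathlib
import Cfsg.Prelude.Def_GeometricClasses
import Cfsg.Agent.Lib.Helper54.SP4OE2Defs

/-! Project SP4O (helper54; S5787), piece `E2S` (owner helper84): the COMMON definition of the
standard group `R0 = 2^(1+4)_-` (order 32) as the subgroup of `GL_4(F)` generated by the four
matrices `g1, g2, g3, g4` of note 2380.  All sub-pieces of `E2S` are statements about `E2SR0 F`
under `Fintype.card F = 3`. -/

set_option autoImplicit false

namespace Cfsg.Agent.Lib.Helper54.SP4O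

open Matrix Cfsg.Geo

/-- `g1` (order 4, commutes with `j0`, `g1 * g1 = -1`) -/
def E2Sg1 (F : Type*) [Field F] : Matrix (Fin 4) (Fin 4) F :=
  !![0, 0, 0, 1; 0, 0, -1, 0; 0, 1, 0, 0; -1, 0, 0, 0]

/-- `g2` (order 2, commutes with `j0`) -/
def E2Sg2 (F : Type*) [Field F] : Matrix (Fin 4) (Fin 4) F :=
  !![0, 0, 0, 1; 0, 0, -1, 0; 0, -1, 0, 0; 1, 0, 0, 0]

/-- `g3` (order 2, commutes with `j0`) -/
def E2Sg3 (F : Type*) [Field F] : Matrix (Fin 4) (Fin 4) F :=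
  !![0, 0, 1, 0; 0, 0, 0, 1; 1, 0, 0, 0; 0, 1, 0, 0]

/-- `g4` (order 4 in characteristic 3, anti-commutes with `j0`, `g4 * g4 = -1`) -/
def E2Sg4 (F : Type*) [Field F] : Matrix (Fin 4) (Fin 4) F :=
  !![0, 0, 1, 1; 0, 0, 1, -1; 1, 1, 0, 0; 1, -1, 0, 0]

/-- the standard group `R0`: generated by the invertible matrices `g1, g2, g3, g4` -/
def E2SR0 (F : Type*) [Field F] : Subgroup (GL (Fin 4) F) :=
  Subgroup.closure {x : GL (Fin 4) F |
    x.1 = E2Sg1 F ∨ x.1 = E2Sg2 F ∨ x.1 = E2Sg3 F ∨ x.1 = E2Sg4 F}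

end Cfsg.Agent.Lib.Helper54.SP4O
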