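import Mathlib
import Cfsg.Agent.Lib.Helper48.RCBase

/-! Project RC (helper48), piece RC-CJCARD: the order of the centraliser of the torus involution,
from its description by normal forms. -/

set_option autoImplicit false

namespace Cfsg.Agent.Lib.Helper48.RC

section ok0

variable {F : Type*} [Field F] [Finite F] [CharP F 3] {G : Type*} [Group G] [Finite G]
variable {θ : F →+* F} {T : F → F → F → G} {H : Fˣ → G} {w : G}

/-- uniqueness of the normal form `T · H` -/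
theorem CJCARD_TH_inj (h : Ok0 θ T H w) {a b c a' b' c' : F} {s s' : Fˣ}
    (e : T a b c * H s = T a' b' c' * H s') : T a b c = T a' b' c' ∧ s = s' := by
  have hu : (T a' b' c')⁻¹ * T a b c ∈ h.Qs :=
    h.Qs.mul_mem (h.Qs.inv_mem (h.T_mem a' b' c')) (h.T_mem a b c)
  have e1 : (T a' b' c')⁻¹ * T a b c = H (s' * s⁻¹) := by
    rw [h.H_mul, ← h.H_inv]
    calc (T a' b' c')⁻¹ * T a b c = (T a' b' c')⁻¹ * (T a b c * H s) * (H s)⁻¹ := by group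
      _ = (T a' b' c')⁻¹ * (T a' b' c' * H s') * (H s)⁻¹ := by rw [e]
      _ = H s' * (H s)⁻¹ := by group
  have hb : w * ((T a' b' c')⁻¹ * T a b c) * w ∈ h.Bs := by
    rw [e1, h.wH]
    exact h.H_mem _
  have h1 := h.eq_one_of_wuw hu hb
  have h2 : H (s' * s⁻¹) = 1 := by rw [← e1, h1]
  have h3 : s' * s⁻¹ = 1 := h.H_inj _ h2
  exact ⟨(inv_mul_eq_one.1 h1).symm, (mul_inv_eq_one.1 h3).symm⟩

/-- `w` is not in the Borel subgroup -/
theorem CJCARD_w_not_mem (h : Ok0 θ T H w) : w ∉ h.Bs := by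
  intro hw
  have hb : w * T 1 0 0 * w ∈ h.Bs :=
    h.Bs.mul_mem (h.Bs.mul_mem hw (h.Qs_le_Bs (h.T_mem 1 0 0))) hw
  exact h.T100_ne_one (h.eq_one_of_wuw (h.T_mem 1 0 0) hb)

/-- uniqueness of the normal form `T · w · (T · H)` -/
theorem CJCARD_TwTH_inj (h : Ok0 θ T H w) {a b c a' b' c' d e f d' e' f' : F} {s s' : Fˣ}
    (eq : T a b c * w * (T d e f * H s) = T a' b' c' * w * (T d' e' f' * H s')) :
    T a b c = T a' b' c' ∧ T d e f = T d' e' f' ∧ s = s' := by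
  have hu : (T a' b' c')⁻¹ * T a b c ∈ h.Qs :=
    h.Qs.mul_mem (h.Qs.inv_mem (h.T_mem a' b' c')) (h.T_mem a b c)
  have e1 : w * ((T a' b' c')⁻¹ * T a b c) * w =
      (T d' e' f' * H s') * (T d e f * H s)⁻¹ := by
    calc w * ((T a' b' c')⁻¹ * T a b c) * w
        = w⁻¹ * (T a' b' c')⁻¹ * (T a b c * w * (T d e f * H s)) * (T d e f * H s)⁻¹ := by
          rw [h.w_inv]; group
      _ = w⁻¹ * (T a' b' c')⁻¹ * (T a' b' c' * w * (T d' e' f' * H s')) *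
            (T d e f * H s)⁻¹ := by rw [eq]
      _ = (T d' e' f' * H s') * (T d e f * H s)⁻¹ := by group
  have hb : w * ((T a' b' c')⁻¹ * T a b c) * w ∈ h.Bs := by
    rw [e1]
    exact h.Bs.mul_mem (h.TH_mem _ _ _ _) (h.Bs.inv_mem (h.TH_mem _ _ _ _))
  have h1 := h.eq_one_of_wuw hu hb
  have h2 : T a b c = T a' b' c' := (inv_mul_eq_one.1 h1).symm
  have h3 : T d e f * H s = T d' e' f' * H s' := by
    rw [h2] at eq
    exact mul_left_cancel eq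
  exact ⟨h2, CJCARD_TH_inj h h3⟩

-- piece RC-CJCARD
theorem centralizer_card (h : Ok0 θ T H w)
    (hmem : ∀ g : G, g ∈ Subgroup.centralizer {H (-1)} ↔
      (∃ (b : F) (s : Fˣ), g = T 0 b 0 * H s) ∨
      ∃ (b b' : F) (s : Fˣ), g = T 0 b 0 * w * (T 0 b' 0 * H s)) :
    Nat.card (Subgroup.centralizer {H (-1)}) =
      Nat.card F * (Nat.card F - 1) * (Nat.card F + 1) := by
  classical
  let Ψ : (F × Fˣ) ⊕ (F × F × Fˣ) → G := fun p =>
    Sum.elim (fun p : F × Fˣ => T 0 p.1 0 * H p.2)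
      (fun p : F × F × Fˣ => T 0 p.1 0 * w * (T 0 p.2.1 0 * H p.2.2)) p
  have hΨmem : ∀ p, Ψ p ∈ Subgroup.centralizer {H (-1)} := by
    rintro (⟨b, s⟩ | ⟨b, b', s⟩)
    · exact (hmem _).2 (Or.inl ⟨b, s, rfl⟩)
    · exact (hmem _).2 (Or.inr ⟨b, b', s, rfl⟩)
  let Ψ' : (F × Fˣ) ⊕ (F × F × Fˣ) → Subgroup.centralizer {H (-1)} := fun p => ⟨Ψ p, hΨmem p⟩
  have hinj : Function.Injective Ψ' := by
    rintro (⟨b, s⟩ | ⟨b, b', s⟩) (⟨c, r⟩ | ⟨c, c', r⟩) hpq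
    · have e : T 0 b 0 * H s = T 0 c 0 * H r := congrArg Subtype.val hpq
      obtain ⟨e1, rfl⟩ := CJCARD_TH_inj h e
      obtain ⟨-, rfl, -⟩ := h.T_inj _ _ _ _ _ _ e1
      rfl
    · exfalso
      have e : T 0 b 0 * H s = T 0 c 0 * w * (T 0 c' 0 * H r) := congrArg Subtype.val hpq
      apply CJCARD_w_not_mem h
      have e2 : w = (T 0 c 0)⁻¹ * (T 0 b 0 * H s) * (T 0 c' 0 * H r)⁻¹ := by
        rw [e]; group
      have hm : (T 0 c 0)⁻¹ * (T 0 b 0 * H s) * (T 0 c' 0 * H r)⁻¹ ∈ h.Bs :=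
        h.Bs.mul_mem (h.Bs.mul_mem (h.Bs.inv_mem (h.Qs_le_Bs (h.T_mem _ _ _)))
          (h.TH_mem _ _ _ _)) (h.Bs.inv_mem (h.TH_mem _ _ _ _))
      rwa [← e2] at hm
    · exfalso
      have e : T 0 b 0 * w * (T 0 b' 0 * H s) = T 0 c 0 * H r := congrArg Subtype.val hpq
      apply CJCARD_w_not_mem h
      have e2 : w = (T 0 b 0)⁻¹ * (T 0 c 0 * H r) * (T 0 b' 0 * H s)⁻¹ := by
        rw [← e]; group
      have hm : (T 0 b 0)⁻¹ * (T 0 c 0 * H r) * (T 0 b' 0 * H s)⁻¹ ∈ h.Bs :=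
        h.Bs.mul_mem (h.Bs.mul_mem (h.Bs.inv_mem (h.Qs_le_Bs (h.T_mem _ _ _)))
          (h.TH_mem _ _ _ _)) (h.Bs.inv_mem (h.TH_mem _ _ _ _))
      rwa [← e2] at hm
    · have e : T 0 b 0 * w * (T 0 b' 0 * H s) = T 0 c 0 * w * (T 0 c' 0 * H r) :=
        congrArg Subtype.val hpq
      obtain ⟨e1, e2, rfl⟩ := CJCARD_TwTH_inj h e
      obtain ⟨-, rfl, -⟩ := h.T_inj _ _ _ _ _ _ e1
      obtain ⟨-, rfl, -⟩ := h.T_inj _ _ _ _ _ _ e2
      rfl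
  have hsurj : Function.Surjective Ψ' := by
    rintro ⟨g, hg⟩
    rcases (hmem g).1 hg with ⟨b, s, rfl⟩ | ⟨b, b', s, rfl⟩
    · exact ⟨Sum.inl (b, s), rfl⟩
    · exact ⟨Sum.inr (b, b', s), rfl⟩
  rw [← Nat.card_congr (Equiv.ofBijective Ψ' ⟨hinj, hsurj⟩), Nat.card_sum, Nat.card_prod,
    Nat.card_prod, Nat.card_prod, Nat.card_units]
  ring

end ok0

end Cfsg.Agent.Lib.Helper48.RC
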