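import Mathlib

/-! Project RC (helper48), piece RC-AUT168: the automorphism group of an elementary abelian group
of order `8` has order dividing `168 = |GL₃(2)|`. -/

set_option autoImplicit false

namespace Cfsg.Agent.Lib.Helper48.RC

theorem AUT168_card_GL : Nat.card (GL (Fin 3) (ZMod 2)) = 168 := by
  rw [Matrix.card_GL_field]
  simp [Fin.prod_univ_three, ZMod.card]

-- piece RC-AUT168
theorem card_mulAut_dvd {E : Type*} [Group E] [Finite E] (h8 : Nat.card E = 8)
    (h2 : ∀ x : E, x * x = 1) : Nat.card (MulAut E) ∣ 168 := by
  classical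
  have hinv : ∀ x : E, x⁻¹ = x := fun x => inv_eq_of_mul_eq_one_left (h2 x)
  have hcomm : ∀ a b : E, a * b = b * a := by
    intro a b
    have h := hinv (a * b)
    rw [mul_inv_rev, hinv, hinv] at h
    exact h.symm
  letI : CommGroup E := { (inferInstance : Group E) with mul_comm := hcomm }
  letI : Module (ZMod 2) (Additive E) := AddCommGroup.zmodModule (n := 2) (by
    intro x
    rw [two_nsmul]
    exact h2 (Additive.toMul x))
  have hfin : Module.finrank (ZMod 2) (Additive E) = 3 := by
    have h := Module.natCard_eq_pow_finrank (K := ZMod 2) (V := Additive E)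
    rw [Nat.card_congr Additive.toMul, h8, Nat.card_zmod] at h
    exact Nat.pow_right_injective le_rfl (h.symm.trans (by norm_num))
  let b : Module.Basis (Fin 3) (ZMod 2) (Additive E) :=
    Module.finBasisOfFinrankEq (ZMod 2) (Additive E) hfin
  let g : MulAut E →* Module.End (ZMod 2) (Additive E) :=
    { toFun := fun φ => AddMonoidHom.toZModLinearMap 2 (MonoidHom.toAdditive φ.toMonoidHom)
      map_one' := LinearMap.ext fun x => rfl
      map_mul' := fun φ ψ => LinearMap.ext fun x => rfl }
  let f : MulAut E →* (Module.End (ZMod 2) (Additive E))ˣ :=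
    (Units.map g).comp toUnits.toMonoidHom
  have hf : Function.Injective f := by
    intro φ ψ h
    have h1 : g φ = g ψ := congrArg Units.val h
    ext x
    have h3 := LinearMap.congr_fun h1 (Additive.ofMul x)
    exact congrArg Additive.toMul h3
  have hdvd := Subgroup.card_dvd_of_injective f hf
  have hcard : Nat.card (Module.End (ZMod 2) (Additive E))ˣ = 168 := by
    rw [← AUT168_card_GL]
    exact Nat.card_congr (Units.mapEquiv (LinearMap.toMatrixAlgEquiv b).toRingEquiv.toMulEquiv).toEquiv
  rw [hcard] at hdvd
  exact hdvd

end Cfsg.Agent.Lib.Helper48.RC
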