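import Mathlib
import Cfsg.Prelude.Def_Local
import Cfsg.Agent.Lib.Helper84.Core
import Cfsg.Agent.Lib.Helper20.Ito
import Cfsg.Agent.Lib.Helper83.Twist
import Cfsg.Agent.Lib.Helper81.PSolv

set_option autoImplicit false

namespace Cfsg.Agent.Lib.Helper84

open Cfsg
open scoped ComplexConjugate

universe u

section ClassUnion

/-- A subgroup meeting every conjugacy class is the whole group. -/
theorem eq_top_of_forall_conj_mem {N : Type*} [Group N] [Finite N] (H : Subgroup N)
    (h : ∀ n : N, ∃ m : N, m⁻¹ * n * m ∈ H) : H = ⊤ := by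
  classical
  letI := Fintype.ofFinite N
  have hB := MulAction.sum_card_fixedBy_eq_card_orbits_mul_card_group N (N ⧸ H)
  have horb : Fintype.card (Quotient (MulAction.orbitRel N (N ⧸ H))) = 1 := by
    rw [Fintype.card_eq_one_iff]
    refine ⟨Quotient.mk'' ((1 : N) : N ⧸ H), ?_⟩
    intro q
    induction q using Quotient.inductionOn' with
    | _ x =>
      apply Quotient.sound'
      induction x using QuotientGroup.induction_on with
      | _ a =>
        show (a : N ⧸ H) ∈ MulAction.orbit N ((1 : N) : N ⧸ H)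
        refine ⟨a, ?_⟩
        show ((a * 1 : N) : N ⧸ H) = (a : N ⧸ H)
        rw [mul_one]
  rw [horb, one_mul] at hB
  have hpos : ∀ g : N, 1 ≤ Fintype.card (MulAction.fixedBy (N ⧸ H) g) := by
    intro g
    obtain ⟨m, hm⟩ := h g
    apply Fintype.card_pos_iff.mpr
    refine ⟨⟨(m : N ⧸ H), ?_⟩⟩
    show ((g * m : N) : N ⧸ H) = (m : N ⧸ H)
    rw [eq_comm, QuotientGroup.eq]
    rw [← mul_assoc]
    exact hm
  have hone : Fintype.card (MulAction.fixedBy (N ⧸ H) (1 : N)) = H.index := by
    rw [Subgroup.index, Nat.card_eq_fintype_card]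
    apply Fintype.card_congr
    exact ⟨fun x => x.1, fun x => ⟨x, one_smul N x⟩, fun x => rfl, fun x => rfl⟩
  have hsum : ∑ g : N, (Fintype.card (MulAction.fixedBy (N ⧸ H) g) - 1) = 0 := by
    have h1 : ∑ g : N, Fintype.card (MulAction.fixedBy (N ⧸ H) g) =
        ∑ g : N, (Fintype.card (MulAction.fixedBy (N ⧸ H) g) - 1) + Fintype.card N := by
      rw [← Finset.card_univ (α := N), Finset.card_eq_sum_ones, ← Finset.sum_add_distrib]
      apply Finset.sum_congr rfl
      intro g _
      have := hpos g
      omega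
    omega
  have h1 := (Finset.sum_eq_zero_iff.mp hsum) 1 (Finset.mem_univ _)
  have h2 := hpos 1
  have h3 : H.index = 1 := by omega
  exact Subgroup.index_eq_one.mp h3

end ClassUnion

section ItoMichler

variable {G : Type u} [Group G] [Finite G]

/-- Every irreducible character of a subgroup lies under an irreducible character of `G`. -/
theorem exists_irr_over (N : Subgroup G) (θ : IrrCharacter N) [Fintype G] [Fintype N] :
    ∃ χ : IrrCharacter G, classInner (fun n : N => χ.1 n) θ.1 ≠ 0 := by
  classical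
  have hfin : Finite (IrrCharacter G) := irr_finite
  letI := Fintype.ofFinite (IrrCharacter G)
  by_contra hcon
  push Not at hcon
  have hcf := Helper35.isClassFunction_indFun N θ.1
  have h := Helper4.classFunction_expansion (indFun N θ.1) hcf
  have h0 : ∀ χ : IrrCharacter G, classInner (indFun N θ.1) χ.1 = 0 := by
    intro χ
    rw [Helper83.inner_ind_irr, hcon χ, map_zero]
  have h1 := congrFun h 1
  simp only [h0, zero_smul, Finset.sum_const_zero, Pi.zero_apply] at h1
  rw [Helper35.indFun_one_eq] at h1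
  have hidx : (N.index : ℂ) ≠ 0 := by exact_mod_cast Subgroup.index_ne_zero_of_finite
  have hθ1 : θ.1 1 ≠ 0 := Helper83.irr_one_ne_zero θ.2
  exact (mul_ne_zero hidx hθ1) h1

/-- Clifford: the degree of `χ` over `θ` is a multiple of `[G : I_G(θ)] · θ(1)`. -/
theorem over_degree (N : Subgroup G) [N.Normal] [Fintype G] [Fintype N] (θ : IrrCharacter N)
    (χ : IrrCharacter G) (hcon : classInner (fun n : N => χ.1 n) θ.1 ≠ 0) :
    ∃ k : ℕ, charDegree χ.1 = k * (Helper20.inertia N θ.1).index * charDegree θ.1 := by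
  have h1 := Helper20.clifford_degree N θ.2 χ.2 hcon (Helper20.inertia N θ.1) (fun g => Iff.rfl)
  obtain ⟨k, hk⟩ := Helper35.classInner_char_nat
    (Helper35.isCharacter_res N (Helper35.isChar_of_irr χ.2)) (Helper35.isChar_of_irr θ.2)
  refine ⟨k, ?_⟩
  have h2 := irr_one χ
  have h3 := irr_one θ
  have hk' : classInner (fun n : N => χ.1 n) θ.1 = (k : ℂ) := hk
  rw [h2, h3, hk'] at h1
  exact_mod_cast h1

variable (p : ℕ) [hp : Fact p.Prime]

/-- If no degree is divisible by `p` and `K/N` is a `p`-group, every irreducible character of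
`N` is `K`-invariant. -/
theorem le_inertia_of_degree (N K : Subgroup G) [N.Normal] [K.Normal] [Fintype G] [Fintype N]
    (hrel : ∃ a : ℕ, N.relIndex K = p ^ a)
    (hdeg : ∀ χ : IrrCharacter G, ¬ p ∣ charDegree χ.1) (θ : IrrCharacter N) :
    K ≤ Helper20.inertia N θ.1 := by
  obtain ⟨χ, hχ⟩ := exists_irr_over N θ
  obtain ⟨k, hk⟩ := over_degree N θ χ hχ
  have hNT : N ≤ Helper20.inertia N θ.1 :=
    Helper20.le_inertia N (Helper4.isClassFunction_irr θ)
  have h1 : (Helper20.inertia N θ.1).relIndex K ∣ N.relIndex K :=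
    Subgroup.relIndex_dvd_of_le_left K hNT
  have h2 : (Helper20.inertia N θ.1).relIndex K ∣ (Helper20.inertia N θ.1).index := by
    rw [← Helper81.relIndex_sup_of_normal (Helper20.inertia N θ.1) K]
    exact Subgroup.relIndex_dvd_index_of_le le_sup_left
  obtain ⟨a, ha⟩ := hrel
  rw [ha] at h1
  obtain ⟨b, -, hb2⟩ := (Nat.dvd_prime_pow hp.out).mp h1
  have hb0 : b = 0 := by
    by_contra hne
    apply hdeg χ
    rw [hk]
    have h3 : p ∣ (Helper20.inertia N θ.1).index :=
      dvd_trans (by rw [hb2]; exact dvd_pow_self p hne) h2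
    exact Dvd.dvd.mul_right (Dvd.dvd.mul_left h3 k) _
  rw [hb0, pow_zero] at hb2
  exact Subgroup.relIndex_eq_one.mp hb2

omit [Finite G] in
/-- An element fixing every irreducible character of `N` fixes every class of `N`. -/
theorem isConj_of_inertia (N : Subgroup G) [N.Normal] [Finite N] (x : G)
    (hx : ∀ θ : IrrCharacter N, x ∈ Helper20.inertia N θ.1) (n : N) :
    IsConj (MulAut.conjNormal x n) n := by
  apply Helper83.irr_separates
  intro θ
  have h1 := congrFun (hx θ) n
  rw [Helper20.conjFun_apply] at h1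
  rw [← h1]
  congr 1

/-- A `p`-subgroup fixing every class of a normal `p'`-subgroup centralizes it. -/
theorem commute_of_isConj_coprime (P N : Subgroup G) (hP : IsPGroup p P) [N.Normal]
    (hN : (Nat.card N).Coprime p)
    (hconj : ∀ x ∈ P, ∀ n : N, IsConj (MulAut.conjNormal x n) n) :
    ∀ x ∈ P, ∀ n ∈ N, x * n = n * x := by
  classical
  set H : Subgroup N := (Subgroup.centralizer (P : Set G)).subgroupOf N with hH
  have hHtop : H = ⊤ := by
    apply eq_top_of_forall_conj_mem
    intro n
    have hsm : ∀ (x : P) (y : {y : N // IsConj n y}),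
        IsConj n (MulAut.conjNormal (x : G) y.1) := by
      intro x y
      have h1 : IsConj (MulAut.conjNormal (x : G) n) (MulAut.conjNormal (x : G) y.1) :=
        (MulAut.conjNormal (x : G) : N ≃* N).toMonoidHom.map_isConj y.2
      exact ((hconj x x.2 n).symm).trans h1
    letI : MulAction P {y : N // IsConj n y} :=
      { smul := fun x y => ⟨MulAut.conjNormal (x : G) y.1, hsm x y⟩
        one_smul := fun y => Subtype.ext (by
          show MulAut.conjNormal ((1 : P) : G) y.1 = y.1
          simp)
        mul_smul := fun x x' y => Subtype.ext (by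
          show MulAut.conjNormal ((x * x' : P) : G) y.1 =
            MulAut.conjNormal (x : G) (MulAut.conjNormal (x' : G) y.1)
          simp [map_mul]) }
    have hcard : ¬ p ∣ Nat.card {y : N // IsConj n y} := by
      intro hdvd
      have h1 := Helper83.card_conj_mul_card_centralizer n
      have h2 : p ∣ Nat.card N := by
        rw [← h1]
        exact Dvd.dvd.mul_right hdvd _
      have h3 : p ∣ Nat.gcd (Nat.card N) p := Nat.dvd_gcd h2 dvd_rfl
      rw [hN] at h3
      exact hp.out.one_lt.ne' (Nat.dvd_one.mp h3)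
    obtain ⟨y, hy⟩ := hP.nonempty_fixed_point_of_prime_not_dvd_card {y : N // IsConj n y} hcard
    obtain ⟨c, hc⟩ := isConj_iff.mp y.2
    refine ⟨c⁻¹, ?_⟩
    rw [inv_inv, hc, hH, Subgroup.mem_subgroupOf, Subgroup.mem_centralizer_iff]
    intro x hx
    have h1 := hy ⟨x, hx⟩
    have h2 : MulAut.conjNormal x y.1 = y.1 := congrArg Subtype.val h1
    have h3 : x * (y.1 : G) * x⁻¹ = (y.1 : G) := by
      have := congrArg (fun z : N => (z : G)) h2
      simpa [MulAut.conjNormal_apply] using this
    calc x * (y.1 : G) = (x * (y.1 : G) * x⁻¹) * x := by group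
      _ = (y.1 : G) * x := by rw [h3]
  intro x hx n hn
  have h1 : (⟨n, hn⟩ : N) ∈ H := by rw [hHtop]; exact Subgroup.mem_top _
  rw [hH, Subgroup.mem_subgroupOf, Subgroup.mem_centralizer_iff] at h1
  exact h1 x hx

/-- A Sylow subgroup centralizing `N` with `P N` normal is normal. -/
theorem sylow_normal_of_commute (P : Sylow p G) (N : Subgroup G) [N.Normal]
    (hK : ((P : Subgroup G) ⊔ N).Normal)
    (hcomm : ∀ x ∈ (P : Subgroup G), ∀ n ∈ N, x * n = n * x) : (P : Subgroup G).Normal := by
  haveI := hK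
  have h1 := Sylow.normalizer_sup_eq_top' (N := (P : Subgroup G) ⊔ N) P le_sup_left
  have h2 : (P : Subgroup G) ⊔ N ≤ Subgroup.normalizer ((P : Subgroup G) : Set G) := by
    apply sup_le Subgroup.le_normalizer
    intro n hn
    rw [Subgroup.mem_normalizer_iff]
    intro h
    constructor
    · intro hh
      have : n * h * n⁻¹ = h := by
        rw [← hcomm h hh n hn]; group
      rw [this]; exact hh
    · intro hh
      have h3 := hcomm _ hh n hn
      have : h = n * h * n⁻¹ := by
        have h4 : n * h * n⁻¹ * n = n * (n * h * n⁻¹) := h3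
        have h5 : n * h = n * (n * h * n⁻¹) := by
          rw [← h4]; group
        exact mul_left_cancel h5
      rw [this]; exact hh
  have h3 : (⊤ : Subgroup G) ≤ Subgroup.normalizer ((P : Subgroup G) : Set G) := by
    have h4 : Subgroup.normalizer ((P : Subgroup G) : Set G) ⊔ ((P : Subgroup G) ⊔ N) = ⊤ := h1
    rw [← h4]
    exact sup_le le_rfl h2
  exact Subgroup.normalizer_eq_top_iff.mp (top_le_iff.mp h3)

/-- A normal Sylow `p`-subgroup is abelian if no degree is divisible by `p`. -/
theorem sylow_comm_of_degree (P : Sylow p G) (hPn : (P : Subgroup G).Normal)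
    (hdeg : ∀ χ : IrrCharacter G, ¬ p ∣ charDegree χ.1) : IsMulCommutative P := by
  classical
  letI := Fintype.ofFinite G
  letI : Fintype (P : Subgroup G) := Fintype.ofFinite _
  haveI := hPn
  by_contra hna
  have hcomm : commutator (P : Subgroup G) ≠ ⊥ := by
    intro h
    apply hna
    rw [commutator_eq_bot_iff_center_eq_top] at h
    exact Subgroup.center_eq_top_iff.mp h
  obtain ⟨θ, hθ⟩ := Helper83.exists_nonlinear hcomm
  obtain ⟨χ, hχ⟩ := exists_irr_over (P : Subgroup G) θ
  obtain ⟨k, hk⟩ := over_degree (P : Subgroup G) θ χ hχ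
  have hdvd : charDegree θ.1 ∣ Nat.card (P : Subgroup G) := Helper83.irr_degree_dvd_card θ
  obtain ⟨a, ha⟩ := IsPGroup.iff_card.mp P.isPGroup'
  rw [ha] at hdvd
  obtain ⟨b, -, hb⟩ := (Nat.dvd_prime_pow hp.out).mp hdvd
  have hb0 : b ≠ 0 := by
    intro h0
    rw [h0, pow_zero] at hb
    exact hθ hb
  apply hdeg χ
  rw [hk, hb]
  exact Dvd.dvd.mul_left (dvd_pow_self p hb0) _

/-- A normal `p`-subgroup lies in every Sylow `p`-subgroup. -/
theorem normal_pgroup_le_sylow (N : Subgroup G) [hN : N.Normal] (hNp : IsPGroup p N)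
    (P : Sylow p G) : N ≤ (P : Subgroup G) := by
  obtain ⟨Q, hQ⟩ := hNp.exists_le_sylow
  obtain ⟨g, rfl⟩ := MulAction.exists_smul_eq G Q P
  intro n hn
  rw [Sylow.coe_subgroup_smul, Subgroup.mem_pointwise_smul_iff_inv_smul_mem]
  apply hQ
  have h1 : (MulAut.conj g)⁻¹ • n = g⁻¹ * n * g := by
    simp [MulAut.smul_def, MulAut.conj_inv_apply]
  rw [h1]
  have := hN.conj_mem n hn g⁻¹
  simpa using this

/-- The inductive step of the Itô–Michler argument. -/
theorem ito_michler_step (N : Subgroup G) [hN : N.Normal]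
    (hNc : (∃ m : ℕ, Nat.card N = p ^ m) ∨ (Nat.card N).Coprime p ∨
      (∀ a ∈ N, ∀ b ∈ N, a * b = b * a))
    (ih : (∀ χ : IrrCharacter (G ⧸ N), ¬ p ∣ charDegree χ.1) →
      ∀ P : Sylow p (G ⧸ N), (P : Subgroup (G ⧸ N)).Normal ∧ IsMulCommutative P)
    (hdeg : ∀ χ : IrrCharacter G, ¬ p ∣ charDegree χ.1) (P : Sylow p G) :
    (P : Subgroup G).Normal ∧ IsMulCommutative P := by
  classical
  letI := Fintype.ofFinite G
  letI : Fintype N := Fintype.ofFinite _
  have hdeg' : ∀ χ : IrrCharacter (G ⧸ N), ¬ p ∣ charDegree χ.1 := by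
    intro ψ
    rw [← Helper83.charDegree_inflate N ψ]
    exact hdeg _
  have hsurj : Function.Surjective (QuotientGroup.mk' N) := QuotientGroup.mk'_surjective N
  have h1 := (ih hdeg' (P.mapSurjective hsurj)).1
  rw [Sylow.coe_mapSurjective] at h1
  have hK : ((P : Subgroup G) ⊔ N).Normal := by
    have h2 : (((P : Subgroup G).map (QuotientGroup.mk' N)).comap (QuotientGroup.mk' N)).Normal :=
      h1.comap _
    rw [Subgroup.comap_map_eq, QuotientGroup.ker_mk'] at h2
    exact h2
  have hrel : ∃ a : ℕ, N.relIndex ((P : Subgroup G) ⊔ N) = p ^ a := by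
    rw [Subgroup.relIndex_sup_right]
    exact P.isPGroup'.index _
  have hinv : ∀ x ∈ (P : Subgroup G), ∀ θ : IrrCharacter N, x ∈ Helper20.inertia N θ.1 := by
    intro x hx θ
    haveI := hK
    exact le_inertia_of_degree p N ((P : Subgroup G) ⊔ N) hrel hdeg θ
      ((le_sup_left : (P : Subgroup G) ≤ (P : Subgroup G) ⊔ N) hx)
  have hPn : (P : Subgroup G).Normal := by
    rcases hNc with hpg | hcop | hab
    · obtain ⟨m, hm⟩ := hpg
      have hNp : IsPGroup p N := IsPGroup.of_card hm
      have hle := normal_pgroup_le_sylow p N hNp P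
      rw [sup_of_le_left hle] at hK
      exact hK
    · apply sylow_normal_of_commute p P N hK
      apply commute_of_isConj_coprime p (P : Subgroup G) N P.isPGroup' hcop
      intro x hx n
      exact isConj_of_inertia N x (hinv x hx) n
    · apply sylow_normal_of_commute p P N hK
      intro x hx n hn
      have h2 := isConj_of_inertia N x (hinv x hx) ⟨n, hn⟩
      obtain ⟨c, hc⟩ := isConj_iff.mp h2
      have h3 : (c : G) * (x * n * x⁻¹) * (c : G)⁻¹ = n := by
        have := congrArg (fun z : N => (z : G)) hc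
        simpa [MulAut.conjNormal_apply] using this
      have h4 : x * n * x⁻¹ ∈ N := hN.conj_mem n hn x
      have h5 : (c : G) * (x * n * x⁻¹) = (x * n * x⁻¹) * (c : G) := hab _ c.2 _ h4
      have h6 : x * n * x⁻¹ = n := by
        rw [h5, mul_inv_cancel_right] at h3
        exact h3
      calc x * n = (x * n * x⁻¹) * x := by group
        _ = n * x := by rw [h6]
  exact ⟨hPn, sylow_comm_of_degree p P hPn hdeg⟩

end ItoMichler

/-- Itô–Michler for `p`-solvable groups. -/
theorem ito_michler_psolvable {G : Type u} [Group G] [Finite G] (p : ℕ) [Fact p.Prime]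
    (hsolv : IsPSolvable p G) (P : Sylow p G) :
    ((P : Subgroup G).Normal ∧ IsMulCommutative P) ↔
      ∀ χ : IrrCharacter G, ¬ p ∣ charDegree (χ : G → ℂ) := by
  constructor
  · rintro ⟨hPn, hPc⟩ χ hdvd
    haveI := hPn
    letI := Fintype.ofFinite G
    have h1 := Helper20.ito (P : Subgroup G)
      (fun a ha b hb => by
        have := hPc.is_comm.comm (⟨a, ha⟩ : (P : Subgroup G)) ⟨b, hb⟩
        exact congrArg Subtype.val this) χ.2
    exact P.not_dvd_index (dvd_trans hdvd h1)
  · intro hdeg
    have key := Helper81.isPSolvable_induction p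
      (fun (G : Type u) [Group G] [Finite G] =>
        (∀ χ : IrrCharacter G, ¬ p ∣ charDegree χ.1) →
          ∀ P : Sylow p G, (P : Subgroup G).Normal ∧ IsMulCommutative P)
      (fun G _ _ hsub _ P => by
        refine ⟨⟨fun a ha b => ?_⟩, ⟨⟨fun a b => Subsingleton.elim _ _⟩⟩⟩
        have : b * a * b⁻¹ = a := Subsingleton.elim _ _
        rw [this]; exact ha)
      (fun G _ _ N _ hN ih hdeg P =>
        ito_michler_step p N (hN.elim Or.inl (fun h => Or.inr (Or.inl h))) ih hdeg P)
      G hsolv
    exact key hdeg P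

/-- Itô–Michler for solvable groups, auxiliary induction. -/
theorem ito_michler_solvable_aux (p : ℕ) [Fact p.Prime] :
    ∀ (n : ℕ) (G : Type u) [Group G] [Finite G], Nat.card G = n → Group.IsSolvable G →
      (∀ χ : IrrCharacter G, ¬ p ∣ charDegree (χ : G → ℂ)) →
      ∀ P : Sylow p G, (P : Subgroup G).Normal ∧ IsMulCommutative P := by
  intro n
  induction n using Nat.strong_induction_on with
  | _ n ih =>
    intro G _ _ hcard hsolv hdeg P
    by_cases hsub : Subsingleton G
    · refine ⟨⟨fun a ha b => ?_⟩, ⟨⟨fun a b => Subsingleton.elim _ _⟩⟩⟩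
      have : b * a * b⁻¹ = a := Subsingleton.elim _ _
      rw [this]; exact ha
    · rw [not_subsingleton_iff_nontrivial] at hsub
      -- the last nontrivial term of the derived series
      obtain ⟨k, hk⟩ := hsolv.solvable
      have hex : ∃ k : ℕ, derivedSeries G k = ⊥ := ⟨k, hk⟩
      classical
      set k₀ := Nat.find hex with hk₀
      have hk₀spec : derivedSeries G k₀ = ⊥ := Nat.find_spec hex
      have hk₀pos : k₀ ≠ 0 := by
        intro h0
        rw [h0, derivedSeries_zero] at hk₀spec
        exact top_ne_bot hk₀spec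
      obtain ⟨j, hj⟩ := Nat.exists_eq_succ_of_ne_zero hk₀pos
      have hjne : derivedSeries G j ≠ ⊥ := Nat.find_min hex (by omega)
      have hab : ∀ a ∈ derivedSeries G j, ∀ b ∈ derivedSeries G j, a * b = b * a := by
        rw [hj, Nat.succ_eq_add_one, derivedSeries_succ,
          Subgroup.commutator_eq_bot_iff_le_centralizer] at hk₀spec
        intro a ha b hb
        exact (hk₀spec ha b hb).symm
      have hlt : Nat.card (G ⧸ derivedSeries G j) < n := by
        rw [← hcard, ← Subgroup.index_eq_card, ← Subgroup.card_mul_index (derivedSeries G j)]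
        have h1 : 1 < Nat.card (derivedSeries G j) := by
          rw [Finite.one_lt_card_iff_nontrivial]
          exact (Subgroup.nontrivial_iff_ne_bot _).mpr hjne
        have h2 : 0 < (derivedSeries G j).index := Nat.pos_of_ne_zero Subgroup.index_ne_zero_of_finite
        nlinarith
      exact ito_michler_step p (derivedSeries G j) (Or.inr (Or.inr hab))
        (fun hdeg' P' => ih _ hlt (G ⧸ derivedSeries G j) rfl inferInstance hdeg' P') hdeg P

/-- Itô–Michler for solvable groups. -/
theorem ito_michler_solvable {G : Type u} [Group G] [Finite G] (hsolv : Group.IsSolvable G)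
    (p : ℕ) (hp : p.Prime) :
    (∃ P : Subgroup G, P.Normal ∧ (∀ x ∈ P, ∀ y ∈ P, x * y = y * x) ∧ IsPGroup p P ∧
      ¬ p ∣ P.index) ↔ ∀ χ : IrrCharacter G, ¬ p ∣ charDegree (χ : G → ℂ) := by
  haveI : Fact p.Prime := ⟨hp⟩
  constructor
  · rintro ⟨P, hPn, hPc, -, hidx⟩ χ hdvd
    haveI := hPn
    letI := Fintype.ofFinite G
    have h1 := Helper20.ito P hPc χ.2
    exact hidx (dvd_trans hdvd h1)
  · intro hdeg
    obtain ⟨P⟩ : Nonempty (Sylow p G) := inferInstance
    obtain ⟨hPn, hPc⟩ := ito_michler_solvable_aux p (Nat.card G) G rfl hsolv hdeg P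
    refine ⟨P, hPn, ?_, P.isPGroup', P.not_dvd_index⟩
    intro x hx y hy
    have := hPc.is_comm.comm (⟨x, hx⟩ : (P : Subgroup G)) ⟨y, hy⟩
    exact congrArg Subtype.val this

end Cfsg.Agent.Lib.Helper84
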