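import Mathlib
import Cfsg.Agent.Lib.Helper84.AD5

/-!
# Roots of unity modulo the local ideal; the `p'`-part as a power map (helper84)

* `root_eq_one`, `root_unique`: roots of unity of order prime to `p` are determined by their
  residue modulo the local ideal.
* `IsPExp p n a m e f`: `n = p ^ a * m`, `p ∤ m`, `e ≡ 0 (p ^ a)`, `e ≡ 1 (m)`,
  `f ≡ 1 (p ^ a)`, `f ≡ 0 (m)`; in a group of order dividing `n`, `x ^ e` is the `p'`-part of
  `x` and `x ^ f` its `p`-part.
* `pexp_hom_of_elementary`: the power map `x ↦ x ^ e` is multiplicative on every elementary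
  group (for any prime), by the transfer into the center.
-/

set_option autoImplicit false
set_option linter.style.haveILetI false

namespace Cfsg.Agent.Lib.Helper84.AD

open Cfsg
open Cfsg.Agent.Lib
open Cfsg.Agent.Lib.Helper21
open scoped ComplexConjugate

universe u

section Roots

variable {p : ℕ} {M : Ideal AlgInt}

theorem root_eq_one (hM : IsPModular p M) (ζ : ℂ) (k : ℕ) (hk : ¬ p ∣ k) (hζ : ζ ^ k = 1)
    (h : MemLocalIdeal M (ζ - 1)) : ζ = 1 := by
  by_contra hne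
  have hk0 : k ≠ 0 := fun h0 => hk (h0 ▸ dvd_zero p)
  have hint : IsIntegral ℤ ζ := isIntegral_of_pow_eq_one hk0 hζ
  have hloc : MemLocalRing M ζ := locRing_of_isIntegral hM hint
  have hgeom : (ζ - 1) * ∑ i ∈ Finset.range k, ζ ^ i = 0 := by
    rw [mul_geom_sum, hζ, sub_self]
  have hsum : ∑ i ∈ Finset.range k, ζ ^ i = 0 := by
    rcases mul_eq_zero.mp hgeom with h0 | h0
    · exact absurd (sub_eq_zero.mp h0) hne
    · exact h0
  have hterm : ∀ i ∈ Finset.range k, MemLocalIdeal M (ζ ^ i - 1) := by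
    intro i _
    have h1 : ζ ^ i - 1 = (ζ - 1) * ∑ j ∈ Finset.range i, ζ ^ j := by rw [mul_geom_sum]
    rw [h1]
    exact locIdeal_mul_right hM h (locRing_sum hM _ _ (fun j _ => locRing_pow hM hloc j))
  have h2 := locIdeal_sum hM (Finset.range k) (fun i => ζ ^ i - 1) hterm
  rw [Finset.sum_sub_distrib, hsum, Finset.sum_const, Finset.card_range, nsmul_eq_mul, mul_one,
    zero_sub] at h2
  have h3 := locIdeal_neg h2
  rw [neg_neg] at h3
  exact hk ((locIdeal_natCast_iff hM k).mp h3)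

theorem root_unique (hM : IsPModular p M) (ζ ζ' : ℂ) (k k' : ℕ) (hk : ¬ p ∣ k)
    (hk' : ¬ p ∣ k') (hζ : ζ ^ k = 1) (hζ' : ζ' ^ k' = 1) (h : MemLocalIdeal M (ζ - ζ')) :
    ζ = ζ' := by
  have hk'0 : k' ≠ 0 := fun h0 => hk' (h0 ▸ dvd_zero p)
  obtain ⟨j, rfl⟩ : ∃ j, k' = j + 1 := ⟨k' - 1, by omega⟩
  have hinv : ζ' * ζ' ^ j = 1 := by rw [← pow_succ']; exact hζ'
  have hint : IsIntegral ℤ (ζ' ^ j) := by
    apply isIntegral_of_pow_eq_one hk'0
    rw [← pow_mul, mul_comm, pow_mul, hζ', one_pow]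
  have h1 : MemLocalIdeal M (ζ * ζ' ^ j - 1) := by
    have h0 := locIdeal_mul_right hM h (locRing_of_isIntegral hM hint)
    rw [sub_mul, hinv] at h0
    exact h0
  have hp : p.Prime := hM.1
  have hkk : ¬ p ∣ k * (j + 1) := fun hd => by
    rcases hp.dvd_mul.mp hd with h0 | h0
    · exact hk h0
    · exact hk' h0
  have h2 : (ζ * ζ' ^ j) ^ (k * (j + 1)) = 1 := by
    have ha : ζ ^ (k * (j + 1)) = 1 := by rw [pow_mul, hζ, one_pow]
    have hb : (ζ' ^ j) ^ (k * (j + 1)) = 1 := by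
      rw [← pow_mul, show j * (k * (j + 1)) = (j + 1) * (j * k) by ring, pow_mul, hζ', one_pow]
    rw [mul_pow, ha, hb, mul_one]
  have h3 := root_eq_one hM _ _ hkk h2 h1
  calc ζ = ζ * (ζ' * ζ' ^ j) := by rw [hinv, mul_one]
    _ = (ζ * ζ' ^ j) * ζ' := by ring
    _ = ζ' := by rw [h3, one_mul]

theorem root_norm {ζ : ℂ} {k : ℕ} (hk : k ≠ 0) (hζ : ζ ^ k = 1) : ζ * conj ζ = 1 := by
  have h1 : ‖ζ‖ = 1 := Complex.norm_eq_one_of_pow_eq_one hζ hk
  rw [Complex.mul_conj, Complex.normSq_eq_norm_sq, h1]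
  simp

end Roots

section PExp

/-- exponents computing the `p'`-part and the `p`-part in groups of order dividing `n` -/
structure IsPExp (p n a m e f : ℕ) : Prop where
  hn : n = p ^ a * m
  hm : ¬ p ∣ m
  he0 : p ^ a ∣ e
  he1 : e ≡ 1 [MOD m]
  hf1 : f ≡ 1 [MOD p ^ a]
  hf0 : m ∣ f

theorem exists_pexp (p : ℕ) [hp : Fact p.Prime] (n : ℕ) (hn : n ≠ 0) :
    ∃ a m e f : ℕ, IsPExp p n a m e f := by
  obtain ⟨a, m, hm, hnm⟩ := Nat.exists_eq_pow_mul_and_not_dvd hn p hp.out.ne_one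
  have hcop : (p ^ a).Coprime m :=
    Nat.Coprime.pow_left a ((Nat.Prime.coprime_iff_not_dvd hp.out).mpr hm)
  obtain ⟨e, he0, he1⟩ := Nat.chineseRemainder hcop 0 1
  obtain ⟨f, hf1, hf0⟩ := Nat.chineseRemainder hcop 1 0
  exact ⟨a, m, e, f, hnm, hm, (Nat.modEq_zero_iff_dvd).mp he0, he1, hf1,
    (Nat.modEq_zero_iff_dvd).mp hf0⟩

variable {p n a m e f : ℕ}

theorem IsPExp.coprime [hp : Fact p.Prime] (h : IsPExp p n a m e f) : (p ^ a).Coprime m :=
  Nat.Coprime.pow_left a ((Nat.Prime.coprime_iff_not_dvd hp.out).mpr h.hm)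

theorem IsPExp.add_modEq [Fact p.Prime] (h : IsPExp p n a m e f) : e + f ≡ 1 [MOD n] := by
  rw [h.hn, ← Nat.modEq_and_modEq_iff_modEq_mul h.coprime]
  constructor
  · have h1 : e ≡ 0 [MOD p ^ a] := (Nat.modEq_zero_iff_dvd).mpr h.he0
    have h2 := Nat.ModEq.add h1 h.hf1
    simpa using h2
  · have h1 : f ≡ 0 [MOD m] := (Nat.modEq_zero_iff_dvd).mpr h.hf0
    have h2 := Nat.ModEq.add h.he1 h1
    simpa using h2

variable {X : Type u} [Group X] [Finite X]

theorem pow_eq_one_of_card_dvd {k : ℕ} (hX : Nat.card X ∣ k) (x : X) : x ^ k = 1 := by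
  obtain ⟨j, rfl⟩ := hX
  rw [pow_mul, pow_card_eq_one', one_pow]

theorem IsPExp.pow_e_pow_m (h : IsPExp p n a m e f) (hX : Nat.card X ∣ n) (x : X) :
    (x ^ e) ^ m = 1 := by
  rw [← pow_mul]
  apply pow_eq_one_of_card_dvd (dvd_trans hX _)
  rw [h.hn]
  exact Nat.mul_dvd_mul_right h.he0 m

theorem IsPExp.pow_f_pow (h : IsPExp p n a m e f) (hX : Nat.card X ∣ n) (x : X) :
    (x ^ f) ^ (p ^ a) = 1 := by
  rw [← pow_mul]
  apply pow_eq_one_of_card_dvd (dvd_trans hX _)
  rw [h.hn, mul_comm f]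
  exact Nat.mul_dvd_mul_left _ h.hf0

theorem IsPExp.pow_e_mul_pow_f [Fact p.Prime] (h : IsPExp p n a m e f) (hX : Nat.card X ∣ n)
    (x : X) : x ^ e * x ^ f = x := by
  rw [← pow_add]
  have h1 : e + f ≡ 1 [MOD orderOf x] :=
    Nat.ModEq.of_dvd (dvd_trans (orderOf_dvd_natCard x) hX) h.add_modEq
  have h2 := pow_eq_pow_iff_modEq.mpr h1
  rw [h2, pow_one]

theorem IsPExp.not_dvd_orderOf [hp : Fact p.Prime] (h : IsPExp p n a m e f)
    (hX : Nat.card X ∣ n) (x : X) : ¬ p ∣ orderOf (x ^ e) := by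
  intro hd
  exact h.hm (dvd_trans hd (orderOf_dvd_of_pow_eq_one (h.pow_e_pow_m hX x)))

/-- roots of unity of order dividing `m` are fixed by the `e`-th power -/
theorem IsPExp.root_pow (h : IsPExp p n a m e f) {ζ : ℂ} {k : ℕ} (hk : k ∣ m)
    (hζ : ζ ^ k = 1) : ζ ^ e = ζ := by
  have h0 : orderOf ζ ∣ m := dvd_trans (orderOf_dvd_of_pow_eq_one hζ) hk
  have h1 : e ≡ 1 [MOD orderOf ζ] := Nat.ModEq.of_dvd h0 h.he1
  rw [← pow_mod_orderOf ζ e, h1, pow_mod_orderOf, pow_one]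

theorem center_commute (u v : Subgroup.center X) : Commute u v := by
  apply Subtype.ext
  exact (Subgroup.mem_center_iff.mp u.2 v).symm

/-- the power map `x ↦ x ^ e` is multiplicative on an elementary group -/
theorem pexp_hom_of_elementary [hp : Fact p.Prime] (h : IsPExp p n a m e f)
    (hX : Nat.card X ∣ n) {q : ℕ} (hq : q.Prime) (hel : IsElementary q X) (x y : X) :
    (x * y) ^ e = x ^ e * y ^ e := by
  obtain ⟨z, hz, -, k, hk⟩ := hel
  have hc : (Subgroup.center X).index ∣ q ^ k := by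
    rw [← hk]
    exact Subgroup.index_dvd_of_le (Subgroup.zpowers_le.mpr hz)
  obtain ⟨j, -, hcj⟩ := (Nat.dvd_prime_pow hq).mp hc
  have hV : ∀ g : X, ((MonoidHom.transferCenterPow X g : Subgroup.center X) : X) =
      g ^ (Subgroup.center X).index := fun g => MonoidHom.transferCenterPow_apply g
  by_cases hqp : q = p
  · -- the index of the center divides `e`
    have h1 : (Subgroup.center X).index ∣ p ^ a := by
      have h2 : (Subgroup.center X).index ∣ p ^ a * m := by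
        rw [← h.hn]
        exact dvd_trans (Subgroup.index_dvd_card _) hX
      have hcop : ((Subgroup.center X).index).Coprime m := by
        rw [hcj, hqp]
        exact Nat.Coprime.pow_left j ((Nat.Prime.coprime_iff_not_dvd hp.out).mpr h.hm)
      exact hcop.dvd_of_dvd_mul_right h2
    obtain ⟨e', he'⟩ := dvd_trans h1 h.he0
    have hpow : ∀ g : X, g ^ e =
        (((MonoidHom.transferCenterPow X g) ^ e' : Subgroup.center X) : X) := by
      intro g
      rw [Subgroup.coe_pow, hV, ← pow_mul, ← he']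
    rw [hpow, hpow, hpow, map_mul, (center_commute _ _).mul_pow, Subgroup.coe_mul]
  · -- the index of the center is prime to `p`
    have hcop : ((Subgroup.center X).index).Coprime (p ^ a) := by
      rw [hcj]
      apply Nat.Coprime.pow j a
      exact (Nat.coprime_primes hq hp.out).mpr hqp
    have hbez := Nat.gcd_eq_gcd_ab (Subgroup.center X).index (p ^ a)
    rw [hcop] at hbez
    obtain ⟨A, hA⟩ : ∃ A : ℤ, A = Nat.gcdA (Subgroup.center X).index (p ^ a) := ⟨_, rfl⟩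
    obtain ⟨B, hB⟩ : ∃ B : ℤ, B = Nat.gcdB (Subgroup.center X).index (p ^ a) := ⟨_, rfl⟩
    rw [← hA, ← hB] at hbez
    have hW : ∀ g : X, g ^ f =
        ((((MonoidHom.transferCenterPow X g) ^ f) ^ A : Subgroup.center X) : X) := by
      intro g
      rw [Subgroup.coe_zpow, Subgroup.coe_pow, hV]
      have h1 : (g ^ f) ^ (p ^ a) = 1 := h.pow_f_pow hX g
      have h2 : g ^ f = (g ^ f) ^ ((((Subgroup.center X).index : ℕ) : ℤ) * A +
          ((p ^ a : ℕ) : ℤ) * B) := by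
        rw [← hbez, Nat.cast_one, zpow_one]
      rw [zpow_add, zpow_mul, zpow_mul, zpow_natCast, zpow_natCast, h1, one_zpow, mul_one] at h2
      rw [← pow_mul, mul_comm, pow_mul]
      exact h2
    have hE : ∀ g : X, g ^ e = g * (g ^ f)⁻¹ := by
      intro g
      have h1 := h.pow_e_mul_pow_f hX g
      rw [eq_mul_inv_iff_mul_eq]
      exact h1
    have hmul : (x * y) ^ f = x ^ f * y ^ f := by
      rw [hW (x * y), hW x, hW y, map_mul, (center_commute _ _).mul_pow,
        (center_commute _ _).mul_zpow, Subgroup.coe_mul]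
    have hcen : ((y * (y ^ f)⁻¹) * (x ^ f)⁻¹) = (x ^ f)⁻¹ * (y * (y ^ f)⁻¹) := by
      have h1 : (x ^ f)⁻¹ ∈ Subgroup.center X := by
        rw [hW x]
        exact (Subgroup.center X).inv_mem (SetLike.coe_mem _)
      exact Subgroup.mem_center_iff.mp h1 _
    rw [hE (x * y), hE x, hE y, hmul, mul_inv_rev]
    calc x * y * ((y ^ f)⁻¹ * (x ^ f)⁻¹) = x * ((y * (y ^ f)⁻¹) * (x ^ f)⁻¹) := by group
      _ = x * ((x ^ f)⁻¹ * (y * (y ^ f)⁻¹)) := by rw [hcen]
      _ = x * (x ^ f)⁻¹ * (y * (y ^ f)⁻¹) := by group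

end PExp

end Cfsg.Agent.Lib.Helper84.AD
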