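import Mathlib
import Cfsg.Agent.Lib.Helper84.AD6
import Cfsg.Agent.Lib.Helper84.AD2
import Cfsg.Agent.Lib.Helper4.CharDual

/-!
# Dade's extension theorem into principal blocks (helper84)

Setting (`Sett`): `N` normal in `G`, `Pm ≤ N` a Sylow `p`-subgroup of `N` with `G = N C_G(Pm)`,
`θ` in the principal block of `N`, `ψ` an irreducible character of `G` extending `θ`.

For every intermediate subgroup `K` with `K / N` solvable of order prime to `p` (`IsGoodK`)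
the restriction of `ψ` to `K` is `b · η` with `η` the canonical extension (`IsCanP`) and `b`
a linear character of `K / N` (`IsTw`).  These twists glue (Brauer's characterization of
characters) to a linear character `lam` of `G`, `lam x = b (x ^ e)` where `x ^ e` is the
`p'`-part of `x`; then `chi = conj lam · ψ` is an irreducible extension of `θ` whose restriction
to every `J ≥ N` lies in the principal block of `J` (`chi_block`).
-/

set_option autoImplicit false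
set_option linter.style.haveILetI false

namespace Cfsg.Agent.Lib.Helper84.AD

open Cfsg
open Cfsg.Agent.Lib
open Cfsg.Agent.Lib.Helper21
open scoped ComplexConjugate

universe u

theorem mem_sup_normal_decomp {H : Type u} [Group H] (N C : Subgroup H) [N.Normal] {x : H}
    (hx : x ∈ N ⊔ C) : ∃ n ∈ N, ∃ c ∈ C, n * c = x := by
  have h1 : x ∈ ((N ⊔ C : Subgroup H) : Set H) := hx
  rw [Subgroup.normal_mul] at h1
  exact Set.mem_mul.mp h1

theorem conj_mul_of_commute {H : Type u} [Group H] (g n z : H) (h : g * z = z * g) :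
    g * (n * z) * g⁻¹ = (g * n * g⁻¹) * z := by
  have h2 : z * g⁻¹ = g⁻¹ * z := by
    rw [eq_inv_mul_iff_mul_eq, ← mul_assoc, h, mul_assoc, mul_inv_cancel, mul_one]
  rw [mul_assoc, mul_assoc, h2, ← mul_assoc, ← mul_assoc]

section Tw

variable {G : Type u} [Group G]

/-- a twist: a linear character `b` of `K / N` with `ψ|K = b · η`, `η` the canonical extension -/
def IsTw (M : Ideal AlgInt) (N Pm : Subgroup G) (ϑ : N → ℂ) (ψ : G → ℂ) (K : Subgroup G)
    (b : K → ℂ) : Prop :=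
  ∃ η : K → ℂ, IsCanP M N Pm ϑ K η ∧ IsIrrCharacter K b ∧ b 1 = 1 ∧
    (∀ k : K, (k : G) ∈ N → b k = 1) ∧ ∀ k : K, ψ k = b k * η k

/-- intermediate subgroups with `K / N` solvable of order prime to `p` -/
def IsGoodK (p : ℕ) (N : Subgroup G) [N.Normal] (K : Subgroup G) : Prop :=
  N ≤ K ∧ ¬ p ∣ N.relIndex K ∧ Group.IsSolvable (K ⧸ N.subgroupOf K)

/-- the value of the glued linear character at `x`, characterized by a congruence -/
def Lam (M : Ideal AlgInt) (N Pm : Subgroup G) (ψ : G → ℂ) (p e : ℕ) (x : G) (ζ : ℂ) : Prop :=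
  ∃ c ∈ Subgroup.centralizer (Pm : Set G), c⁻¹ * x ^ e ∈ N ∧
    (∃ k : ℕ, ¬ p ∣ k ∧ ζ ^ k = 1) ∧ MemLocalIdeal M (ψ c / ψ 1 - ζ)

/-- the glued linear character -/
noncomputable def lam (M : Ideal AlgInt) (N Pm : Subgroup G) (ψ : G → ℂ) (p e : ℕ) (x : G) : ℂ :=
  Classical.epsilon (Lam M N Pm ψ p e x)

/-- the extension -/
noncomputable def chi (M : Ideal AlgInt) (N Pm : Subgroup G) (ψ : G → ℂ) (p e : ℕ) (x : G) : ℂ :=
  conj (lam M N Pm ψ p e x) * ψ x

variable [Finite G]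

/-- the standing hypotheses -/
structure Sett (p : ℕ) (M : Ideal AlgInt) (N Pm : Subgroup G) (θ : IrrCharacter N)
    (ψ : IrrCharacter G) (a m e f : ℕ) : Prop where
  hM : IsPModular p M
  hPmN : Pm ≤ N
  hPm : IsPGroup p Pm
  hPmidx : ¬ p ∣ Pm.relIndex N
  hcov : N ⊔ Subgroup.centralizer (Pm : Set G) = ⊤
  hθ : θ ∈ principalBlock M N
  hψ : ∀ n : N, (ψ : G → ℂ) n = (θ : N → ℂ) n
  hpe : IsPExp p (Nat.card G) a m e f

variable {p : ℕ} [hp : Fact p.Prime] {M : Ideal AlgInt} {N : Subgroup G} [hN : N.Normal]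
  {Pm : Subgroup G} {θ : IrrCharacter N} {ψ : IrrCharacter G} {a m e f : ℕ}

omit hp in
theorem Sett.hKC (S : Sett p M N Pm θ ψ a m e f) (K : Subgroup G) :
    ∀ k ∈ K, ∃ n ∈ N, ∃ c ∈ Subgroup.centralizer (Pm : Set G), n * c = k :=
  fun k _ => sup_centralizer_decomp N _ S.hcov k

theorem tw_exists (S : Sett p M N Pm θ ψ a m e f) {K : Subgroup G} (hK : IsGoodK p N K) :
    ∃ b : K → ℂ, IsTw M N Pm (θ : N → ℂ) (ψ : G → ℂ) K b := by
  classical
  obtain ⟨hNK, hidx, hsolv⟩ := hK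
  letI : Fintype K := Fintype.ofFinite K
  letI : Fintype (N.subgroupOf K) := Fintype.ofFinite _
  obtain ⟨η, -, hcan⟩ := canP_exists S.hM N Pm S.hPmN S.hPm S.hPmidx θ S.hθ K hNK hidx hsolv
    (S.hKC K)
  have hψres : (fun x : N.subgroupOf K => (ψ : G → ℂ) ((x : K) : G)) =
      Helper20.thetaSub N (θ : N → ℂ) K hNK := by
    funext x
    rw [Helper20.thetaSub_apply]
    exact S.hψ ⟨((x : K) : G), Subgroup.mem_subgroupOf.mp x.2⟩
  have hψK : IsIrrCharacter K (fun k : K => (ψ : G → ℂ) k) := by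
    apply Helper20.irr_of_res_irr (N.subgroupOf K)
      (Helper20.isCharacter_comp K.subtype (Helper35.isChar_of_irr ψ.2))
    show IsIrrCharacter (N.subgroupOf K) (fun x : N.subgroupOf K => (ψ : G → ℂ) ((x : K) : G))
    rw [hψres]
    exact thetaSub_irr N θ K hNK
  have hηN : IsIrrCharacter (N.subgroupOf K) (fun n : N.subgroupOf K => (η : K → ℂ) n) := by
    rw [canP_resfun hNK hcan]; exact thetaSub_irr N θ K hNK
  have hc : classInner (fun n : N.subgroupOf K => (fun k : K => (ψ : G → ℂ) k) n)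
      (fun n : N.subgroupOf K => (η : K → ℂ) n) ≠ 0 := by
    have h1 : (fun n : N.subgroupOf K => (fun k : K => (ψ : G → ℂ) k) n) =
        Helper20.thetaSub N (θ : N → ℂ) K hNK := hψres
    rw [h1, canP_resfun hNK hcan,
      Helper35.classInner_irr' (thetaSub_irr N θ K hNK) (thetaSub_irr N θ K hNK), if_pos rfl]
    exact one_ne_zero
  obtain ⟨β, hβ⟩ := Helper83.gallagher_exists (N.subgroupOf K) η.2 hηN hψK hc
  have hη1 : (η : K → ℂ) 1 = (θ : N → ℂ) 1 := hcan.2.1 1 N.one_mem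
  have hη1ne : (η : K → ℂ) 1 ≠ 0 := Helper83.irr_one_ne_zero η.2
  have hβ1 : (β : K ⧸ N.subgroupOf K → ℂ) 1 = 1 := by
    have h1 : (ψ : G → ℂ) ((1 : K) : G) =
        (β : K ⧸ N.subgroupOf K → ℂ) ((1 : K) : K ⧸ N.subgroupOf K) * (η : K → ℂ) 1 :=
      congrFun hβ 1
    have h2 : (ψ : G → ℂ) ((1 : K) : G) = (η : K → ℂ) 1 := by
      rw [hη1]; exact S.hψ 1
    rw [h2, QuotientGroup.mk_one] at h1
    have h3 : (η : K → ℂ) 1 =
        (β : K ⧸ N.subgroupOf K → ℂ) 1 * (η : K → ℂ) 1 := h1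
    have h4 : ((β : K ⧸ N.subgroupOf K → ℂ) 1 - 1) * (η : K → ℂ) 1 = 0 := by
      rw [sub_mul, one_mul, ← h3, sub_self]
    rcases mul_eq_zero.mp h4 with h5 | h5
    · exact sub_eq_zero.mp h5
    · exact absurd h5 hη1ne
  refine ⟨fun k => (β : K ⧸ N.subgroupOf K → ℂ) (k : K ⧸ N.subgroupOf K), η, hcan,
    irr_inflate (N.subgroupOf K) β, ?_, ?_, ?_⟩
  · show (β : K ⧸ N.subgroupOf K → ℂ) ((1 : K) : K ⧸ N.subgroupOf K) = 1
    rw [QuotientGroup.mk_one]; exact hβ1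
  · intro k hk
    show (β : K ⧸ N.subgroupOf K → ℂ) (k : K ⧸ N.subgroupOf K) = 1
    rw [(QuotientGroup.eq_one_iff k).mpr (Subgroup.mem_subgroupOf.mpr hk)]; exact hβ1
  · intro k; exact congrFun hβ k

omit [Finite G] hp hN in
theorem tw_mul {K : Subgroup G} {b : K → ℂ}
    (hb : IsTw M N Pm (θ : N → ℂ) (ψ : G → ℂ) K b) (k k' : K) : b (k * k') = b k * b k' := by
  obtain ⟨η, -, hirr, h1, -, -⟩ := hb
  exact Helper83.irr_linear_mul hirr h1 k k'

omit [Finite G] hp hN in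
theorem tw_pow {K : Subgroup G} {b : K → ℂ}
    (hb : IsTw M N Pm (θ : N → ℂ) (ψ : G → ℂ) K b) (k : K) (j : ℕ) : b (k ^ j) = b k ^ j := by
  induction j with
  | zero =>
    obtain ⟨η, -, -, h1, -, -⟩ := hb
    rw [pow_zero, pow_zero]; exact h1
  | succ j ih => rw [pow_succ, pow_succ, tw_mul hb, ih]

omit [Finite G] hp in
theorem tw_root {K : Subgroup G} {b : K → ℂ}
    (hb : IsTw M N Pm (θ : N → ℂ) (ψ : G → ℂ) K b) (k : K) : b k ^ N.relIndex K = 1 := by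
  rw [← tw_pow hb]
  obtain ⟨η, -, -, -, hN1, -⟩ := hb
  apply hN1
  have hN' : (N.subgroupOf K).Normal := Subgroup.normal_subgroupOf
  exact Subgroup.mem_subgroupOf.mp (Subgroup.pow_index_mem (N.subgroupOf K) k)

theorem relIndex_dvd_m (S : Sett p M N Pm θ ψ a m e f) {K : Subgroup G}
    (hidx : ¬ p ∣ N.relIndex K) : N.relIndex K ∣ m := by
  have h1 : N.relIndex K ∣ p ^ a * m := by
    rw [← S.hpe.hn]
    exact dvd_trans (Subgroup.relIndex_dvd_card N K) (Subgroup.card_subgroup_dvd_card K)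
  have hcop : (N.relIndex K).Coprime (p ^ a) :=
    Nat.Coprime.pow_right a
      (Nat.Coprime.symm ((Nat.Prime.coprime_iff_not_dvd hp.out).mpr hidx))
  exact hcop.dvd_of_dvd_mul_left h1

theorem tw_e (S : Sett p M N Pm θ ψ a m e f) {K : Subgroup G} (hK : IsGoodK p N K)
    {b : K → ℂ} (hb : IsTw M N Pm (θ : N → ℂ) (ψ : G → ℂ) K b) (k : K) : b (k ^ e) = b k := by
  rw [tw_pow hb]
  exact S.hpe.root_pow (relIndex_dvd_m S hK.2.1) (tw_root hb k)

theorem tw_cong (S : Sett p M N Pm θ ψ a m e f) {K : Subgroup G}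
    {b : K → ℂ} (hb : IsTw M N Pm (θ : N → ℂ) (ψ : G → ℂ) K b) (c : K)
    (hc : (c : G) ∈ Subgroup.centralizer (Pm : Set G)) :
    MemLocalIdeal M ((ψ : G → ℂ) c / (ψ : G → ℂ) 1 - b c) := by
  classical
  letI : Fintype K := Fintype.ofFinite K
  obtain ⟨η, hcan, hirr, h1, -, hψη⟩ := hb
  have hnear := hcan.2.2 c hc
  unfold Near1 at hnear
  have hint : MemLocalRing M (b c) :=
    locRing_of_isIntegral S.hM (Helper4.irr_isIntegral (⟨b, hirr⟩ : IrrCharacter K) c)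
  have h2 := locIdeal_mul_left S.hM hint hnear
  have h3 : (ψ : G → ℂ) ((1 : K) : G) = η 1 := by
    rw [hψη 1, h1, one_mul]
  have e1 : (ψ : G → ℂ) c / (ψ : G → ℂ) 1 - b c = b c * (η c / η 1 - 1) := by
    rw [show (ψ : G → ℂ) 1 = η 1 from h3, hψη c, mul_sub, mul_one, mul_div_assoc]
  rw [e1]
  exact h2

theorem lam_of_tw (S : Sett p M N Pm θ ψ a m e f) {K : Subgroup G} (hK : IsGoodK p N K)
    {b : K → ℂ} (hb : IsTw M N Pm (θ : N → ℂ) (ψ : G → ℂ) K b) (x : G) (hx : x ^ e ∈ K) :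
    Lam M N Pm (ψ : G → ℂ) p e x (b ⟨x ^ e, hx⟩) := by
  obtain ⟨n, hn, c, hc, hnc⟩ := S.hKC K (x ^ e) hx
  have hcK : c ∈ K := by
    have h0 : c = n⁻¹ * x ^ e := by rw [← hnc]; group
    rw [h0]; exact K.mul_mem (K.inv_mem (hK.1 hn)) hx
  have hbx : b ⟨x ^ e, hx⟩ = b ⟨c, hcK⟩ := by
    have h0 : (⟨x ^ e, hx⟩ : K) = ⟨n, hK.1 hn⟩ * ⟨c, hcK⟩ := Subtype.ext hnc.symm
    rw [h0, tw_mul hb]
    obtain ⟨η, -, -, -, hN1, -⟩ := hb
    rw [hN1 ⟨n, hK.1 hn⟩ hn, one_mul]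
  refine ⟨c, hc, ?_, ⟨N.relIndex K, hK.2.1, ?_⟩, ?_⟩
  · rw [← hnc]
    have h0 : c⁻¹ * (n * c) = c⁻¹ * n * c⁻¹⁻¹ := by group
    rw [h0]
    exact hN.conj_mem n hn c⁻¹
  · rw [hbx]; exact tw_root hb _
  · rw [hbx]; exact tw_cong S hb ⟨c, hcK⟩ hc

theorem lam_eq_tw (S : Sett p M N Pm θ ψ a m e f) {K : Subgroup G} (hK : IsGoodK p N K)
    {b : K → ℂ} (hb : IsTw M N Pm (θ : N → ℂ) (ψ : G → ℂ) K b) (x : G) (hx : x ^ e ∈ K)
    {ζ : ℂ} (hζ : Lam M N Pm (ψ : G → ℂ) p e x ζ) : ζ = b ⟨x ^ e, hx⟩ := by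
  obtain ⟨c, hc, hcx, ⟨k, hk, hζk⟩, hcong⟩ := hζ
  have hcK : c ∈ K := by
    have h0 : c = x ^ e * (c⁻¹ * x ^ e)⁻¹ := by group
    rw [h0]; exact K.mul_mem hx (K.inv_mem (hK.1 hcx))
  have hbx : b ⟨x ^ e, hx⟩ = b ⟨c, hcK⟩ := by
    have h0 : (⟨x ^ e, hx⟩ : K) = ⟨c, hcK⟩ * ⟨c⁻¹ * x ^ e, hK.1 hcx⟩ :=
      Subtype.ext (by show x ^ e = c * (c⁻¹ * x ^ e); group)
    rw [h0, tw_mul hb]
    obtain ⟨η, -, -, -, hN1, -⟩ := hb
    rw [hN1 ⟨c⁻¹ * x ^ e, hK.1 hcx⟩ hcx, mul_one]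
  rw [hbx]
  have h1 := tw_cong S hb ⟨c, hcK⟩ hc
  have h2 := locIdeal_sub S.hM h1 hcong
  have e1 : (ψ : G → ℂ) c / (ψ : G → ℂ) 1 - b ⟨c, hcK⟩ - ((ψ : G → ℂ) c / (ψ : G → ℂ) 1 - ζ) =
      ζ - b ⟨c, hcK⟩ := by ring
  rw [e1] at h2
  exact root_unique S.hM ζ _ k (N.relIndex K) hk hK.2.1 hζk (tw_root hb _) h2

theorem goodK_zpowers (S : Sett p M N Pm θ ψ a m e f) (x : G) :
    IsGoodK p N (N ⊔ Subgroup.zpowers (x ^ e)) := by
  refine ⟨le_sup_left, ?_, Helper20.solvable_sup_quot N _ (Helper20.solvable_zpowers _)⟩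
  rw [Subgroup.relIndex_sup_left]
  intro h
  have h1 : p ∣ Nat.card (Subgroup.zpowers (x ^ e)) :=
    dvd_trans h (Subgroup.relIndex_dvd_card _ _)
  rw [Nat.card_zpowers] at h1
  exact S.hpe.not_dvd_orderOf dvd_rfl x h1

theorem lam_exists (S : Sett p M N Pm θ ψ a m e f) (x : G) :
    ∃ ζ, Lam M N Pm (ψ : G → ℂ) p e x ζ := by
  obtain ⟨b, hb⟩ := tw_exists S (goodK_zpowers S x)
  exact ⟨_, lam_of_tw S (goodK_zpowers S x) hb x
    (Subgroup.mem_sup_right (Subgroup.mem_zpowers _))⟩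

theorem lam_spec (S : Sett p M N Pm θ ψ a m e f) (x : G) :
    Lam M N Pm (ψ : G → ℂ) p e x (lam M N Pm (ψ : G → ℂ) p e x) :=
  Classical.epsilon_spec (lam_exists S x)

theorem lam_eq (S : Sett p M N Pm θ ψ a m e f) (x : G) {ζ : ℂ}
    (hζ : Lam M N Pm (ψ : G → ℂ) p e x ζ) : lam M N Pm (ψ : G → ℂ) p e x = ζ := by
  obtain ⟨b, hb⟩ := tw_exists S (goodK_zpowers S x)
  have hx : x ^ e ∈ N ⊔ Subgroup.zpowers (x ^ e) :=
    Subgroup.mem_sup_right (Subgroup.mem_zpowers _)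
  rw [lam_eq_tw S (goodK_zpowers S x) hb x hx (lam_spec S x),
    lam_eq_tw S (goodK_zpowers S x) hb x hx hζ]

theorem lam_tw (S : Sett p M N Pm θ ψ a m e f) {K : Subgroup G} (hK : IsGoodK p N K)
    {b : K → ℂ} (hb : IsTw M N Pm (θ : N → ℂ) (ψ : G → ℂ) K b) (x : G) (hx : x ^ e ∈ K) :
    lam M N Pm (ψ : G → ℂ) p e x = b ⟨x ^ e, hx⟩ :=
  lam_eq S x (lam_of_tw S hK hb x hx)

theorem lam_conj (S : Sett p M N Pm θ ψ a m e f) (x g : G) :
    lam M N Pm (ψ : G → ℂ) p e (g * x * g⁻¹) = lam M N Pm (ψ : G → ℂ) p e x := by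
  apply lam_eq S
  obtain ⟨c, hc, hcx, hroot, hcong⟩ := lam_spec S x
  obtain ⟨n₀, hn₀, c₀, hc₀, hg⟩ := sup_centralizer_decomp N _ S.hcov g
  refine ⟨c₀ * c * c₀⁻¹, Subgroup.mul_mem _ (Subgroup.mul_mem _ hc₀ hc) (Subgroup.inv_mem _ hc₀),
    ?_, hroot, ?_⟩
  · rw [conj_pow]
    have hq : ((c : G) : G ⧸ N) = ((x ^ e : G) : G ⧸ N) := QuotientGroup.eq.mpr hcx
    have hn0 : ((n₀ : G) : G ⧸ N) = 1 := (QuotientGroup.eq_one_iff n₀).mpr hn₀
    apply (QuotientGroup.eq_one_iff _).mp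
    rw [← hg]
    simp only [QuotientGroup.mk_mul, QuotientGroup.mk_inv, hn0, ← hq]
    group
  · rw [Helper83.irr_classFunction ψ.2 c c₀]
    exact hcong

theorem lam_root (S : Sett p M N Pm θ ψ a m e f) (x : G) :
    ∃ k : ℕ, ¬ p ∣ k ∧ lam M N Pm (ψ : G → ℂ) p e x ^ k = 1 := by
  obtain ⟨c, -, -, hroot, -⟩ := lam_spec S x
  exact hroot

theorem lam_norm (S : Sett p M N Pm θ ψ a m e f) (x : G) :
    lam M N Pm (ψ : G → ℂ) p e x * conj (lam M N Pm (ψ : G → ℂ) p e x) = 1 := by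
  obtain ⟨k, hk, h⟩ := lam_root S x
  exact root_norm (fun h0 : k = 0 => hk (by rw [h0]; exact dvd_zero p)) h

theorem lam_N (S : Sett p M N Pm θ ψ a m e f) (n : G) (hn : n ∈ N) :
    lam M N Pm (ψ : G → ℂ) p e n = 1 := by
  apply lam_eq S
  refine ⟨1, Subgroup.one_mem _, ?_, ⟨1, ?_, one_pow 1⟩, ?_⟩
  · rw [inv_one, one_mul]; exact N.pow_mem hn e
  · exact fun h => hp.out.one_lt.ne' (Nat.dvd_one.mp h)
  · rw [div_self (Helper83.irr_one_ne_zero ψ.2), sub_self]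
    exact locIdeal_zero S.hM

theorem lam_res_char (S : Sett p M N Pm θ ψ a m e f) (E : Subgroup G) (q : ℕ) (hq : q.Prime)
    (hE : IsElementary q E) : IsCharacter E (fun x : E => lam M N Pm (ψ : G → ℂ) p e x) := by
  classical
  have hcardE : Nat.card E ∣ Nat.card G := Subgroup.card_subgroup_dvd_card E
  have hmulE : ∀ x y : E, ((x * y : E) : G) ^ e = (x : G) ^ e * (y : G) ^ e := by
    intro x y
    have h0 := pexp_hom_of_elementary S.hpe hcardE hq hE x y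
    have h1 := congrArg Subtype.val h0
    simpa using h1
  let f₀ : E →* G :=
    { toFun := fun x => (x : G) ^ e
      map_one' := by simp
      map_mul' := hmulE }
  have hf₀ : ∀ x : E, f₀ x = (x : G) ^ e := fun x => rfl
  obtain ⟨E', hE'⟩ : ∃ E' : Subgroup G, E' = f₀.range := ⟨_, rfl⟩
  have hEsolv : Group.IsSolvable E := Helper20.solvable_of_elementary hq hE
  have hE'solv : Group.IsSolvable E' := by
    rw [hE']
    exact Group.isSolvable_of_surjective f₀.rangeRestrict_surjective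
  have hE'card : ¬ p ∣ Nat.card E' := by
    intro h
    obtain ⟨x', hx'⟩ := exists_prime_orderOf_dvd_card' p h
    have h1 : (x' : G) ∈ f₀.range := hE' ▸ x'.2
    obtain ⟨x, hx⟩ := h1
    have h2 : orderOf (x' : G) = p := by rw [Subgroup.orderOf_coe]; exact hx'
    rw [← hx, hf₀] at h2
    exact S.hpe.not_dvd_orderOf dvd_rfl (x : G) (h2 ▸ dvd_rfl)
  have hK1 : IsGoodK p N (N ⊔ E') := by
    refine ⟨le_sup_left, ?_, Helper20.solvable_sup_quot N E' hE'solv⟩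
    rw [Subgroup.relIndex_sup_left]
    exact fun h => hE'card (dvd_trans h (Subgroup.relIndex_dvd_card _ _))
  obtain ⟨b, hb⟩ := tw_exists S hK1
  have hmem : ∀ x : E, f₀ x ∈ N ⊔ E' := fun x =>
    Subgroup.mem_sup_right (hE' ▸ ⟨x, rfl⟩)
  have h1 : (fun x : E => lam M N Pm (ψ : G → ℂ) p e x) =
      fun x : E => b (f₀.codRestrict (N ⊔ E') hmem x) := by
    funext x
    exact lam_tw S hK1 hb (x : G) (hmem x)
  rw [h1]
  obtain ⟨η, -, hirr, -, -, -⟩ := hb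
  exact Helper20.isCharacter_comp (f₀.codRestrict (N ⊔ E') hmem) (Helper35.isChar_of_irr hirr)

theorem lam_irr (S : Sett p M N Pm θ ψ a m e f) :
    IsIrrCharacter G (lam M N Pm (ψ : G → ℂ) p e) := by
  classical
  letI : Fintype G := Fintype.ofFinite G
  have hcf : IsClassFunction G (lam M N Pm (ψ : G → ℂ) p e) := fun x g => lam_conj S x g
  have hgen : IsGeneralizedCharacter G (lam M N Pm (ψ : G → ℂ) p e) :=
    Cfsg.Agent.S0164.result _ hcf (fun E q hq hE =>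
      Helper35.isGenChar_of_char (lam_res_char S E q hq hE))
  have hnorm : classInner (lam M N Pm (ψ : G → ℂ) p e) (lam M N Pm (ψ : G → ℂ) p e) = 1 := by
    unfold classInner
    rw [Finset.sum_congr rfl (fun g _ => lam_norm S g), Finset.sum_const, Finset.card_univ,
      nsmul_eq_mul, mul_one, Nat.card_eq_fintype_card]
    have hG0 : (Fintype.card G : ℂ) ≠ 0 := by exact_mod_cast (Fintype.card_pos (α := G)).ne'
    exact inv_mul_cancel₀ hG0
  obtain ⟨φ, hφ, h | h⟩ := Helper36.gen_norm_one hgen hnorm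
  · rw [h]; exact hφ
  · exfalso
    have h1 : lam M N Pm (ψ : G → ℂ) p e 1 = 1 := lam_N S 1 N.one_mem
    obtain ⟨hpos, h2⟩ := Helper83.irr_degree hφ
    rw [h] at h1
    have h3 : (-φ) 1 = -((charDegree φ : ℕ) : ℂ) := by
      show -(φ 1) = _
      rw [h2]
    rw [h3] at h1
    have h4 : ((charDegree φ + 1 : ℕ) : ℂ) = 0 := by
      push_cast
      rw [← h1]; ring
    have h5 : charDegree φ + 1 = 0 := by exact_mod_cast h4
    omega

theorem chi_irr (S : Sett p M N Pm θ ψ a m e f) :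
    IsIrrCharacter G (chi M N Pm (ψ : G → ℂ) p e) := by
  classical
  letI : Fintype G := Fintype.ofFinite G
  have hchar : IsCharacter G (chi M N Pm (ψ : G → ℂ) p e) :=
    Helper35.isCharacter_mul
      (Helper4.isCharacter_conj _ (Helper35.isChar_of_irr (lam_irr S)))
      (Helper35.isChar_of_irr ψ.2)
  have := Helper4.irr_finite (G := G)
  letI : Fintype (IrrCharacter G) := Fintype.ofFinite _
  apply Helper4.isIrrCharacter_of_norm_one _ hchar
  have h1 : classInner (ψ : G → ℂ) (ψ : G → ℂ) = 1 := by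
    rw [Helper35.classInner_irr' ψ.2 ψ.2, if_pos rfl]
  rw [← h1]
  unfold classInner
  congr 1
  apply Finset.sum_congr rfl
  intro g _
  unfold chi
  rw [map_mul, Complex.conj_conj]
  have h2 := lam_norm S g
  calc conj (lam M N Pm (ψ : G → ℂ) p e g) * (ψ : G → ℂ) g *
        (lam M N Pm (ψ : G → ℂ) p e g * conj ((ψ : G → ℂ) g))
      = (lam M N Pm (ψ : G → ℂ) p e g * conj (lam M N Pm (ψ : G → ℂ) p e g)) *
        ((ψ : G → ℂ) g * conj ((ψ : G → ℂ) g)) := by ring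
    _ = (ψ : G → ℂ) g * conj ((ψ : G → ℂ) g) := by rw [h2, one_mul]

theorem chi_N (S : Sett p M N Pm θ ψ a m e f) (n : N) :
    chi M N Pm (ψ : G → ℂ) p e n = (θ : N → ℂ) n := by
  unfold chi
  rw [lam_N S n n.2, map_one, one_mul]
  exact S.hψ n

theorem chi_good (S : Sett p M N Pm θ ψ a m e f) {K : Subgroup G} (hK : IsGoodK p N K) :
    ∃ φ : IrrCharacter K, φ ∈ principalBlock M K ∧
      ∀ k : K, (φ : K → ℂ) k = chi M N Pm (ψ : G → ℂ) p e k := by
  obtain ⟨b, hb⟩ := tw_exists S hK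
  have hb' := hb
  obtain ⟨η, hcan, hirr, hb1, hN1, hψη⟩ := hb
  obtain ⟨φ, hφ, hφη⟩ := canP_mem_principal S.hM N Pm S.hPmN S.hPm S.hPmidx θ S.hθ K hK.1 hK.2.1
    hK.2.2 (S.hKC K) hcan
  refine ⟨φ, hφ, fun k => ?_⟩
  rw [hφη]
  unfold chi
  have h1 : lam M N Pm (ψ : G → ℂ) p e (k : G) = b k := by
    rw [lam_tw S hK hb' (k : G) (K.pow_mem k.2 e)]
    exact tw_e S hK hb' k
  have h2 : b k * conj (b k) = 1 :=
    root_norm (fun h0 : N.relIndex K = 0 => hK.2.1 (by rw [h0]; exact dvd_zero p))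
      (tw_root hb' k)
  rw [h1, hψη k]
  calc η k = (b k * conj (b k)) * η k := by rw [h2, one_mul]
    _ = conj (b k) * (b k * η k) := by ring

/-- the restriction of `chi` to every intermediate subgroup lies in the principal block -/
theorem chi_block (S : Sett p M N Pm θ ψ a m e f) (J : Subgroup G) (hNJ : N ≤ J) :
    ∃ ξ : IrrCharacter J, ξ ∈ principalBlock M J ∧
      ∀ y : J, (ξ : J → ℂ) y = chi M N Pm (ψ : G → ℂ) p e y := by
  classical
  have hcharJ : IsCharacter J (fun j : J => chi M N Pm (ψ : G → ℂ) p e j) :=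
    Helper20.isCharacter_comp J.subtype (Helper35.isChar_of_irr (chi_irr S))
  have hirrJ : IsIrrCharacter J (fun j : J => chi M N Pm (ψ : G → ℂ) p e j) := by
    apply Helper20.irr_of_res_irr (N.subgroupOf J) hcharJ
    have h1 : (fun x : N.subgroupOf J => chi M N Pm (ψ : G → ℂ) p e ((x : J) : G)) =
        Helper20.thetaSub N (θ : N → ℂ) J hNJ := by
      funext x
      rw [Helper20.thetaSub_apply]
      exact chi_N S ⟨((x : J) : G), Subgroup.mem_subgroupOf.mp x.2⟩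
    show IsIrrCharacter (N.subgroupOf J)
      (fun x : N.subgroupOf J => chi M N Pm (ψ : G → ℂ) p e ((x : J) : G))
    rw [h1]
    exact thetaSub_irr N θ J hNJ
  refine ⟨⟨_, hirrJ⟩, ?_, fun y => rfl⟩
  apply principal_of_local S.hM J
  intro x
  have hxe : (x : G) ^ e ∈ J := J.pow_mem x.2 e
  refine ⟨N ⊔ Subgroup.zpowers ((x : G) ^ e),
    sup_le hNJ (Subgroup.zpowers_le.mpr hxe), ?_, ?_, ?_⟩
  · intro g _ hgx k hk
    obtain ⟨n, hn, z, hz, rfl⟩ := mem_sup_normal_decomp N _ hk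
    obtain ⟨i, rfl⟩ := Subgroup.mem_zpowers_iff.mp hz
    have hcomm : Commute g (((x : G) ^ e) ^ i) :=
      Commute.zpow_right (Commute.pow_right hgx e) i
    have h0 : g * (n * ((x : G) ^ e) ^ i) * g⁻¹ = (g * n * g⁻¹) * ((x : G) ^ e) ^ i :=
      conj_mul_of_commute g n _ hcomm
    rw [h0]
    exact Subgroup.mul_mem _ (Subgroup.mem_sup_left (hN.conj_mem n hn g))
      (Subgroup.mem_sup_right (Subgroup.zpow_mem _ (Subgroup.mem_zpowers _) i))
  · refine ⟨(x : G) ^ f, J.pow_mem x.2 f, pow_mul_comm' (x : G) f,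
      ⟨a, S.hpe.pow_f_pow dvd_rfl (x : G)⟩, ?_⟩
    have h1 := S.hpe.pow_e_mul_pow_f dvd_rfl (x : G)
    have h2 : (x : G) * ((x : G) ^ f)⁻¹ = (x : G) ^ e := by
      rw [mul_inv_eq_iff_eq_mul]; exact h1.symm
    rw [h2]
    exact Subgroup.mem_sup_right (Subgroup.mem_zpowers _)
  · obtain ⟨φ, hφ, hφχ⟩ := chi_good S (goodK_zpowers S (x : G))
    exact ⟨φ, hφ, fun k => hφχ k⟩

end Tw

end Cfsg.Agent.Lib.Helper84.AD
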