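import Cfsg.Agent.Lib.Helper15.BG13CDefs
import Cfsg.Agent.Lib.Helper8.BG10P6
import Cfsg.Agent.S1407

/-!
# B&G Corollary 13.3(b) (row S1428, architect helper15): piece C-CS (backup copy, helper84)
-/

set_option autoImplicit false

open Cfsg Cfsg.Agent.Lib.Helper32 Cfsg.Agent.Lib.Helper32.BG10 Cfsg.Agent.Lib.Helper3.BG12

namespace Cfsg.Agent.Lib.Helper15.BG13C

universe u

variable {G : Type u} [Group G] [Finite G]

/-- `H_β ≤ H_α` -/
theorem cs_betaCore_le_alphaCore (H : Subgroup G) : piCoreOf (beta H) H ≤ alphaCore H := by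
  unfold piCoreOf alphaCore
  apply Subgroup.map_mono
  unfold piCore
  apply sSup_le_sSup
  rintro N ⟨hN, hp⟩
  exact ⟨hN, fun p hp1 hp2 => (hp p hp1 hp2).1⟩

theorem cs : CSStmt G := by
  intro hG H hH p _ hpβ t _ htσ ht1 Z hZH hZc T hT hTp
  have htp : t.Prime := Fact.out
  by_cases hα : alphaCore H = ⊥
  · have hT' : T ≤ ⊥ := by
      rw [← hα]
      exact (hT.trans inf_le_left).trans (cs_betaCore_le_alphaCore H)
    have hTbot : T = ⊥ := le_bot_iff.1 hT'
    rw [hTbot]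
    infer_instance
  -- `t` divides the order of `H`
  have htH : t ∣ Nat.card H := by
    rw [← hZc]
    exact Subgroup.card_dvd_of_le hZH
  -- a Sylow `t`-subgroup of `H` containing `Z`
  have hZ'c : Nat.card (Z.subgroupOf H) = t := by
    rw [Nat.card_congr (Subgroup.subgroupOfEquivOfLe hZH).toEquiv, hZc]
  have hZ'p : IsPGroup t (Z.subgroupOf H) := IsPGroup.of_card (n := 1) (by rw [hZ'c, pow_one])
  obtain ⟨S, hS⟩ := hZ'p.exists_le_sylow
  obtain ⟨x, hx, hxo, hxZ, -⟩ := Cfsg.Agent.S1407.result hG H hH hα t htH htσ S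
  obtain ⟨y, hy, hyx⟩ := Subgroup.mem_map.1 hx
  obtain ⟨c, hc, hcy⟩ := Subgroup.mem_map.1 hy
  have hxH : x ∈ H := by
    rw [← hyx]
    exact y.2
  have hxr : x ^ t = 1 := by
    rw [← hxo]
    exact pow_orderOf_eq_one x
  -- a non-trivial element of `Z`
  obtain ⟨z, hzZ, hz1⟩ : ∃ z ∈ Z, z ≠ 1 := by
    by_contra hcon
    push Not at hcon
    have hZbot : Z = ⊥ := (Subgroup.eq_bot_iff_forall Z).2 hcon
    rw [hZbot, Subgroup.card_bot] at hZc
    exact htp.one_lt.ne hZc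
  have hzr : z ^ t = 1 := by
    have h1 := pow_card_eq_one' (G := Z) (x := ⟨z, hzZ⟩)
    rw [hZc] at h1
    exact congrArg Subtype.val h1
  have hzS : (⟨z, hZH hzZ⟩ : H) ∈ (S : Subgroup H) := hS (Subgroup.mem_subgroupOf.2 hzZ)
  have hcomm : x * z = z * x := by
    have h1 := Subgroup.mem_center_iff.mp hc ⟨⟨z, hZH hzZ⟩, hzS⟩
    have h2 := congrArg (fun s : (S : Subgroup H) => ((s : H) : G)) h1
    have h3 : ((c : H) : G) = x := by
      rw [← hyx, ← hcy]
      rfl
    simp only [Subgroup.coe_mul] at h2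
    rw [h3] at h2
    exact h2.symm
  have hxz : x ∈ Subgroup.zpowers z :=
    Cfsg.Agent.Lib.Helper8.BG10.p6_mem_zpowers ht1 hxH (hZH hzZ) hcomm hxr hzr hz1
  have hxZ' : x ∈ Z := (Subgroup.zpowers_le.mpr hzZ) hxz
  -- `T` lies in the `Z`-group `H_α ∩ C(x)`
  have hTK : T ≤ alphaCore H ⊓ Subgroup.centralizer ({x} : Set G) := by
    refine le_inf ((hT.trans inf_le_left).trans (cs_betaCore_le_alphaCore H)) ?_
    exact (hT.trans inf_le_right).trans
      (Subgroup.centralizer_le (Set.singleton_subset_iff.2 hxZ'))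
  have hT'p : IsPGroup p (T.subgroupOf (alphaCore H ⊓ Subgroup.centralizer ({x} : Set G))) :=
    hTp.comap_subtype
  obtain ⟨P, hP⟩ := hT'p.exists_le_sylow
  haveI : IsCyclic ↥(P : Subgroup ↥(alphaCore H ⊓ Subgroup.centralizer ({x} : Set G))) :=
    hxZ.isZGroup p Fact.out P
  haveI : IsCyclic ↥(T.subgroupOf (alphaCore H ⊓ Subgroup.centralizer ({x} : Set G))) :=
    Subgroup.isCyclic_of_le hP
  exact (Subgroup.subgroupOfEquivOfLe hTK).isCyclic.1 inferInstance

end Cfsg.Agent.Lib.Helper15.BG13C
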