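import Mathlib
import Cfsg.Agent.Lib.Helper10.BWDefs

/-!
# S0997 case B2 (project BW), piece FD4 (helper84): `fourier_rank`

For a `P`-bi-invariant `f`, `Σ_h χ(h⁻¹ k) f h = C * om P χ k`, from the rank-one identity.
-/

set_option autoImplicit false
set_option linter.style.haveILetI false

namespace Cfsg.Agent.Lib.Helper10.BW

open Cfsg
open Cfsg.Agent.Lib.Helper83 (trivIrr)
open Cfsg.Agent.Lib.Helper10.BR (psum)
open scoped ComplexConjugate

universe u

variable {G : Type u} [Group G] [Fintype G]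

private theorem fd4_class {G : Type u} [Group G] (χ : IrrCharacter G) :
    IsClassFunction G (χ : G → ℂ) := by
  obtain ⟨n, ρ, -, h⟩ := χ.2
  rw [← h]
  exact fun g x => Representation.char_conj ρ g x

/-- BW-FD4 -/
theorem fourier_rank (P : Subgroup G) (χ : IrrCharacter G)
    (hrk : ∀ a b : G, (∑ᶠ u : P, om P (χ : G → ℂ) (a * (u : G) * b)) / (Nat.card P : ℂ) =
      om P (χ : G → ℂ) a * om P (χ : G → ℂ) b)
    (f : G → ℂ) (hl : ∀ u ∈ P, ∀ h : G, f (u * h) = f h)
    (hr : ∀ h : G, ∀ u ∈ P, f (h * u) = f h) :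
    ∃ C : ℂ, ∀ k : G, ∑ h : G, (χ : G → ℂ) (h⁻¹ * k) * f h = C * om P (χ : G → ℂ) k := by
  classical
  haveI : Fintype P := Fintype.ofFinite P
  have hcl : ∀ g h : G, (χ : G → ℂ) (h * g * h⁻¹) = (χ : G → ℂ) g := fd4_class χ
  generalize (χ : G → ℂ) = ψ at hrk hcl ⊢
  have hn0 : (Nat.card P : ℂ) ≠ 0 := by
    exact_mod_cast (Nat.card_pos (α := P)).ne'
  have hcard : (Fintype.card P : ℂ) = (Nat.card P : ℂ) := by
    rw [Nat.card_eq_fintype_card]
  have hom : ∀ g : G, ∑ u : P, ψ (g * (u : G)) = (Nat.card P : ℂ) * om P ψ g := by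
    intro g
    rw [om, psum, finsum_eq_sum_of_fintype]
    field_simp
  have hrk' : ∀ a b : G, ∑ u : P, om P ψ (a * (u : G) * b) =
      (Nat.card P : ℂ) * (om P ψ a * om P ψ b) := by
    intro a b
    have h1 := hrk a b
    rw [finsum_eq_sum_of_fintype] at h1
    rw [← h1]
    field_simp
  have hA : ∀ (u u' : P) (k : G), ∑ h : G, ψ (h⁻¹ * k) * f h =
      ∑ h : G, ψ (h⁻¹ * (u : G)⁻¹ * k * (u' : G)) * f h := by
    intro u u' k
    rw [← Equiv.sum_comp ((Equiv.mulLeft (u : G)).trans (Equiv.mulRight (u' : G)⁻¹))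
      (fun h => ψ (h⁻¹ * k) * f h)]
    refine Finset.sum_congr rfl fun h _ => ?_
    simp only [Equiv.trans_apply, Equiv.coe_mulLeft, Equiv.coe_mulRight]
    have h1 : f ((u : G) * h * (u' : G)⁻¹) = f h := by
      rw [hr _ _ (inv_mem u'.2), hl _ u.2]
    have h2 : ((u : G) * h * (u' : G)⁻¹)⁻¹ * k =
        (u' : G) * (h⁻¹ * (u : G)⁻¹ * k * (u' : G)) * (u' : G)⁻¹ := by group
    rw [h1, h2, hcl]
  refine ⟨∑ h : G, f h * om P ψ h⁻¹, fun k => ?_⟩
  have key : (Nat.card P : ℂ) * (Nat.card P : ℂ) * ∑ h : G, ψ (h⁻¹ * k) * f h =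
      (Nat.card P : ℂ) * (Nat.card P : ℂ) * ((∑ h : G, f h * om P ψ h⁻¹) * om P ψ k) := by
    calc (Nat.card P : ℂ) * (Nat.card P : ℂ) * ∑ h : G, ψ (h⁻¹ * k) * f h
        = ∑ _u : P, ∑ _u' : P, ∑ h : G, ψ (h⁻¹ * k) * f h := by
          simp only [Finset.sum_const, Finset.card_univ, nsmul_eq_mul, hcard]
          ring
      _ = ∑ u : P, ∑ u' : P, ∑ h : G, ψ (h⁻¹ * (u : G)⁻¹ * k * (u' : G)) * f h := by
          refine Finset.sum_congr rfl fun u _ => Finset.sum_congr rfl fun u' _ => hA u u' k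
      _ = ∑ u : P, ∑ h : G, (∑ u' : P, ψ (h⁻¹ * (u : G)⁻¹ * k * (u' : G))) * f h := by
          refine Finset.sum_congr rfl fun u _ => ?_
          rw [Finset.sum_comm]
          refine Finset.sum_congr rfl fun h _ => ?_
          rw [Finset.sum_mul]
      _ = ∑ u : P, ∑ h : G, ((Nat.card P : ℂ) * om P ψ (h⁻¹ * (u : G)⁻¹ * k)) * f h := by
          refine Finset.sum_congr rfl fun u _ => Finset.sum_congr rfl fun h _ => ?_
          rw [hom]
      _ = ∑ h : G, (Nat.card P : ℂ) * f h * ∑ u : P, om P ψ (h⁻¹ * (u : G)⁻¹ * k) := by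
          rw [Finset.sum_comm]
          refine Finset.sum_congr rfl fun h _ => ?_
          rw [Finset.mul_sum]
          refine Finset.sum_congr rfl fun u _ => ?_
          ring
      _ = ∑ h : G, (Nat.card P : ℂ) * f h *
            ((Nat.card P : ℂ) * (om P ψ h⁻¹ * om P ψ k)) := by
          refine Finset.sum_congr rfl fun h _ => ?_
          congr 1
          rw [← hrk' h⁻¹ k]
          exact Fintype.sum_equiv (Equiv.inv P) _ _ (fun u => by simp)
      _ = _ := by
          rw [Finset.sum_mul, Finset.mul_sum]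
          refine Finset.sum_congr rfl fun h _ => ?_
          ring
  exact mul_left_cancel₀ (mul_ne_zero hn0 hn0) key

end Cfsg.Agent.Lib.Helper10.BW
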