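import Mathlib
import Cfsg.Agent.Lib.Helper10.BWDefs
import Cfsg.Agent.Lib.Helper4.CharDual
import Cfsg.Agent.Lib.Helper4.BrSpan
import Cfsg.Agent.Lib.Helper73.BRI1
import Cfsg.Agent.Lib.Helper83.BTK4
import Cfsg.Agent.Lib.Helper83.IrrBasic
import Cfsg.Agent.Lib.Helper82.CharCore

/-!
# S0997 case B2 (project BW), piece ST (helper84): `exists_st`

`θ · conj θ'` has a constituent `χ₂ ∈ D` of multiplicity one, with a one-dimensional space of
`P`-fixed vectors and a nonzero `N`-fixed vector.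
-/

set_option autoImplicit false
set_option linter.style.haveILetI false

namespace Cfsg.Agent.Lib.Helper10.BW

open Cfsg
open Cfsg.Agent.Lib.Helper83 (trivIrr)
open Cfsg.Agent.Lib.Helper10.BR (psum DOut)
open scoped ComplexConjugate

universe u

variable {G : Type u} [Group G] [Fintype G]
variable {p e : ℕ} {P : Subgroup G} {θ θ' : IrrCharacter G} {Xp Xm D : Finset (IrrCharacter G)}

private theorem st_isChar {G : Type u} [Group G] (χ : IrrCharacter G) :
    IsCharacter G (χ : G → ℂ) := by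
  obtain ⟨n, ρ, -, h⟩ := χ.2
  exact ⟨n, ρ, h⟩

/-- Arithmetic of the `Xm` case: `4e + 1` does not divide `p 2^b (e + 1)`. -/
private theorem st_arith_xm (p e b d : ℕ) (hpe : p = 2 * e + 1) (he2 : 2 ≤ e)
    (hd : d + 1 = p * (1 + 1)) (hdvd : d ∣ p * 2 ^ b * (e + 1)) : False := by
  have hd' : d = 4 * e + 1 := by subst hpe; omega
  subst hd'
  have hc1 : Nat.Coprime (4 * e + 1) p := by
    subst hpe
    have h0 : Nat.gcd (4 * e + 1) (2 * e + 1) ∣ 1 := by
      have h1 : Nat.gcd (4 * e + 1) (2 * e + 1) ∣ 4 * e + 1 := Nat.gcd_dvd_left _ _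
      have h2 : Nat.gcd (4 * e + 1) (2 * e + 1) ∣ 2 * (2 * e + 1) :=
        Dvd.dvd.mul_left (Nat.gcd_dvd_right _ _) 2
      have h3 := Nat.dvd_sub h2 h1
      have h4 : 2 * (2 * e + 1) - (4 * e + 1) = 1 := by omega
      rw [h4] at h3
      exact h3
    exact Nat.dvd_one.mp h0
  have hc2 : Nat.Coprime (4 * e + 1) (2 ^ b) := by
    apply Nat.Coprime.pow_right
    rw [Nat.coprime_two_right]
    exact ⟨2 * e, by ring⟩
  have hc3 : Nat.Coprime (4 * e + 1) (p * 2 ^ b) := Nat.Coprime.mul_right hc1 hc2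
  have h5 : 4 * e + 1 ∣ e + 1 := hc3.dvd_of_dvd_mul_left hdvd
  have h6 := Nat.le_of_dvd (by omega) h5
  omega

/-- BW-ST -/
theorem exists_st [Fintype (IrrCharacter G)] (h : VTab G p e P θ θ' Xp Xm D)
    (htypes : ∀ χ : IrrCharacter G, ∃ a : ℕ, psum P (χ : G → ℂ) 1 = (p : ℂ) * a ∧
      ((χ = θ ∨ χ = θ' ∨ χ = trivIrr G) ∧ a = 1 ∨
       χ ∈ Xp ∧ 2 ≤ a ∨
       χ ∈ Xm ∧ charDegree (χ : G → ℂ) + 1 = p * (a + 1) ∨
       χ ∈ D ∧ 1 ≤ a ∧ charDegree (χ : G → ℂ) = p * a))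
    (hcnt : ∀ (H : Subgroup G) (φ : G → ℂ), IsCharacter G φ →
      psum H φ 1 = ∑ χ : IrrCharacter G, classInner φ (χ : G → ℂ) * psum H (χ : G → ℂ) 1)
    (hsN : psum (Subgroup.normalizer (P : Set G)) (pc (θ : G → ℂ) (θ' : G → ℂ)) 1 = (e : ℂ) * p)
    (hsP : psum P (pc (θ : G → ℂ) (θ' : G → ℂ)) 1 = (p : ℂ)) :
    ∃ χ₂ ∈ D, classInner (pc (θ : G → ℂ) (θ' : G → ℂ)) (χ₂ : G → ℂ) = 1 ∧
      psum P (χ₂ : G → ℂ) 1 = (p : ℂ) ∧
      psum (Subgroup.normalizer (P : Set G)) (χ₂ : G → ℂ) 1 ≠ 0 := by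
  classical
  have hp := h.hp
  have hpe := h.hpe
  have he2 := h.he2
  have hp0 : (p : ℂ) ≠ 0 := by exact_mod_cast hp.ne_zero
  have he0 : (e : ℂ) ≠ 0 := by
    have : e ≠ 0 := by omega
    exact_mod_cast this
  have hNc : (Nat.card (Subgroup.normalizer (P : Set G)) : ℂ) = (e : ℂ) * p := by
    rw [h.cardN]; push_cast; ring
  -- `φ = θ · conj θ'` is a character
  have hφ : IsCharacter G (pc (θ : G → ℂ) (θ' : G → ℂ)) := by
    have h1 := Cfsg.Agent.Lib.Helper4.isCharacter_mul (θ : G → ℂ)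
      (fun g => conj ((θ' : G → ℂ) g)) (st_isChar θ)
      (Cfsg.Agent.Lib.Helper4.isCharacter_conj _ (st_isChar θ'))
    have h2 : pc (θ : G → ℂ) (θ' : G → ℂ) =
        (θ : G → ℂ) * fun g => conj ((θ' : G → ℂ) g) := rfl
    rw [h2]
    exact h1
  obtain ⟨φ, hφdef⟩ : ∃ φ : G → ℂ, φ = pc (θ : G → ℂ) (θ' : G → ℂ) := ⟨_, rfl⟩
  rw [← hφdef] at hsN hsP hφ ⊢
  -- multiplicities
  obtain ⟨m, hm⟩ := Cfsg.Agent.Lib.Helper4.exists_decomp_of_isCharacter φ hφ
  have hmi : ∀ χ : IrrCharacter G, classInner φ (χ : G → ℂ) = (m χ : ℂ) := by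
    intro χ
    rw [hm]
    exact Cfsg.Agent.Lib.Helper4.classInner_sum_irr (fun χ => (m χ : ℂ)) χ
  choose a ha using htypes
  choose n hn using fun χ : IrrCharacter G =>
    Cfsg.Agent.Lib.Helper10.BR.BRI1aux.psum_nat (Subgroup.normalizer (P : Set G)) χ
  -- `Σ m a = 1`
  have hma : ∑ χ : IrrCharacter G, m χ * a χ = 1 := by
    have h1 := hcnt P φ hφ
    have h2 : ∑ χ : IrrCharacter G, classInner φ (χ : G → ℂ) * psum P (χ : G → ℂ) 1 =
        (p : ℂ) * ((∑ χ : IrrCharacter G, m χ * a χ : ℕ) : ℂ) := by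
      push_cast
      rw [Finset.mul_sum]
      refine Finset.sum_congr rfl fun χ _ => ?_
      rw [hmi χ, (ha χ).1]
      ring
    have h3 : (p : ℂ) * ((∑ χ : IrrCharacter G, m χ * a χ : ℕ) : ℂ) = (p : ℂ) * 1 := by
      rw [← h2, ← h1, hsP, mul_one]
    have h4 := mul_left_cancel₀ hp0 h3
    exact_mod_cast h4
  -- `Σ m n = 1`
  have hmn : ∑ χ : IrrCharacter G, m χ * n χ = 1 := by
    have h1 := hcnt (Subgroup.normalizer (P : Set G)) φ hφ
    have h2 : ∑ χ : IrrCharacter G, classInner φ (χ : G → ℂ) *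
          psum (Subgroup.normalizer (P : Set G)) (χ : G → ℂ) 1 =
        ((e : ℂ) * p) * ((∑ χ : IrrCharacter G, m χ * n χ : ℕ) : ℂ) := by
      push_cast
      rw [Finset.mul_sum]
      refine Finset.sum_congr rfl fun χ _ => ?_
      rw [hmi χ, hn χ, hNc]
      ring
    have h3 : ((e : ℂ) * p) * ((∑ χ : IrrCharacter G, m χ * n χ : ℕ) : ℂ) =
        ((e : ℂ) * p) * 1 := by
      rw [← h2, ← h1, hsN, mul_one]
    have h4 := mul_left_cancel₀ (mul_ne_zero he0 hp0) h3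
    exact_mod_cast h4
  -- `n ≤ a`
  have hna : ∀ χ : IrrCharacter G, n χ ≤ a χ := by
    intro χ
    have h1 := Cfsg.Agent.Lib.Helper10.BT.perm_le P (Subgroup.normalizer (P : Set G))
      Subgroup.le_normalizer le_rfl χ
    rw [hn χ, (ha χ).1] at h1
    have h2 : ‖(Nat.card (Subgroup.normalizer (P : Set G)) : ℂ) * (n χ : ℂ)‖ =
        ((Nat.card (Subgroup.normalizer (P : Set G)) * n χ : ℕ) : ℝ) := by
      rw [← Nat.cast_mul, Complex.norm_natCast]
    have h3 : ((p : ℂ) * (a χ : ℂ)).re = ((p * a χ : ℕ) : ℝ) := by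
      rw [← Nat.cast_mul, Complex.natCast_re]
    rw [h2, h3, h.cardP, h.cardN] at h1
    have h4 : e * p * n χ * p ≤ p * a χ * (e * p) := by exact_mod_cast h1
    have h5 : (e * p * p) * n χ ≤ (e * p * p) * a χ := by
      calc (e * p * p) * n χ = e * p * n χ * p := by ring
        _ ≤ p * a χ * (e * p) := h4
        _ = (e * p * p) * a χ := by ring
    have hpos : 0 < e * p * p := by
      have := hp.pos
      have : 0 < e := by omega
      positivity
    exact Nat.le_of_mul_le_mul_left h5 hpos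
  -- the constituent `χ₂`
  have hex : ∃ χ₂ : IrrCharacter G, m χ₂ * n χ₂ ≠ 0 := by
    by_contra hcon
    have hcon' : ∀ χ : IrrCharacter G, m χ * n χ = 0 := fun χ =>
      by_contra fun hne => hcon ⟨χ, hne⟩
    rw [Finset.sum_eq_zero (fun χ _ => hcon' χ)] at hmn
    exact zero_ne_one hmn
  obtain ⟨χ₂, hχ₂⟩ := hex
  have hm1 : 1 ≤ m χ₂ := Nat.one_le_iff_ne_zero.mpr (fun h0 => hχ₂ (by rw [h0, zero_mul]))
  have hn1 : 1 ≤ n χ₂ := Nat.one_le_iff_ne_zero.mpr (fun h0 => hχ₂ (by rw [h0, mul_zero]))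
  have ha1 : 1 ≤ a χ₂ := le_trans hn1 (hna χ₂)
  have hle : m χ₂ * a χ₂ ≤ 1 := by
    rw [← hma]
    exact Finset.single_le_sum (f := fun χ => m χ * a χ) (fun χ _ => Nat.zero_le _)
      (Finset.mem_univ χ₂)
  have hm_eq : m χ₂ = 1 := by
    have h1 : m χ₂ * 1 ≤ m χ₂ * a χ₂ := Nat.mul_le_mul_left _ ha1
    omega
  have ha_eq : a χ₂ = 1 := by
    have h1 : 1 * a χ₂ ≤ m χ₂ * a χ₂ := Nat.mul_le_mul_right _ hm1
    omega
  have hothers : ∀ χ : IrrCharacter G, χ ≠ χ₂ → m χ * a χ = 0 := by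
    intro χ hne
    have h1 : m χ₂ * a χ₂ + ∑ χ ∈ Finset.univ.erase χ₂, m χ * a χ = 1 := by
      rw [Finset.add_sum_erase _ (fun χ => m χ * a χ) (Finset.mem_univ χ₂)]
      exact hma
    rw [hm_eq, ha_eq] at h1
    have h2 : ∑ χ ∈ Finset.univ.erase χ₂, m χ * a χ = 0 := by omega
    have h3 : m χ * a χ ≤ ∑ χ ∈ Finset.univ.erase χ₂, m χ * a χ :=
      Finset.single_le_sum (f := fun χ => m χ * a χ) (fun χ _ => Nat.zero_le _)
        (Finset.mem_erase.mpr ⟨hne, Finset.mem_univ χ⟩)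
    rw [h2] at h3
    exact Nat.le_zero.mp h3
  -- the degree equation
  have hdegsum : (e + 1) ^ 2 = ∑ χ : IrrCharacter G, m χ * charDegree (χ : G → ℂ) := by
    have h1 := congrFun hm 1
    simp only [Finset.sum_apply, Pi.smul_apply, smul_eq_mul] at h1
    have h2 : φ 1 = (((e + 1) ^ 2 : ℕ) : ℂ) := by
      rw [hφdef]
      show (θ : G → ℂ) 1 * conj ((θ' : G → ℂ) 1) = _
      rw [h.degθ, h.degθ', map_add, Complex.conj_natCast, map_one]
      push_cast
      ring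
    have h3 : ∑ χ : IrrCharacter G, (m χ : ℂ) * (χ : G → ℂ) 1 =
        ((∑ χ : IrrCharacter G, m χ * charDegree (χ : G → ℂ) : ℕ) : ℂ) := by
      push_cast
      refine Finset.sum_congr rfl fun χ _ => ?_
      rw [(Cfsg.Agent.Lib.Helper82.irr_charDegree χ).1]
    rw [h2, h3] at h1
    exact_mod_cast h1
  have hdegcase : charDegree (χ₂ : G → ℂ) = e + 1 → False := by
    intro hd2
    have h1 : m χ₂ * charDegree (χ₂ : G → ℂ) +
        ∑ χ ∈ Finset.univ.erase χ₂, m χ * charDegree (χ : G → ℂ) = (e + 1) ^ 2 := by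
      rw [Finset.add_sum_erase _ (fun χ => m χ * charDegree (χ : G → ℂ)) (Finset.mem_univ χ₂)]
      exact hdegsum.symm
    have h2 : ∑ χ ∈ Finset.univ.erase χ₂, m χ * charDegree (χ : G → ℂ) =
        (∑ χ ∈ Finset.univ.erase χ₂, m χ) * (2 * e) := by
      rw [Finset.sum_mul]
      refine Finset.sum_congr rfl fun χ hχ => ?_
      have hne : χ ≠ χ₂ := (Finset.mem_erase.mp hχ).1
      rcases Nat.eq_zero_or_pos (m χ) with h0 | hpos
      · rw [h0, zero_mul, zero_mul]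
      · have ha0 : a χ = 0 := by
          rcases Nat.mul_eq_zero.mp (hothers χ hne) with h3 | h3
          · omega
          · exact h3
        have hd : charDegree (χ : G → ℂ) = 2 * e := by
          rcases (ha χ).2 with ⟨-, h3⟩ | ⟨-, h3⟩ | ⟨-, h3⟩ | ⟨-, h3, -⟩
          · omega
          · omega
          · rw [ha0, zero_add, mul_one] at h3
            omega
          · omega
        rw [hd]
    rw [h2, hm_eq, hd2, one_mul] at h1
    generalize ∑ χ ∈ Finset.univ.erase χ₂, m χ = K at h1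
    have h3 : e * (e + 1) = e * (2 * K) := by
      have e1 : (e + 1) ^ 2 = e * (e + 1) + (e + 1) := by ring
      have e2 : K * (2 * e) = e * (2 * K) := by ring
      omega
    have h4 : e + 1 = 2 * K := Nat.eq_of_mul_eq_mul_left (by omega) h3
    obtain ⟨r, hr⟩ := h.heven
    omega
  have hdegθ : charDegree (θ : G → ℂ) = e + 1 := by
    have h1 : ((charDegree (θ : G → ℂ) : ℕ) : ℂ) = ((e + 1 : ℕ) : ℂ) := by
      rw [(Cfsg.Agent.Lib.Helper82.irr_charDegree θ).1, h.degθ]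
      push_cast
      rfl
    exact_mod_cast h1
  have hdegθ' : charDegree (θ' : G → ℂ) = e + 1 := by
    have h1 : ((charDegree (θ' : G → ℂ) : ℕ) : ℂ) = ((e + 1 : ℕ) : ℂ) := by
      rw [(Cfsg.Agent.Lib.Helper82.irr_charDegree θ').1, h.degθ']
      push_cast
      rfl
    exact_mod_cast h1
  have hD : χ₂ ∈ D := by
    rcases (ha χ₂).2 with ⟨hcase, -⟩ | ⟨-, h2⟩ | ⟨-, hdeg⟩ | ⟨hd, -, -⟩
    · exfalso
      rcases hcase with hθ | hθ | htriv
      · exact hdegcase (by rw [hθ]; exact hdegθ)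
      · exact hdegcase (by rw [hθ]; exact hdegθ')
      · have h1 : classInner φ (trivIrr G : G → ℂ) =
            classInner (θ : G → ℂ) (θ' : G → ℂ) := by
          rw [hφdef]
          unfold classInner pc
          congr 1
          refine Finset.sum_congr rfl fun g _ => ?_
          rw [Cfsg.Agent.Lib.Helper83.trivIrr_apply, map_one, mul_one]
        rw [← htriv, hmi χ₂, hm_eq, Cfsg.Agent.Lib.Helper83.irr_orthonormal, if_neg h.ne] at h1
        exact_mod_cast h1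
    · omega
    · exfalso
      obtain ⟨b, hb⟩ := h.cardG
      have hdvd := Cfsg.Agent.Lib.Helper82.irr_degree_dvd_card χ₂
      rw [hb] at hdvd
      rw [ha_eq] at hdeg
      exact st_arith_xm p e b _ hpe he2 hdeg hdvd
    · exact hd
  refine ⟨χ₂, hD, ?_, ?_, ?_⟩
  · rw [hmi χ₂, hm_eq]
    norm_num
  · rw [(ha χ₂).1, ha_eq]
    norm_num
  · rw [hn χ₂, hNc]
    have h1 : (n χ₂ : ℂ) ≠ 0 := by
      have : n χ₂ ≠ 0 := by omega
      exact_mod_cast this
    exact mul_ne_zero (mul_ne_zero he0 hp0) h1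

end Cfsg.Agent.Lib.Helper10.BW
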