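import Mathlib
import Cfsg.Agent.Lib.Helper20.Clifford
import Cfsg.Agent.Lib.Helper20.NormalInd
import Cfsg.Agent.Lib.Helper4.CharClosure

set_option autoImplicit false

namespace Cfsg.Agent.Lib.Helper84

open Cfsg Cfsg.Agent.Lib
open scoped ComplexConjugate

section CliffInd

theorem eq_zero_of_classInner_self {G : Type*} [Group G] [Fintype G] (f : G → ℂ)
    (h : classInner f f = 0) (g : G) : f g = 0 := by
  unfold classInner at h
  have hG : (Nat.card G : ℂ) ≠ 0 := by exact_mod_cast (Nat.card_pos (α := G)).ne'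
  have h1 : ∑ g : G, f g * conj (f g) = 0 := by
    rcases mul_eq_zero.mp h with h | h
    · exact absurd (inv_eq_zero.mp h) hG
    · exact h
  have h2 : ∑ g : G, Complex.normSq (f g) = 0 := by
    have : ((∑ g : G, Complex.normSq (f g) : ℝ) : ℂ) = 0 := by
      rw [Complex.ofReal_sum]
      simp_rw [← Complex.mul_conj]
      exact h1
    exact_mod_cast this
  have h3 := (Finset.sum_eq_zero_iff_of_nonneg
    (fun g _ => Complex.normSq_nonneg (f g))).mp h2 g (Finset.mem_univ g)
  exact Complex.normSq_eq_zero.mp h3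

variable {G : Type*} [Group G] [Fintype G] (N : Subgroup G) [hN : N.Normal] [Fintype N]
  (I : Subgroup G) [Fintype I] (hNI : N ≤ I)

omit [Fintype N] [Fintype I] in
/-- Values on `N` of the function induced from an extension `ψ` of `φ` to `I ≥ N`. -/
theorem ind_ext_apply (φ : N → ℂ) (ψ : I → ℂ)
    (hext : ∀ n : N, ψ (Subgroup.inclusion hNI n) = φ n) (n : N) :
    indFun I ψ n = (Nat.card I : ℂ)⁻¹ * ∑ x : G, Helper20.conjFun N φ x n := by
  unfold indFun
  congr 1
  rw [← Equiv.sum_comp (Equiv.inv G) (fun x => Helper20.conjFun N φ x n)]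
  apply Finset.sum_congr rfl
  intro x _
  have hmem : x⁻¹ * (n : G) * x ∈ N := by
    have := hN.conj_mem (n : G) n.2 x⁻¹
    rwa [inv_inv] at this
  rw [Helper35.ext_mem I _ _ (hNI hmem)]
  have h1 : (⟨x⁻¹ * (n : G) * x, hNI hmem⟩ : I) =
      Subgroup.inclusion hNI ⟨x⁻¹ * (n : G) * x, hmem⟩ := rfl
  rw [h1, hext]
  simp only [Equiv.inv_apply, Helper20.conjFun_apply]
  congr 1
  apply Subtype.ext
  simp

omit [Fintype N] [Fintype I] in
theorem ind_ext_res (φ : N → ℂ) (ψ : I → ℂ)
    (hext : ∀ n : N, ψ (Subgroup.inclusion hNI n) = φ n) :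
    (fun n : N => indFun I ψ n) =
      (Nat.card I : ℂ)⁻¹ • ∑ x : G, Helper20.conjFun N φ x := by
  funext n
  rw [ind_ext_apply N I hNI φ ψ hext n]
  simp only [Pi.smul_apply, Finset.sum_apply, smul_eq_mul]

/-- `[res_N (ind ψ), φ] = 1` when `ψ` extends `φ` to its inertia group. -/
theorem classInner_res_ind_ext (φ : N → ℂ) (hφ : IsIrrCharacter N φ)
    (hI : ∀ g : G, g ∈ I ↔ Helper20.conjFun N φ g = φ) (ψ : I → ℂ)
    (hext : ∀ n : N, ψ (Subgroup.inclusion hNI n) = φ n) :
    classInner (fun n : N => indFun I ψ n) φ = 1 := by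
  classical
  rw [ind_ext_res N I hNI φ ψ hext, Helper35.classInner_smul_left,
    Helper35.classInner_sum_left]
  have h2 : ∀ x : G, classInner (Helper20.conjFun N φ x) φ = if x ∈ I then 1 else 0 := by
    intro x
    rw [Helper35.classInner_irr' (Helper20.conjFun_irr N hφ x) hφ]
    by_cases hx : x ∈ I
    · rw [if_pos hx, if_pos ((hI x).mp hx)]
    · rw [if_neg hx, if_neg (fun h => hx ((hI x).mpr h))]
  simp only [h2]
  rw [Finset.sum_boole]
  have h3 : (Finset.univ.filter (fun x : G => x ∈ I)).card = Nat.card I := by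
    rw [Nat.card_eq_fintype_card, Fintype.card_subtype]
  rw [h3]
  have hne : (Nat.card I : ℂ) ≠ 0 := by exact_mod_cast (Nat.card_pos (α := I)).ne'
  field_simp

/-- `[res_N (ind ψ), res_N (ind ψ)] = |G : I|`. -/
theorem classInner_res_ind_self (φ : N → ℂ) (hφ : IsIrrCharacter N φ)
    (hI : ∀ g : G, g ∈ I ↔ Helper20.conjFun N φ g = φ) (ψ : I → ℂ)
    (hext : ∀ n : N, ψ (Subgroup.inclusion hNI n) = φ n) :
    classInner (fun n : N => indFun I ψ n) (fun n : N => indFun I ψ n) = (I.index : ℂ) := by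
  have hcf : IsClassFunction G (indFun I ψ) := Helper35.isClassFunction_indFun I ψ
  have h1 := ind_ext_res N I hNI φ ψ hext
  have h2 : classInner (fun n : N => indFun I ψ n) (fun n : N => indFun I ψ n) =
      classInner (fun n : N => indFun I ψ n)
        ((Nat.card I : ℂ)⁻¹ • ∑ x : G, Helper20.conjFun N φ x) := by
    rw [← h1]
  rw [h2, Helper35.classInner_smul_right, Helper35.classInner_sum_right]
  simp only [Helper20.classInner_res_conjFun N hcf φ,
    classInner_res_ind_ext N I hNI φ hφ hI ψ hext]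
  have hne : (Nat.card I : ℂ) ≠ 0 := by exact_mod_cast (Nat.card_pos (α := I)).ne'
  rw [Finset.sum_const, Finset.card_univ, ← Nat.card_eq_fintype_card,
    ← Subgroup.card_mul_index I]
  simp only [map_inv₀, map_natCast, nsmul_eq_mul, mul_one]
  push_cast
  field_simp

/-- Clifford correspondence (extension case): inducing an extension of `φ` from the inertia
group gives an irreducible character. -/
theorem ind_ext_irr (φ : N → ℂ) (hφ : IsIrrCharacter N φ)
    (hI : ∀ g : G, g ∈ I ↔ Helper20.conjFun N φ g = φ) (ψ : I → ℂ) (hψ : IsIrrCharacter I ψ)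
    (hext : ∀ n : N, ψ (Subgroup.inclusion hNI n) = φ n) :
    IsIrrCharacter G (indFun I ψ) := by
  classical
  have hfinI := Helper4.irr_finite (G := I)
  letI : Fintype (IrrCharacter I) := Fintype.ofFinite _
  have hfinG := Helper4.irr_finite (G := G)
  letI : Fintype (IrrCharacter G) := Fintype.ofFinite _
  have hchar : IsCharacter G (indFun I ψ) :=
    Helper35.isCharacter_indFun I (Helper35.isChar_of_irr hψ)
  have hcf : IsClassFunction G (indFun I ψ) := Helper35.isClassFunction_indFun I ψ
  apply Helper4.isIrrCharacter_of_norm_one _ hchar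
  have hfrob : classInner (indFun I ψ) (indFun I ψ) =
      classInner ψ (Helper35.res I (indFun I ψ)) :=
    Helper35.frobenius_reciprocity I ψ _ hcf
  obtain ⟨a, ha⟩ := Helper4.exists_decomp_of_isCharacter (Helper35.res I (indFun I ψ))
    (Helper35.isCharacter_res I hchar)
  have haψ : classInner (Helper35.res I (indFun I ψ)) ψ = a ⟨ψ, hψ⟩ := by
    conv_lhs => rw [ha]
    exact Helper4.classInner_sum_irr _ ⟨ψ, hψ⟩
  have h1 : classInner (indFun I ψ) (indFun I ψ) = a ⟨ψ, hψ⟩ := by
    rw [hfrob, Helper4.classInner_conj_symm, haψ, Complex.conj_natCast]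
  have hres : (fun n : N => indFun I ψ n) = ∑ η : IrrCharacter I,
      (a η : ℂ) • (fun n : N => (η : I → ℂ) (Subgroup.inclusion hNI n)) := by
    funext n
    have := congrFun ha (Subgroup.inclusion hNI n)
    simp only [Helper35.res_apply, Finset.sum_apply, Pi.smul_apply, smul_eq_mul] at this ⊢
    exact this
  have hb : ∀ η : IrrCharacter I, ∃ k : ℕ,
      classInner (fun n : N => (η : I → ℂ) (Subgroup.inclusion hNI n)) φ = k := by
    intro η
    exact Helper35.classInner_char_nat
      (Helper20.isCharacter_comp (Subgroup.inclusion hNI) (Helper35.isChar_of_irr η.2))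
      (Helper35.isChar_of_irr hφ)
  choose b hb using hb
  have hbψ : b ⟨ψ, hψ⟩ = 1 := by
    have h := hb ⟨ψ, hψ⟩
    have h2 : (fun n : N => ψ (Subgroup.inclusion hNI n)) = φ := funext hext
    have h3 : classInner (fun n : N => ψ (Subgroup.inclusion hNI n)) φ =
        (b ⟨ψ, hψ⟩ : ℂ) := h
    rw [h2, Helper35.classInner_irr' hφ hφ, if_pos rfl] at h3
    exact_mod_cast h3.symm
  have hsum : (∑ η : IrrCharacter I, a η * b η : ℕ) = 1 := by
    have h := classInner_res_ind_ext N I hNI φ hφ hI ψ hext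
    rw [hres, Helper35.classInner_sum_left] at h
    simp only [Helper35.classInner_smul_left, hb] at h
    exact_mod_cast h
  have hle : a ⟨ψ, hψ⟩ ≤ 1 := by
    have := Finset.single_le_sum (f := fun η => a η * b η) (fun η _ => Nat.zero_le _)
      (Finset.mem_univ (⟨ψ, hψ⟩ : IrrCharacter I))
    simp only [hbψ, mul_one] at this
    omega
  have hne : a ⟨ψ, hψ⟩ ≠ 0 := by
    intro h0
    rw [h0, Nat.cast_zero] at h1
    have h2 := eq_zero_of_classInner_self _ h1 1
    rw [Helper35.indFun_one_eq] at h2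
    have h3 : (I.index : ℂ) ≠ 0 := by
      exact_mod_cast (Subgroup.index_ne_zero_of_finite (H := I))
    rcases mul_eq_zero.mp h2 with h | h
    · exact h3 h
    · exact Helper83.irr_one_ne_zero hψ h
  have h2 : a ⟨ψ, hψ⟩ = 1 := by omega
  rw [h1, h2, Nat.cast_one]

end CliffInd

section LinearFiber

variable {G : Type*} [Group G] [Fintype G]

/-- The product of an irreducible character with a linear character is irreducible. -/
theorem irr_mul_linear {χ lam : G → ℂ} (hχ : IsIrrCharacter G χ) (hl : IsIrrCharacter G lam)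
    (h1 : lam 1 = 1) : IsIrrCharacter G (χ * lam) := by
  classical
  have hfinG := Helper4.irr_finite (G := G)
  letI : Fintype (IrrCharacter G) := Fintype.ofFinite _
  apply Helper4.isIrrCharacter_of_norm_one _
    (Helper35.isCharacter_mul (Helper35.isChar_of_irr hχ) (Helper35.isChar_of_irr hl))
  have h2 : classInner (χ * lam) (χ * lam) = classInner χ χ := by
    unfold classInner
    congr 1
    apply Finset.sum_congr rfl
    intro g _
    simp only [Pi.mul_apply, map_mul]
    have h3 : lam g * conj (lam g) = 1 := by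
      rw [Complex.mul_conj, Complex.normSq_eq_norm_sq, Helper83.irr_linear_norm hl h1 g]
      simp
    calc χ g * lam g * (conj (χ g) * conj (lam g))
        = χ g * conj (χ g) * (lam g * conj (lam g)) := by ring
      _ = χ g * conj (χ g) := by rw [h3, mul_one]
  rw [h2, Helper35.classInner_irr' hχ hχ, if_pos rfl]

/-- If linear characters are trivial on `N`, at most `[χ₀_N, χ₀_N]` linear characters `μ`
give the same product `χ₀ μ`. -/
theorem card_fiber_le (N : Subgroup G) [Fintype N] (χ₀ : G → ℂ) (hχ₀ : IsIrrCharacter G χ₀)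
    (k : ℕ) (hk : classInner (fun n : N => χ₀ n) (fun n : N => χ₀ n) = k)
    (hlin : ∀ μ : IrrCharacter G, charDegree (μ : G → ℂ) = 1 → ∀ n : N, (μ : G → ℂ) n = 1)
    (lam : IrrCharacter G) (hlam : charDegree (lam : G → ℂ) = 1)
    [Fintype (IrrCharacter G)] [DecidableEq (IrrCharacter G)] :
    (Finset.univ.filter (fun μ : IrrCharacter G => charDegree (μ : G → ℂ) = 1 ∧
      χ₀ * (μ : G → ℂ) = χ₀ * (lam : G → ℂ))).card ≤ k := by
  classical
  set F := Finset.univ.filter (fun μ : IrrCharacter G => charDegree (μ : G → ℂ) = 1 ∧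
      χ₀ * (μ : G → ℂ) = χ₀ * (lam : G → ℂ)) with hF
  let Θ : G → ℂ := (fun g => conj (χ₀ g)) * (χ₀ * (lam : G → ℂ))
  have hΘ : IsCharacter G Θ :=
    Helper35.isCharacter_mul (Helper4.isCharacter_conj _ (Helper35.isChar_of_irr hχ₀))
      (Helper35.isCharacter_mul (Helper35.isChar_of_irr hχ₀) (Helper35.isChar_of_irr lam.2))
  obtain ⟨c, hc⟩ := Helper4.exists_decomp_of_isCharacter Θ hΘ
  have hcμ : ∀ μ ∈ F, c μ = 1 := by
    intro μ hμ
    obtain ⟨hμ1, hμ2⟩ := (Finset.mem_filter.mp hμ).2
    have h1 : classInner Θ (μ : G → ℂ) = c μ := by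
      conv_lhs => rw [hc]
      exact Helper4.classInner_sum_irr _ μ
    have hμone : (μ : G → ℂ) 1 = 1 := (Helper83.irr_charDegree_eq_one_iff μ.2).mp hμ1
    have h2 : classInner Θ (μ : G → ℂ) = classInner χ₀ χ₀ := by
      unfold classInner
      congr 1
      apply Finset.sum_congr rfl
      intro g _
      have h3 : (μ : G → ℂ) g * conj ((μ : G → ℂ) g) = 1 := by
        rw [Complex.mul_conj, Complex.normSq_eq_norm_sq, Helper83.irr_linear_norm μ.2 hμone g]
        simp
      have h4 : χ₀ g * (lam : G → ℂ) g = χ₀ g * (μ : G → ℂ) g := by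
        have := congrFun hμ2 g
        simp only [Pi.mul_apply] at this
        exact this.symm
      simp only [Θ, Pi.mul_apply]
      rw [h4]
      calc conj (χ₀ g) * (χ₀ g * (μ : G → ℂ) g) * conj ((μ : G → ℂ) g)
          = χ₀ g * conj (χ₀ g) * ((μ : G → ℂ) g * conj ((μ : G → ℂ) g)) := by ring
        _ = χ₀ g * conj (χ₀ g) := by rw [h3, mul_one]
    rw [h2, Helper35.classInner_irr' hχ₀ hχ₀, if_pos rfl] at h1
    exact_mod_cast h1.symm
  -- restriction to N
  have hone : IsIrrCharacter N (fun _ => (1 : ℂ)) := Helper83.isIrr_one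
  have hd : ∀ χ : IrrCharacter G, ∃ d : ℕ,
      classInner (fun n : N => (χ : G → ℂ) n) (fun _ : N => (1 : ℂ)) = d := by
    intro χ
    exact Helper35.classInner_char_nat
      (Helper35.isCharacter_res N (Helper35.isChar_of_irr χ.2)) (Helper35.isChar_of_irr hone)
  choose d hd using hd
  have hdμ : ∀ μ ∈ F, d μ = 1 := by
    intro μ hμ
    obtain ⟨hμ1, -⟩ := (Finset.mem_filter.mp hμ).2
    have h1 := hd μ
    have h2 : (fun n : N => (μ : G → ℂ) n) = fun _ : N => (1 : ℂ) := funext (hlin μ hμ1)
    rw [h2, Helper35.classInner_irr' hone hone, if_pos rfl] at h1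
    exact_mod_cast h1.symm
  have hresΘ : (fun n : N => Θ n) =
      ∑ χ : IrrCharacter G, (c χ : ℂ) • (fun n : N => (χ : G → ℂ) n) := by
    funext n
    have := congrFun hc n
    simp only [Finset.sum_apply, Pi.smul_apply, smul_eq_mul] at this ⊢
    exact this
  have hsum : (∑ χ : IrrCharacter G, c χ * d χ : ℕ) = k := by
    have h1 : classInner (fun n : N => Θ n) (fun _ : N => (1 : ℂ)) =
        classInner (fun n : N => χ₀ n) (fun n : N => χ₀ n) := by
      unfold classInner
      congr 1
      apply Finset.sum_congr rfl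
      intro n _
      simp only [Θ, Pi.mul_apply, map_one, mul_one, hlin lam hlam n]
      ring
    rw [hk, hresΘ, Helper35.classInner_sum_left] at h1
    simp only [Helper35.classInner_smul_left, hd] at h1
    exact_mod_cast h1
  calc F.card = ∑ μ ∈ F, c μ * d μ := by
        rw [Finset.card_eq_sum_ones]
        apply Finset.sum_congr rfl
        intro μ hμ
        rw [hcμ μ hμ, hdμ μ hμ]
    _ ≤ ∑ χ : IrrCharacter G, c χ * d χ :=
        Finset.sum_le_sum_of_subset (Finset.subset_univ F)
    _ = k := hsum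

end LinearFiber

section MinNormal

/-- The statement of S4870. -/
theorem lin_le_index_mul {G : Type*} [Group G] [Finite G] (N : Subgroup G) (hN : N.Normal)
    (hmin : ∀ M : Subgroup G, M.Normal → M ≤ N → M = ⊥ ∨ M = N)
    (hna : ¬ IsMulCommutative ↥N) (φ : IrrCharacter ↥N) (I : Subgroup G)
    (hI : ∀ g : G, g ∈ I ↔ ∀ n n' : ↥N, (n' : G) = g * (n : G) * g⁻¹ →
      (φ : ↥N → ℂ) n' = (φ : ↥N → ℂ) n) (hNI : N ≤ I)
    (hext : ∃ ψ : IrrCharacter ↥I, ∀ n : ↥N,
      (ψ : ↥I → ℂ) (Subgroup.inclusion hNI n) = (φ : ↥N → ℂ) n) :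
    Nat.card {χ : IrrCharacter G // charDegree (χ : G → ℂ) = 1} ≤
      I.index * Nat.card {χ : IrrCharacter G //
        charDegree (χ : G → ℂ) = charDegree (φ : ↥N → ℂ) * I.index} := by
  classical
  letI := Fintype.ofFinite G
  letI := Fintype.ofFinite N
  letI := Fintype.ofFinite I
  have hfinG := Helper4.irr_finite (G := G)
  letI : Fintype (IrrCharacter G) := Fintype.ofFinite _
  haveI := hN
  obtain ⟨ψ, hψ⟩ := hext
  have hI' : ∀ g : G, g ∈ I ↔ Helper20.conjFun N (φ : ↥N → ℂ) g = (φ : ↥N → ℂ) := by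
    intro g
    rw [hI g]
    constructor
    · intro h
      funext n
      rw [Helper20.conjFun_apply]
      exact h n ⟨g * n * g⁻¹, hN.conj_mem (n : G) n.2 g⟩ rfl
    · intro h n n' hn
      have h1 := congrFun h n
      rw [Helper20.conjFun_apply] at h1
      have h2 : n' = ⟨g * n * g⁻¹, hN.conj_mem (n : G) n.2 g⟩ := Subtype.ext hn
      rw [h2, h1]
  have hχ₀ : IsIrrCharacter G (indFun I (ψ : ↥I → ℂ)) :=
    ind_ext_irr N I hNI φ.1 φ.2 hI' ψ.1 ψ.2 hψ
  have hk := classInner_res_ind_self N I hNI φ.1 φ.2 hI' ψ.1 hψ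
  -- N is contained in the commutator subgroup
  have hNc : N ≤ commutator G := by
    have h1 : ⁅N, N⁆ ≤ N := Subgroup.commutator_le_right N N
    rcases hmin ⁅N, N⁆ inferInstance h1 with h | h
    · exfalso
      apply hna
      rw [Subgroup.commutator_eq_bot_iff_le_centralizer] at h
      refine ⟨⟨fun a b => ?_⟩⟩
      apply Subtype.ext
      have := h a.2 b b.2
      simpa using this.symm
    · rw [← h, commutator_def]
      exact Subgroup.commutator_mono le_top le_top
  have hlin : ∀ μ : IrrCharacter G, charDegree (μ : G → ℂ) = 1 →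
      ∀ n : N, (μ : G → ℂ) n = 1 := by
    intro μ hμ n
    exact Helper83.irr_linear_commutator μ.2
      ((Helper83.irr_charDegree_eq_one_iff μ.2).mp hμ) (hNc n.2)
  -- the degree of the products
  have hdeg : ∀ lam : IrrCharacter G, charDegree (lam : G → ℂ) = 1 →
      charDegree (indFun I (ψ : ↥I → ℂ) * (lam : G → ℂ)) =
        charDegree (φ : ↥N → ℂ) * I.index := by
    intro lam hlam
    have h1 : (lam : G → ℂ) 1 = 1 := (Helper83.irr_charDegree_eq_one_iff lam.2).mp hlam
    have h2 : (ψ : ↥I → ℂ) 1 = (φ : ↥N → ℂ) 1 := hψ 1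
    have h3 := (Helper83.irr_degree φ.2).2
    have h4 : (indFun I (ψ : ↥I → ℂ) * (lam : G → ℂ)) 1 =
        ((charDegree (φ : ↥N → ℂ) * I.index : ℕ) : ℂ) := by
      rw [Pi.mul_apply, h1, mul_one, Helper35.indFun_one_eq, h2, h3]
      push_cast
      ring
    show ⌊((indFun I (ψ : ↥I → ℂ) * (lam : G → ℂ)) 1).re⌋₊ = _
    rw [h4, Complex.natCast_re, Nat.floor_natCast]
  let f : {χ : IrrCharacter G // charDegree (χ : G → ℂ) = 1} →
      {χ : IrrCharacter G // charDegree (χ : G → ℂ) = charDegree (φ : ↥N → ℂ) * I.index} :=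
    fun lam => ⟨⟨indFun I (ψ : ↥I → ℂ) * (lam.1 : G → ℂ),
      irr_mul_linear hχ₀ lam.1.2 ((Helper83.irr_charDegree_eq_one_iff lam.1.2).mp lam.2)⟩,
      hdeg lam.1 lam.2⟩
  have hfib : ∀ a ∈ (Finset.univ : Finset {χ : IrrCharacter G //
      charDegree (χ : G → ℂ) = 1}).image f,
      (Finset.univ.filter (fun x => f x = a)).card ≤ I.index := by
    intro a ha
    obtain ⟨lam, -, rfl⟩ := Finset.mem_image.mp ha
    refine le_trans ?_ (card_fiber_le N _ hχ₀ I.index hk hlin lam.1 lam.2)
    apply Finset.card_le_card_of_injOn (fun x => x.1)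
    · intro x hx
      have hx' := (Finset.mem_filter.mp hx).2
      simp only [Finset.coe_filter, Finset.mem_univ, true_and, Set.mem_ofPred_eq]
      refine ⟨x.2, ?_⟩
      have := congrArg (fun y : {χ : IrrCharacter G //
        charDegree (χ : G → ℂ) = charDegree (φ : ↥N → ℂ) * I.index} => (y.1 : G → ℂ)) hx'
      exact this
    · intro x _ y _ hxy
      exact Subtype.ext hxy
  have hcard := Finset.card_le_mul_card_image (Finset.univ : Finset {χ : IrrCharacter G //
      charDegree (χ : G → ℂ) = 1}) I.index hfib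
  rw [Nat.card_eq_fintype_card, Nat.card_eq_fintype_card]
  calc Fintype.card {χ : IrrCharacter G // charDegree (χ : G → ℂ) = 1}
      = (Finset.univ : Finset {χ : IrrCharacter G // charDegree (χ : G → ℂ) = 1}).card :=
        Finset.card_univ.symm
    _ ≤ I.index * ((Finset.univ : Finset {χ : IrrCharacter G //
        charDegree (χ : G → ℂ) = 1}).image f).card := hcard
    _ ≤ I.index * Fintype.card {χ : IrrCharacter G //
        charDegree (χ : G → ℂ) = charDegree (φ : ↥N → ℂ) * I.index} :=
        Nat.mul_le_mul_left _ (Finset.card_le_univ _)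

end MinNormal

end Cfsg.Agent.Lib.Helper84
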