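import Cfsg.Agent.Lib.Helper26.DcDefs

set_option autoImplicit false

/-! Project ORD (helper26), pieces DC-GE and DC-LE: a lower and an upper bound for the size of a
double coset. -/

namespace Cfsg.Agent.Lib.Helper26.DcAbs

variable {Γ : Type*} [Group Γ]

/-- piece DC-GE: a lower bound for a double coset -/
theorem dc_card_ge [Finite Γ] (B U : Subgroup Γ) (hU : U ≤ B) (n : Γ)
    (h : ∀ u ∈ U, n⁻¹ * u * n ∈ B → u = 1) :
    Nat.card U * Nat.card B ≤ Nat.card (dc B n) := by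
  rw [← Nat.card_prod]
  refine Nat.card_le_card_of_injective
    (fun p : U × B =>
      (⟨(p.1 : Γ) * n * (p.2 : Γ), mem_dc.2 ⟨p.1, hU p.1.2, p.2, p.2.2, rfl⟩⟩ : dc B n)) ?_
  rintro ⟨u, b⟩ ⟨u', b'⟩ heq
  have h1 : (u : Γ) * n * (b : Γ) = (u' : Γ) * n * (b' : Γ) := congrArg Subtype.val heq
  have h2 : n⁻¹ * ((u' : Γ)⁻¹ * (u : Γ)) * n = (b' : Γ) * (b : Γ)⁻¹ := by
    have h3 : (u : Γ) * n = (u' : Γ) * n * (b' : Γ) * (b : Γ)⁻¹ := by
      rw [← h1]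
      group
    calc n⁻¹ * ((u' : Γ)⁻¹ * (u : Γ)) * n = n⁻¹ * (u' : Γ)⁻¹ * ((u : Γ) * n) := by group
      _ = n⁻¹ * (u' : Γ)⁻¹ * ((u' : Γ) * n * (b' : Γ) * (b : Γ)⁻¹) := by rw [h3]
      _ = (b' : Γ) * (b : Γ)⁻¹ := by group
  have h4 : (u' : Γ)⁻¹ * (u : Γ) = 1 :=
    h _ (U.mul_mem (U.inv_mem u'.2) u.2) (by rw [h2]; exact B.mul_mem b'.2 (B.inv_mem b.2))
  have hu : (u' : Γ) = (u : Γ) := inv_mul_eq_one.1 h4
  have hb : (b : Γ) = (b' : Γ) := by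
    rw [hu] at h1
    exact mul_left_cancel h1
  exact Prod.ext (Subtype.ext hu.symm) (Subtype.ext hb)

/-- piece DC-LE: an upper bound for a double coset -/
theorem dc_card_le [Finite Γ] (B U H V : Subgroup Γ) (s : Γ)
    (h : ∀ g ∈ dc B s, ∃ u ∈ U, ∃ t ∈ H, ∃ v ∈ V, g = u * s * t * v) :
    Nat.card (dc B s) ≤ Nat.card U * Nat.card H * Nat.card V := by
  choose fu hfu ft hft fv hfv hg using h
  have hinj : Function.Injective (fun g : dc B s =>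
      ((⟨fu g.1 g.2, hfu g.1 g.2⟩, ⟨ft g.1 g.2, hft g.1 g.2⟩, ⟨fv g.1 g.2, hfv g.1 g.2⟩) :
        U × H × V)) := by
    intro g g' heq
    simp only [Prod.mk.injEq, Subtype.mk.injEq] at heq
    obtain ⟨h1, h2, h3⟩ := heq
    apply Subtype.ext
    rw [hg g.1 g.2, hg g'.1 g'.2, h1, h2, h3]
  have h5 := Nat.card_le_card_of_injective _ hinj
  rw [Nat.card_prod, Nat.card_prod] at h5
  rw [mul_assoc]
  exact h5

end Cfsg.Agent.Lib.Helper26.DcAbs
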