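import Cfsg.Agent.Lib.Helper84.NormComp
import Cfsg.Agent.Lib.Helper22.FMT
import Cfsg.Agent.Lib.Helper22.IndDefect
import Cfsg.Agent.Lib.Helper20.ExtPrime
import Cfsg.Agent.S0958
import Cfsg.Agent.S0964

set_option autoImplicit false

namespace Cfsg.Agent.Lib.Helper84

open Cfsg Cfsg.Agent.Lib Cfsg.Agent.Lib.Helper21 Cfsg.Agent.Lib.Helper4
open scoped ComplexConjugate

universe u

section efmt

variable {G : Type u} [Group G] [Fintype G] {p : ℕ} [hp : Fact p.Prime] {M : Ideal AlgInt}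

/-- the induced central character as a central character of the restricted class indicator -/
theorem inducedCentralChar_eq_omega (H : Subgroup G) [Fintype H] (ξ : IrrCharacter H) (g : G) :
    inducedCentralChar H (ξ : H → ℂ) g =
      omega (ξ : H → ℂ) (fun h : H => classInd g (h : G)) := by
  rw [Cfsg.Agent.S0932.result H _ (isCharacter_of_irr ξ) g,
    ← omega_classInd _ (isClassFunction_indFun H _) g,
    Helper22.omega_indFun_res H _ _ (classInd_isClassFunction g)]

/-- a block of `H` inducing a block with defect group `P`, where `P ≤ H ≤ N_G(P)`, has defect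
group `P` -/
theorem defectGroup_of_induced_normal (hM : IsPModular p M) (P H : Subgroup G) [Fintype H]
    (hPp : IsPGroup p P) (hPH : P ≤ H) (hHN : H ≤ Subgroup.normalizer (P : Set G))
    (B : Set (IrrCharacter G)) (hDB : IsDefectGroup p M B P)
    (b : Set (IrrCharacter H)) (hind : IsInducedBlock M H b B) :
    IsDefectGroup p M b (P.subgroupOf H) := by
  classical
  obtain ⟨y, hy⟩ := Cfsg.Agent.S0906.result p M hM b hind.1
  obtain ⟨Q⟩ : Nonempty (Sylow p (Subgroup.centralizer ({y} : Set H))) := inferInstance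
  have hDb : IsDefectGroup p M b
      ((Q : Subgroup (Subgroup.centralizer ({y} : Set H))).map
        (Subgroup.centralizer ({y} : Set H)).subtype) := ⟨y, hy, Q, rfl⟩
  have hQy : (Q : Subgroup (Subgroup.centralizer ({y} : Set H))).map
      (Subgroup.centralizer ({y} : Set H)).subtype ≤ Subgroup.centralizer ({y} : Set H) := by
    rintro _ ⟨z, _, rfl⟩
    exact z.2
  have h1 := Cfsg.Agent.S0912.result p M hM b hind.1 _ hDb
  have hnorm : (P.subgroupOf H).Normal :=
    (Subgroup.normal_subgroupOf_iff_le_normalizer hPH).mpr hHN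
  have h2 : P.subgroupOf H ≤ Cfsg.pCore p H :=
    Cfsg.Agent.Lib.Helper55.le_pCore hnorm hPp.comap_subtype
  obtain ⟨E, hE, hle⟩ := Helper22.exists_defectGroup_ge_of_induced hM _ b B hind y hy _
    (Q.isPGroup'.map _) hQy
  have h3 := Helper22.card_defectGroup_le hM B hind.2.1 P E hDB hE
  have h4 : Nat.card ((Q : Subgroup (Subgroup.centralizer ({y} : Set H))).map
        (Subgroup.centralizer ({y} : Set H)).subtype) ≤ Nat.card (P.subgroupOf H) := by
    have c1 := Subgroup.card_le_of_le hle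
    rw [Subgroup.card_map_of_injective (Subgroup.subtype_injective _)] at c1
    have c2 : Nat.card (P.subgroupOf H) = Nat.card P :=
      Nat.card_congr (Subgroup.subgroupOfEquivOfLe hPH).toEquiv
    rw [c2]
    exact c1.trans h3
  have h5 := Subgroup.eq_of_le_of_card_ge (h2.trans h1) h4
  rw [h5]
  exact hDb

omit [Fintype G] hp in
theorem conj_mem_sup_centralizer (P : Subgroup G) {n x : G}
    (hn : n ∈ Subgroup.normalizer (P : Set G))
    (hx : x ∈ P ⊔ Subgroup.centralizer (P : Set G)) :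
    n * x * n⁻¹ ∈ P ⊔ Subgroup.centralizer (P : Set G) := by
  have h1 : (P ⊔ Subgroup.centralizer (P : Set G)).map (MulAut.conj n).toMonoidHom ≤
      P ⊔ Subgroup.centralizer (P : Set G) := by
    rw [Subgroup.map_sup]
    apply sup_le_sup
    · rintro _ ⟨y, hy, rfl⟩
      exact (Subgroup.mem_normalizer_iff.mp hn y).mp hy
    · rintro _ ⟨y, hy, rfl⟩
      exact Helper22.conj_mem_centralizer_of_mem_normalizer P hn hy
  exact h1 ⟨x, hx, rfl⟩

omit [Fintype G] hp in
theorem sup_centralizer_le_normalizer (P : Subgroup G) :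
    P ⊔ Subgroup.centralizer (P : Set G) ≤ Subgroup.normalizer (P : Set G) :=
  sup_le Subgroup.le_normalizer (Subgroup.centralizer_le_normalizer (P : Set G))

/-- transport of an irreducible character along a group isomorphism -/
noncomputable def trIrr {A B : Type*} [Group A] [Group B] (e : A ≃* B) (θ : IrrCharacter B) :
    IrrCharacter A :=
  ⟨fun a => (θ : B → ℂ) (e a), Helper20.irr_comp_surjective e.toMonoidHom e.surjective θ.2⟩

omit [Fintype G] hp in
theorem trIrr_apply {A B : Type*} [Group A] [Group B] (e : A ≃* B) (θ : IrrCharacter B) (a : A) :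
    (trIrr e θ : A → ℂ) a = (θ : B → ℂ) (e a) := rfl

omit [Fintype G] hp in
theorem trIrr_symm {A B : Type*} [Group A] [Group B] (e : A ≃* B) (θ : IrrCharacter A) :
    trIrr e (trIrr e.symm θ) = θ := by
  apply Subtype.ext
  funext a
  show (θ : A → ℂ) (e.symm (e a)) = (θ : A → ℂ) a
  rw [MulEquiv.symm_apply_apply]

omit [Fintype G] hp in
theorem sameBlock_trIrr {A B : Type*} [Group A] [Group B] (e : A ≃* B) (θ θ' : IrrCharacter B)
    (h : SameBlock M (θ : B → ℂ) (θ' : B → ℂ)) :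
    SameBlock M (trIrr e θ : A → ℂ) (trIrr e θ' : A → ℂ) := by
  intro a
  have h1 := Helper22.centralChar_comp_equiv (θ : B → ℂ) e a
  have h2 := Helper22.centralChar_comp_equiv (θ' : B → ℂ) e a
  show MemLocalIdeal M (centralChar (fun k => (θ : B → ℂ) (e k)) a -
    centralChar (fun k => (θ' : B → ℂ) (e k)) a)
  rw [h1, h2]
  exact h (e a)

/-- a block of `N` lying over a block of `H` that induces `B` also induces `B`
(`C_G(P) ≤ H ≤ N ≤ N_G(P)`, `H` normalized by `N`) -/
theorem induced_of_over (hM : IsPModular p M) (P N H : Subgroup G) (hPp : IsPGroup p P)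
    [Fintype N] [Fintype H] (hPN : P ≤ N) (hNP : N ≤ Subgroup.normalizer (P : Set G))
    (hHN : H ≤ N) (hCH : Subgroup.centralizer (P : Set G) ≤ H)
    (hconj : ∀ n ∈ N, ∀ x ∈ H, n * x * n⁻¹ ∈ H)
    (b : Set (IrrCharacter H)) (B : Set (IrrCharacter G))
    (hind : IsInducedBlock M H b B)
    (θ₀ : IrrCharacter H) (hθ₀ : θ₀ ∈ b) (ψ₀ : IrrCharacter N)
    (hcon : classInner (fun h : H => (ψ₀ : N → ℂ) ⟨h, hHN h.2⟩) (θ₀ : H → ℂ) ≠ 0) :
    IsInducedBlock M N (blockOf M (ψ₀ : N → ℂ)) B := by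
  classical
  refine ⟨Helper79.isPBlock_blockOf ψ₀, hind.2.1, fun ξ hξ χ hχ g => ?_⟩
  rw [inducedCentralChar_eq_omega N ξ g]
  set zg : N → ℂ := fun n : N => classInd g (n : G) with hzg
  have hzgcf : IsClassFunction N zg := Helper22.isClassFunction_res N _ (classInd_isClassFunction g)
  have hzgloc : ∀ n, MemLocalRing M (zg n) := fun n => (Helper22.isLocClass_classInd hM g).2 n
  -- (i)
  have h_i : MemLocalIdeal M (omega (ξ : N → ℂ) zg - omega (ψ₀ : N → ℂ) zg) :=
    omega_sub_locIdeal hM zg hzgcf hzgloc ξ ψ₀ (Helper79.sameBlock_symm' hM hξ)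
  -- (ii)
  set w : N → ℂ := fun n => if (n : G) ∈ H then zg n else 0 with hw
  set v : N → ℂ := fun n => if (n : G) ∈ H then 0 else zg n with hv
  have hmemH : ∀ n k : N, ((k * n * k⁻¹ : N) : G) ∈ H ↔ (n : G) ∈ H := by
    intro n k
    constructor
    · intro h1
      have h2 := hconj _ (inv_mem k.2) _ h1
      have e1 : (k : G)⁻¹ * ((k * n * k⁻¹ : N) : G) * (k : G)⁻¹⁻¹ = (n : G) := by
        push_cast
        group
      rwa [e1] at h2
    · intro h1
      have h2 := hconj _ k.2 _ h1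
      exact_mod_cast h2
  have hwcf : IsClassFunction N w := by
    intro n k
    show (if ((k * n * k⁻¹ : N) : G) ∈ H then zg (k * n * k⁻¹) else 0) =
      (if (n : G) ∈ H then zg n else 0)
    by_cases hn : (n : G) ∈ H
    · rw [if_pos hn, if_pos ((hmemH n k).mpr hn), hzgcf n k]
    · rw [if_neg hn, if_neg (fun h => hn ((hmemH n k).mp h))]
  have hvcf : IsClassFunction N v := by
    intro n k
    show (if ((k * n * k⁻¹ : N) : G) ∈ H then 0 else zg (k * n * k⁻¹)) =
      (if (n : G) ∈ H then 0 else zg n)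
    by_cases hn : (n : G) ∈ H
    · rw [if_pos hn, if_pos ((hmemH n k).mpr hn)]
    · rw [if_neg hn, if_neg (fun h => hn ((hmemH n k).mp h)), hzgcf n k]
  have hsplit : zg = w + v := by
    funext n
    show zg n = (if (n : G) ∈ H then zg n else 0) + (if (n : G) ∈ H then 0 else zg n)
    by_cases hn : (n : G) ∈ H
    · rw [if_pos hn, if_pos hn, add_zero]
    · rw [if_neg hn, if_neg hn, zero_add]
  haveI hPnorm : (P.subgroupOf N).Normal :=
    (Subgroup.normal_subgroupOf_iff_le_normalizer hPN).mpr hNP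
  have hPNp : IsPGroup p (P.subgroupOf N) := hPp.comap_subtype
  have h_ii : MemLocalIdeal M (omega (ψ₀ : N → ℂ) v) := by
    apply omega_locIdeal_of_forall hM v hvcf ψ₀
    intro n
    by_cases hn : (n : G) ∈ H
    · show MemLocalIdeal M ((if (n : G) ∈ H then 0 else zg n) * _)
      rw [if_pos hn, zero_mul]
      exact locIdeal_zero hM
    · show MemLocalIdeal M ((if (n : G) ∈ H then 0 else zg n) * _)
      rw [if_neg hn]
      apply locIdeal_mul_left hM (hzgloc n)
      apply Helper22.centralChar_locIdeal_of_not_centralize hM (P.subgroupOf N) hPNp n _ ψ₀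
      intro hcen
      apply hn
      have hc : (n : G) ∈ Subgroup.centralizer (P : Set G) := by
        rw [Subgroup.mem_centralizer_iff]
        intro y hy
        have h1 := (Subgroup.mem_centralizer_iff.mp hcen)
          ⟨y, hPN hy⟩ (by
            show (⟨y, hPN hy⟩ : N) ∈ P.subgroupOf N
            rw [Subgroup.mem_subgroupOf]
            exact hy)
        have h2 := congrArg (Subtype.val) h1
        simpa using h2
      exact hCH hc
  -- (iii)
  letI : Fintype ↥(H.subgroupOf N) := Fintype.ofFinite _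
  set e : ↥(H.subgroupOf N) ≃* ↥H := Subgroup.subgroupOfEquivOfLe hHN with he
  have hwsupp : ∀ n : N, n ∉ H.subgroupOf N → w n = 0 := by
    intro n hn
    have hn' : (n : G) ∉ H := fun h => hn (Subgroup.mem_subgroupOf.mpr h)
    show (if (n : G) ∈ H then zg n else 0) = 0
    rw [if_neg hn']
  have hcon' : classInner (fun h' : ↥(H.subgroupOf N) => (ψ₀ : N → ℂ) (h' : N))
      (trIrr e θ₀ : ↥(H.subgroupOf N) → ℂ) ≠ 0 := by
    have h1 := Helper20.classInner_comp_equiv e
      (fun h : ↥H => (ψ₀ : N → ℂ) ⟨h, hHN h.2⟩) (θ₀ : ↥H → ℂ)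
    have h2 : (fun h' : ↥(H.subgroupOf N) => (ψ₀ : N → ℂ) (h' : N)) =
        (fun a => (fun h : ↥H => (ψ₀ : N → ℂ) ⟨h, hHN h.2⟩) (e a)) := by
      funext a
      rfl
    rw [h2]
    show classInner (fun a => (fun h : ↥H => (ψ₀ : N → ℂ) ⟨h, hHN h.2⟩) (e a))
      (fun a => (θ₀ : ↥H → ℂ) (e a)) ≠ 0
    rw [h1]
    exact hcon
  have h_iii := omega_over (H.subgroupOf N) w hwcf hwsupp ψ₀ (trIrr e θ₀) hcon'
  have h_iv : omega (trIrr e θ₀ : ↥(H.subgroupOf N) → ℂ) (fun h' : ↥(H.subgroupOf N) => w h') =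
      omega (θ₀ : ↥H → ℂ) (fun h : ↥H => classInd g (h : G)) := by
    rw [omega_def, omega_def]
    have e1 : (trIrr e θ₀ : ↥(H.subgroupOf N) → ℂ) 1 = (θ₀ : ↥H → ℂ) 1 := by
      rw [trIrr_apply, map_one]
    rw [e1]
    congr 1
    rw [← Equiv.sum_comp e.toEquiv (fun h : ↥H => classInd g (h : G) * (θ₀ : ↥H → ℂ) h)]
    refine Finset.sum_congr rfl fun a _ => ?_
    have ha : ((a : N) : G) ∈ H := Subgroup.mem_subgroupOf.mp a.2
    show (if ((a : N) : G) ∈ H then zg (a : N) else 0) * (θ₀ : ↥H → ℂ) (e a) = _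
    rw [if_pos ha]
    rfl
  have h_v := hind.2.2 θ₀ hθ₀ χ hχ g
  rw [inducedCentralChar_eq_omega H θ₀ g, ← h_iv, ← h_iii] at h_v
  have hsum : omega (ψ₀ : N → ℂ) zg = omega (ψ₀ : N → ℂ) w + omega (ψ₀ : N → ℂ) v := by
    rw [hsplit, omega_add]
  have h6 := locIdeal_add hM (locIdeal_add hM h_i h_ii) h_v
  have e2 : omega (ξ : N → ℂ) zg - omega (ψ₀ : N → ℂ) zg + omega (ψ₀ : N → ℂ) v +
      (omega (ψ₀ : N → ℂ) w - centralChar (χ : G → ℂ) g) =
      omega (ξ : N → ℂ) zg - centralChar (χ : G → ℂ) g := by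
    rw [hsum]; ring
  rwa [e2] at h6

theorem classInner_subgroupOf (N H : Subgroup G) [Fintype N] [Fintype H]
    [Fintype ↥(H.subgroupOf N)] (hHN : H ≤ N) (ψ : N → ℂ) (θ : IrrCharacter H) :
    classInner (fun h' : ↥(H.subgroupOf N) => ψ (h' : N))
      (trIrr (Subgroup.subgroupOfEquivOfLe hHN) θ : ↥(H.subgroupOf N) → ℂ) =
    classInner (fun h : H => ψ ⟨h, hHN h.2⟩) (θ : H → ℂ) := by
  have h1 := Helper20.classInner_comp_equiv (Subgroup.subgroupOfEquivOfLe hHN)
    (fun h : ↥H => ψ ⟨h, hHN h.2⟩) (θ : ↥H → ℂ)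
  have h2 : (fun h' : ↥(H.subgroupOf N) => ψ (h' : N)) =
      (fun a => (fun h : ↥H => ψ ⟨h, hHN h.2⟩) (Subgroup.subgroupOfEquivOfLe hHN a)) := by
    funext a
    rfl
  rw [h2]
  exact h1

omit [Fintype G] hp in
theorem trIrr_symm' {A B : Type*} [Group A] [Group B] (e : A ≃* B) (θ : IrrCharacter B) :
    trIrr e.symm (trIrr e θ) = θ := by
  apply Subtype.ext
  funext a
  show (θ : B → ℂ) (e (e.symm a)) = (θ : B → ℂ) a
  rw [MulEquiv.apply_symm_apply]

/-- conjugacy of the blocks of `H` inducing `B`, given uniqueness of the block of `N`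
inducing `B` -/
theorem efmt_conj_aux (hM : IsPModular p M) (P N H : Subgroup G) (hPp : IsPGroup p P)
    [Fintype N] [Fintype H] (hPN : P ≤ N) (hNP : N ≤ Subgroup.normalizer (P : Set G))
    (hHN : H ≤ N) (hCH : Subgroup.centralizer (P : Set G) ≤ H)
    (hconj : ∀ n ∈ N, ∀ x ∈ H, n * x * n⁻¹ ∈ H)
    (B : Set (IrrCharacter G))
    (huniq : ∀ β β' : Set (IrrCharacter N), IsInducedBlock M N β B →
      IsInducedBlock M N β' B → β = β')
    (b b' : Set (IrrCharacter H))
    (hb : IsInducedBlock M H b B) (hb' : IsInducedBlock M H b' B) :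
    ∃ n ∈ N, ∀ θ ∈ b, ∃ θ' ∈ b', ∀ x : H, ∀ hx : n * (x : G) * n⁻¹ ∈ H,
      (θ' : H → ℂ) x = (θ : H → ℂ) ⟨n * (x : G) * n⁻¹, hx⟩ := by
  classical
  letI : Fintype ↥(H.subgroupOf N) := Fintype.ofFinite _
  haveI hnorm : (H.subgroupOf N).Normal := ⟨fun x hx g => by
    rw [Subgroup.mem_subgroupOf] at hx ⊢
    have h1 := hconj g g.2 x hx
    simpa using h1⟩
  set e : ↥(H.subgroupOf N) ≃* ↥H := Subgroup.subgroupOfEquivOfLe hHN with he
  obtain ⟨θ₁, hθ₁⟩ := hb.1
  obtain ⟨θ₁', hθ₁'⟩ := hb'.1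
  have hθ₁b : θ₁ ∈ b := by rw [hθ₁]; exact Helper79.mem_blockOf_self hM θ₁
  have hθ₁b' : θ₁' ∈ b' := by rw [hθ₁']; exact Helper79.mem_blockOf_self hM θ₁'
  obtain ⟨ψf, hψf, hcon⟩ := Helper20.exists_irr_over (H.subgroupOf N) (trIrr e θ₁).2
  obtain ⟨ψf', hψf', hcon'⟩ := Helper20.exists_irr_over (H.subgroupOf N) (trIrr e θ₁').2
  have hconH : classInner (fun h : H => ((⟨ψf, hψf⟩ : IrrCharacter N) : N → ℂ) ⟨h, hHN h.2⟩)
      (θ₁ : H → ℂ) ≠ 0 := by
    rw [← classInner_subgroupOf N H hHN]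
    exact hcon
  have hconH' : classInner (fun h : H => ((⟨ψf', hψf'⟩ : IrrCharacter N) : N → ℂ) ⟨h, hHN h.2⟩)
      (θ₁' : H → ℂ) ≠ 0 := by
    rw [← classInner_subgroupOf N H hHN]
    exact hcon'
  have hβ := induced_of_over hM P N H hPp hPN hNP hHN hCH hconj b B hb θ₁ hθ₁b ⟨ψf, hψf⟩ hconH
  have hβ' := induced_of_over hM P N H hPp hPN hNP hHN hCH hconj b' B hb' θ₁' hθ₁b'
    ⟨ψf', hψf'⟩ hconH'
  have heq := huniq _ _ hβ hβ'
  have hψ₀'β : (⟨ψf', hψf'⟩ : IrrCharacter N) ∈
      blockOf M ((⟨ψf, hψf⟩ : IrrCharacter N) : N → ℂ) := by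
    rw [heq]
    exact Helper79.mem_blockOf_self hM _
  obtain ⟨g, θ'', hθ'', hval⟩ := Cfsg.Agent.S0964.result p M hM (H.subgroupOf N)
    (blockOf M ((⟨ψf, hψf⟩ : IrrCharacter N) : N → ℂ)) (Helper79.isPBlock_blockOf _)
    (blockOf M (trIrr e θ₁ : ↥(H.subgroupOf N) → ℂ)) (Helper79.isPBlock_blockOf _)
    ⟨ψf, hψf⟩ (Helper79.mem_blockOf_self hM _) (trIrr e θ₁) (Helper79.mem_blockOf_self hM _) hcon
    ⟨ψf', hψf'⟩ hψ₀'β (trIrr e θ₁') hcon'
  refine ⟨(g : G), g.2, fun θ hθ => ?_⟩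
  have hcg : ∀ x : H, (g : G) * (x : G) * (g : G)⁻¹ ∈ H := fun x => hconj g g.2 x x.2
  have hcg' : ∀ x : H, (g : G)⁻¹ * (x : G) * (g : G) ∈ H := fun x => by
    have h1 := hconj _ (inv_mem g.2) x x.2
    simpa using h1
  let c : H ≃* H :=
    { toFun := fun x => ⟨(g : G) * x * (g : G)⁻¹, hcg x⟩
      invFun := fun x => ⟨(g : G)⁻¹ * x * (g : G), hcg' x⟩
      left_inv := fun x => by
        apply Subtype.ext
        show (g : G)⁻¹ * ((g : G) * x * (g : G)⁻¹) * (g : G) = x
        group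
      right_inv := fun x => by
        apply Subtype.ext
        show (g : G) * ((g : G)⁻¹ * x * (g : G)) * (g : G)⁻¹ = x
        group
      map_mul' := fun x y => by
        apply Subtype.ext
        show (g : G) * ((x : G) * (y : G)) * (g : G)⁻¹ =
          ((g : G) * x * (g : G)⁻¹) * ((g : G) * y * (g : G)⁻¹)
        group }
  refine ⟨trIrr c θ, ?_, fun x hx => rfl⟩
  rw [hθ₁']
  show SameBlock M (θ₁' : H → ℂ) (trIrr c θ : H → ℂ)
  have h1 : θ₁' = trIrr c (trIrr e.symm θ'') := by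
    apply Subtype.ext
    funext x
    have h2 := hval (e.symm x)
    rw [trIrr_apply, MulEquiv.apply_symm_apply] at h2
    rw [h2]
    show _ = (θ'' : ↥(H.subgroupOf N) → ℂ) (e.symm (c x))
    congr 1
  rw [h1]
  apply sameBlock_trIrr c
  have h3 : SameBlock M (trIrr e.symm (trIrr e θ₁) : H → ℂ) (trIrr e.symm θ'' : H → ℂ) :=
    sameBlock_trIrr e.symm _ _ hθ''
  rw [trIrr_symm'] at h3
  rw [hθ₁] at hθ
  exact Helper79.sameBlock_trans' hM (Helper79.sameBlock_symm' hM h3) hθ

/-- Extended first main theorem (`Fintype` version) -/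
theorem efmt (hM : IsPModular p M) (B : Set (IrrCharacter G)) (hB : IsPBlock M B)
    (P : Subgroup G) [Fintype ↥(P ⊔ Subgroup.centralizer (P : Set G))]
    (hP : IsDefectGroup p M B P) :
    (∃ b : Set (IrrCharacter ↥(P ⊔ Subgroup.centralizer (P : Set G))),
      IsDefectGroup p M b (P.subgroupOf (P ⊔ Subgroup.centralizer (P : Set G))) ∧
      IsInducedBlock M (P ⊔ Subgroup.centralizer (P : Set G)) b B) ∧
    ∀ b b' : Set (IrrCharacter ↥(P ⊔ Subgroup.centralizer (P : Set G))),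
      IsInducedBlock M (P ⊔ Subgroup.centralizer (P : Set G)) b B →
      IsInducedBlock M (P ⊔ Subgroup.centralizer (P : Set G)) b' B →
      ∃ n ∈ Subgroup.normalizer (P : Set G), ∀ θ ∈ b, ∃ θ' ∈ b',
        ∀ x : ↥(P ⊔ Subgroup.centralizer (P : Set G)),
        ∀ hx : n * (x : G) * n⁻¹ ∈ P ⊔ Subgroup.centralizer (P : Set G),
        (θ' : ↥(P ⊔ Subgroup.centralizer (P : Set G)) → ℂ) x =
          (θ : ↥(P ⊔ Subgroup.centralizer (P : Set G)) → ℂ) ⟨n * (x : G) * n⁻¹, hx⟩ := by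
  classical
  have hPp := Helper22.isDefectGroup_isPGroup B P hP
  letI : Fintype ↥(Subgroup.normalizer (P : Set G)) := Fintype.ofFinite _
  constructor
  · obtain ⟨b, hb⟩ := (Cfsg.Agent.S0958.result p M hM P (P ⊔ Subgroup.centralizer (P : Set G))
      hPp le_rfl (sup_centralizer_le_normalizer P) B hB).mpr ⟨P, hP, 1, by
        rintro _ ⟨y, hy, rfl⟩
        simpa using hy⟩
    exact ⟨b, defectGroup_of_induced_normal hM P _ hPp le_sup_left
      (sup_centralizer_le_normalizer P) B hP b hb, hb⟩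
  · intro b b' hb hb'
    exact efmt_conj_aux hM P (Subgroup.normalizer (P : Set G))
      (P ⊔ Subgroup.centralizer (P : Set G)) hPp Subgroup.le_normalizer le_rfl
      (sup_centralizer_le_normalizer P) le_sup_right
      (fun n hn x hx => conj_mem_sup_centralizer P hn hx) B
      (fun β β' hβ hβ' => Helper22.fmt_unique hM P hPp B β β' hβ hβ'
        (Helper22.fmt_defectGroup_of_induced hM P hPp B hP β hβ)
        (Helper22.fmt_defectGroup_of_induced hM P hPp B hP β' hβ')) b b' hb hb'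

end efmt

end Cfsg.Agent.Lib.Helper84
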