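import Mathlib
import Cfsg.Agent.S3360
import Cfsg.Agent.Lib.Helper84.GADefs

/-!
# Project GA (S4840, helper84): assembly of the abstract theorem
-/

set_option autoImplicit false

namespace Cfsg.Agent.Lib.Helper84.GA

universe u

theorem ptriv (hnpc : NpcOrdStmt.{u}) (hsyl : SylAbStmt.{u}) (Γ : Type u) [Group Γ] [Finite Γ]
    (p : ℕ) [Fact p.Prime] (h : ¬ p ∣ Nat.card Γ) : Concl p Γ := by
  refine ⟨hnpc Γ p ⊤ inferInstance ?_ ⟨0, ?_⟩, hsyl Γ p ?_⟩
  · rwa [Subgroup.card_top]
  · rw [Subgroup.index_top, pow_zero]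
  · intro h3
    exact h (dvd_trans (dvd_pow_self p (by norm_num)) h3)

theorem prime_pow_eq {p n a k : ℕ} (hp : p.Prime) (ha : a.Prime) (hk : k ≠ 0)
    (h : p ^ n = a ^ k) : p = a ∧ n = k := by
  have hn : n ≠ 0 := by
    rintro rfl
    rw [pow_zero] at h
    have := Nat.one_lt_pow hk ha.one_lt
    omega
  have h1 : p ∣ a ^ k := by
    rw [← h]
    exact dvd_pow_self p hn
  have h2 : p = a := (Nat.prime_dvd_prime_iff_eq hp ha).1 (hp.dvd_of_dvd_pow h1)
  subst h2
  exact ⟨rfl, Nat.pow_right_injective hp.two_le h⟩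

theorem main_of (hpc : PCStmt.{u}) (hnpc : NpcOrdStmt.{u}) (hsyl : SylAbStmt.{u})
    (hsemi : SemiStmt.{u}) (hd2 : Dim2Stmt.{u}) (h9 : Exc9NStmt.{u}) (h81 : Exc81Stmt.{u}) :
    MainStmt.{u} := by
  intro p _ Γ _ _ V _ _ _ _ ρ hTL hsol
  have hp : p.Prime := Fact.out
  have semi_case : (∃ (F : Type) (_ : Field F) (_ : Fintype F) (e : V ≃+ F),
      ∀ g : Γ, ∃ (a : F) (σ : F ≃+* F), ∀ v : V, e (ρ g v) = a * σ (e v)) → Concl p Γ := by
    intro hsl
    obtain ⟨C, hCn, hC1, hC2⟩ := hsemi p Γ V ρ hTL.inj hsl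
    exact hpc Γ p C hCn hC1 hC2
  obtain ⟨n, hn⟩ : ∃ n : ℕ, Nat.card V = p ^ n := by
    refine ⟨Module.finrank (ZMod p) V, ?_⟩
    have h := Module.natCard_eq_pow_finrank (K := ZMod p) (V := V)
    rw [Nat.card_zmod] at h
    exact h
  rcases Cfsg.Agent.S3360.result p hsol ρ hTL.inj hTL.trans with hsl | hexc
  · exact semi_case hsl
  have dim2_case : p ≠ 2 → Nat.card V = p ^ 2 → Concl p Γ := by
    intro hp2 hV2
    rcases hd2 p V Γ hsol ρ hTL.inj hTL.trans hV2 with hsl | hdvd
    · exact semi_case hsl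
    · by_cases hp3 : p = 3
      · by_cases h3 : p ∣ Nat.card Γ
        · have hV9 : Nat.card V = 9 := by
            rw [hV2, hp3]
            norm_num
          have h48 : Nat.card Γ ∣ 48 := by
            rw [hp3] at hdvd
            exact hdvd
          obtain ⟨N, hNn, hN8, hΓ24⟩ := h9 p Γ V ρ hTL hsol hp3 hV9 h3 h48
          refine ⟨hnpc Γ p N hNn ?_ ⟨1, ?_⟩, hsyl Γ p ?_⟩
          · rw [hN8, hp3]
            norm_num
          · have hci := N.card_mul_index
            rw [hN8, hΓ24] at hci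
            rw [pow_one, hp3]
            omega
          · rw [hΓ24, hp3]
            norm_num
        · exact ptriv hnpc hsyl Γ p h3
      · apply ptriv hnpc hsyl Γ p
        intro hpd
        have h1 := dvd_trans hpd hdvd
        rcases (Nat.Prime.dvd_mul hp).1 h1 with h2 | h2
        · have h2le := hp.two_le
          have := Nat.le_of_dvd (by omega) h2
          omega
        · have h24 : (24 : ℕ) = 2 ^ 3 * 3 := by norm_num
          rw [h24] at h2
          rcases (Nat.Prime.dvd_mul hp).1 h2 with h3 | h3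
          · exact hp2 ((Nat.prime_dvd_prime_iff_eq hp Nat.prime_two).1 (hp.dvd_of_dvd_pow h3))
          · exact hp3 ((Nat.prime_dvd_prime_iff_eq hp Nat.prime_three).1 h3)
  simp only [Set.mem_insert_iff, Set.mem_singleton_iff] at hexc
  rw [hn] at hexc
  rcases hexc with h | h | h | h | h | h
  · obtain ⟨rfl, rfl⟩ := prime_pow_eq (a := 3) (k := 2) hp (by norm_num) (by norm_num) h
    exact dim2_case (by norm_num) hn
  · obtain ⟨rfl, rfl⟩ := prime_pow_eq (a := 5) (k := 2) hp (by norm_num) (by norm_num) h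
    exact dim2_case (by norm_num) hn
  · obtain ⟨rfl, rfl⟩ := prime_pow_eq (a := 7) (k := 2) hp (by norm_num) (by norm_num) h
    exact dim2_case (by norm_num) hn
  · obtain ⟨rfl, rfl⟩ := prime_pow_eq (a := 11) (k := 2) hp (by norm_num) (by norm_num) h
    exact dim2_case (by norm_num) hn
  · obtain ⟨rfl, rfl⟩ := prime_pow_eq (a := 23) (k := 2) hp (by norm_num) (by norm_num) h
    exact dim2_case (by norm_num) hn
  · obtain ⟨rfl, rfl⟩ := prime_pow_eq (a := 3) (k := 4) hp (by norm_num) (by norm_num) h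
    exact ptriv hnpc hsyl Γ 3 (h81 3 Γ V ρ hTL hsol rfl (by rw [hn]; norm_num))

end Cfsg.Agent.Lib.Helper84.GA
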