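import Mathlib
import Cfsg.Agent.S4835
import Cfsg.Agent.S4837
import Cfsg.Agent.Lib.Helper55.Basic
import Cfsg.Agent.Lib.Helper84.GADefs
import Cfsg.Agent.Lib.Helper84.GAMain

/-!
# Project GA (S4840, helper84): from the character to the linear group
-/

set_option autoImplicit false

namespace Cfsg.Agent.Lib.Helper84.GA

universe u

theorem final_of (hmain : MainStmt.{u}) (hcn : CNStmt.{u}) (hrep : RepStmt.{u})
    {G : Type u} [Group G] [Finite G] [hs : Group.IsSolvable G] (hG : 2 < Nat.card G)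
    (χ : Cfsg.IrrCharacter G)
    (hχ : Nat.card {C : ConjClasses G // ∃ g ∈ C.carrier, (χ : G → ℂ) g ≠ 0} = 2) :
    ∃ p : ℕ, p.Prime ∧ (∀ q : ℕ, q.Prime → (Cfsg.pCore q G ≠ ⊥ ↔ q = p)) ∧
      Cfsg.HasNormalPComplement p (G ⧸ Cfsg.pCore p G) ∧
      ∀ Q : Sylow p (G ⧸ Cfsg.pCore p G),
        IsMulCommutative (Q : Subgroup (G ⧸ Cfsg.pCore p G)) := by
  obtain ⟨N, hNn, hN1, hmin, ⟨p, hp, hNea⟩, hsupp, htr⟩ := Cfsg.Agent.S4835.result hG χ hχ
  have : Fact p.Prime := ⟨hp⟩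
  have := hNn
  have hNp : IsPGroup p N := by
    intro x
    refine ⟨1, ?_⟩
    rw [pow_one]
    apply Subtype.ext
    rw [Subgroup.coe_pow, Subgroup.coe_one]
    exact hNea.2 x.1 x.2
  have hcent := (Cfsg.Agent.S4837.result hG χ hχ p N (fun g => (hsupp g).symm) hNp hN1).1
  have hCN := hcn G p N hNn hN1 hcent
  obtain ⟨V, i1, i2, i3, i4, ρ, hTL⟩ := hrep G p N hNn hN1 hNea htr hcent hCN
  have hc := hmain p (G ⧸ Cfsg.pCore p G) V ρ hTL inferInstance
  refine ⟨p, hp, ?_, hc.1, hc.2⟩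
  intro q hq
  constructor
  · intro hne
    have : Fact q.Prime := ⟨hq⟩
    have hle : N ≤ Cfsg.pCore q G := hmin _ inferInstance hne
    have hNq : IsPGroup q N :=
      (Cfsg.Agent.Lib.Helper55.pCore_isPGroup (p := q) (G := G)).to_le hle
    obtain ⟨a, ha⟩ := IsPGroup.iff_card.mp hNp
    obtain ⟨b, hb⟩ := IsPGroup.iff_card.mp hNq
    have hcard : 1 < Nat.card N := (Subgroup.one_lt_card_iff_ne_bot N).mpr hN1
    have hb0 : b ≠ 0 := by
      rintro rfl
      rw [pow_zero] at hb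
      omega
    exact (prime_pow_eq hp hq hb0 (ha.symm.trans hb)).1.symm
  · rintro rfl hbot
    apply hN1
    have hle : N ≤ Cfsg.pCore q G := Cfsg.Agent.Lib.Helper55.le_pCore hNn hNp
    rw [hbot] at hle
    exact le_bot_iff.mp hle

end Cfsg.Agent.Lib.Helper84.GA
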