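import Mathlib
import Cfsg.Agent.Lib.Helper84.Core

/-!
# Helper lemmas for normal complements of Sylow normalizers (helper84)

* `transfer_eq_pow_of_fusion`, `exists_extension_of_fusion`: if a homomorphism `ϕ : H →* A`
  into a commutative group takes equal values on `G`-conjugate elements of `H` and the index of
  `H` is coprime to its order, then `ϕ` extends to `G` (via the transfer).
* `sylow_conj_in`: two Sylow subgroups contained in a subgroup `D` are conjugate by an element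
  of `D`.
* `mem_of_forall_irr_trivial`: irreducible characters trivial on a normal subgroup `N` detect `N`.
* `map_normal_of_hall`: a normal `p`-complement of a normal subgroup is normal in the whole group.
-/

set_option autoImplicit false

namespace Cfsg.Agent.Lib.Helper84.NC

open Cfsg
open scoped ComplexConjugate Pointwise
open Cfsg.Agent.Lib.Helper84

theorem transfer_eq_pow_of_fusion {G A : Type*} [Group G] [CommGroup A] (H : Subgroup G)
    [H.FiniteIndex] (ϕ : H →* A)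
    (key : ∀ (h : H) (g₀ : G) (hk : g₀⁻¹ * (h : G) * g₀ ∈ H), ϕ ⟨g₀⁻¹ * (h : G) * g₀, hk⟩ = ϕ h)
    (h : H) : MonoidHom.transfer ϕ (h : G) = ϕ h ^ H.index := by
  classical
  let := H.fintypeQuotientOfFiniteIndex
  rw [MonoidHom.transfer_eq_prod_quotient_orbitRel_zpowers_quot,
    Subgroup.index_eq_sum_minimalPeriod H (h : G), ← Finset.prod_pow_eq_pow_sum]
  refine Finset.prod_congr rfl fun q _ => ?_
  have hm := QuotientGroup.out_conj_pow_minimalPeriod_mem H (h : G) q.out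
  have hm' : q.out.out⁻¹ * ((h ^ Function.minimalPeriod ((h : G) • ·) q.out : H) : G) * q.out.out
      ∈ H := by
    rw [Subgroup.coe_pow]
    exact hm
  have h1 := key (h ^ Function.minimalPeriod ((h : G) • ·) q.out) q.out.out hm'
  rw [map_pow] at h1
  rw [← h1]
  congr 1

theorem exists_extension_of_fusion {G A : Type*} [Group G] [Finite G] [CommGroup A]
    (H : Subgroup G) (hcop : Nat.Coprime H.index (Nat.card H)) (ϕ : H →* A)
    (key : ∀ (h : H) (g₀ : G) (hk : g₀⁻¹ * (h : G) * g₀ ∈ H), ϕ ⟨g₀⁻¹ * (h : G) * g₀, hk⟩ = ϕ h) :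
    ∃ χ : G →* A, ∀ h : H, χ (h : G) = ϕ h := by
  by_cases h1 : Nat.card H = 1
  · refine ⟨1, fun h => ?_⟩
    have : Subsingleton H := (Nat.card_eq_one_iff_unique.mp h1).1
    rw [Subsingleton.elim h 1]
    simp
  · have hlt : 1 < Nat.card H := by
      have := Nat.card_pos (α := H)
      omega
    obtain ⟨j, -, hj⟩ := Nat.exists_mul_mod_eq_one_of_coprime hcop hlt
    refine ⟨MonoidHom.transfer ϕ ^ j, fun h => ?_⟩
    rw [MonoidHom.pow_apply, transfer_eq_pow_of_fusion H ϕ key h, ← pow_mul, ← map_pow]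
    congr 1
    rw [← pow_mod_natCard, hj, pow_one]

theorem sylow_conj_in {G : Type*} [Group G] [Finite G] {p : ℕ} [Fact p.Prime] (P Q : Sylow p G)
    (D : Subgroup G) (hP : (P : Subgroup G) ≤ D) (hQ : (Q : Subgroup G) ≤ D) :
    ∃ c ∈ D, ∀ z : G, z ∈ (P : Subgroup G) ↔ c⁻¹ * z * c ∈ (Q : Subgroup G) := by
  obtain ⟨c, hc⟩ := MulAction.exists_smul_eq D (Q.subtype hQ) (P.subtype hP)
  have key : ∀ z : D, (z : G) ∈ (P : Subgroup G) ↔ (c : G)⁻¹ * (z : G) * (c : G) ∈ (Q : Subgroup G) := by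
    intro z
    have h1 : z ∈ ((P.subtype hP : Sylow p D) : Subgroup D) ↔ (z : G) ∈ (P : Subgroup G) := by
      rw [Sylow.coe_subtype, Subgroup.mem_subgroupOf]
    rw [← h1, ← hc, Sylow.coe_subgroup_smul, Subgroup.mem_pointwise_smul_iff_inv_smul_mem,
      Sylow.coe_subtype, Subgroup.mem_subgroupOf]
    simp [MulAut.smul_def, mul_assoc]
  refine ⟨c, c.2, fun z => ⟨fun hz => key ⟨z, hP hz⟩ |>.mp hz, fun hz => ?_⟩⟩
  have hzD : z ∈ D := by
    have h2 : (c : G) * ((c : G)⁻¹ * z * (c : G)) * (c : G)⁻¹ ∈ D :=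
      D.mul_mem (D.mul_mem c.2 (hQ hz)) (D.inv_mem c.2)
    simpa [mul_assoc] using h2
  exact (key ⟨z, hzD⟩).mpr hz

theorem mem_of_forall_irr_trivial {G : Type*} [Group G] [Finite G] (N : Subgroup G) [N.Normal]
    (g : G)
    (h : ∀ β : IrrCharacter G, (∀ x ∈ N, (β : G → ℂ) x = (β : G → ℂ) 1) →
      (β : G → ℂ) g = (β : G → ℂ) 1) : g ∈ N := by
  classical
  have := irr_finite (G := G ⧸ N)
  let _ : Fintype (IrrCharacter (G ⧸ N)) := Fintype.ofFinite _
  by_contra hg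
  have hne : ¬ IsConj ((g : G ⧸ N)) 1 := by
    rw [isConj_one_left]
    intro h1
    exact hg ((QuotientGroup.eq_one_iff g).mp h1)
  have hcol := irr_col_orth ((g : G ⧸ N)) (1 : G ⧸ N)
  rw [if_neg hne] at hcol
  have hterm : ∀ ψ : IrrCharacter (G ⧸ N),
      ψ.1 (g : G ⧸ N) * conj (ψ.1 1) = ((charDegree ψ.1 ^ 2 : ℕ) : ℂ) := by
    intro ψ
    have h1 := h ⟨fun x => ψ.1 (x : G ⧸ N), irr_inflate N ψ⟩ (fun x hx => by
      show ψ.1 (x : G ⧸ N) = ψ.1 ((1 : G) : G ⧸ N)
      rw [(QuotientGroup.eq_one_iff x).mpr hx, QuotientGroup.mk_one])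
    have h2 : ψ.1 (g : G ⧸ N) = ψ.1 1 := by
      have h3 : ψ.1 (g : G ⧸ N) = ψ.1 ((1 : G) : G ⧸ N) := h1
      rw [h3, QuotientGroup.mk_one]
    rw [h2, irr_one ψ]
    simp [pow_two]
  rw [Finset.sum_congr rfl (fun ψ _ => hterm ψ), ← Nat.cast_sum] at hcol
  have hpos : 0 < ∑ ψ : IrrCharacter (G ⧸ N), charDegree ψ.1 ^ 2 := by
    apply Finset.sum_pos
    · intro ψ _
      exact pow_pos (irr_degree_pos ψ) 2
    · exact ⟨⟨_, irr_trivial⟩, Finset.mem_univ _⟩
  have : (∑ ψ : IrrCharacter (G ⧸ N), charDegree ψ.1 ^ 2) = 0 := by exact_mod_cast hcol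
  omega

theorem map_normal_of_hall {G : Type*} [Group G] [Finite G] (p : ℕ) [Fact p.Prime]
    (R : Subgroup G) [R.Normal] (K : Subgroup R) [K.Normal] (hK : (Nat.card K).Coprime p)
    (hidx : ∃ a, K.index = p ^ a) :
    (K.map R.subtype).Normal ∧
      ∀ x : G, x ∈ K.map R.subtype ↔ x ∈ R ∧ (orderOf x).Coprime p := by
  have hp := (Fact.out : p.Prime)
  have hchar : ∀ x : G, x ∈ K.map R.subtype ↔ x ∈ R ∧ (orderOf x).Coprime p := by
    intro x
    constructor
    · rintro ⟨y, hy, rfl⟩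
      refine ⟨y.2, ?_⟩
      have h1 : orderOf ((R.subtype y : G)) = orderOf (⟨y, hy⟩ : K) := by
        rw [← Subgroup.orderOf_coe, ← Subgroup.orderOf_coe]
        rfl
      rw [h1]
      exact Nat.Coprime.coprime_dvd_left (orderOf_dvd_natCard _) hK
    · rintro ⟨hxR, hx⟩
      refine ⟨⟨x, hxR⟩, ?_, rfl⟩
      obtain ⟨a, ha⟩ := hidx
      have h1 : orderOf ((⟨x, hxR⟩ : R) : R ⧸ K) ∣ orderOf (⟨x, hxR⟩ : R) :=
        orderOf_dvd_of_pow_eq_one (by
          rw [← QuotientGroup.mk_pow, pow_orderOf_eq_one, QuotientGroup.mk_one])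
      have h2 : orderOf ((⟨x, hxR⟩ : R) : R ⧸ K) ∣ p ^ a := by
        rw [← ha, Subgroup.index_eq_card]
        exact orderOf_dvd_natCard _
      have h3 : orderOf (⟨x, hxR⟩ : R) = orderOf x := by
        rw [← Subgroup.orderOf_coe]
      rw [h3] at h1
      have h4 : orderOf ((⟨x, hxR⟩ : R) : R ⧸ K) = 1 :=
        Nat.Coprime.eq_one_of_dvd (Nat.Coprime.coprime_dvd_left h1 (Nat.Coprime.pow_right a hx)) h2
      exact (QuotientGroup.eq_one_iff _).mp (orderOf_eq_one_iff.mp h4)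
  refine ⟨⟨fun x hx g => ?_⟩, hchar⟩
  rw [hchar] at hx ⊢
  refine ⟨‹R.Normal›.conj_mem x hx.1 g, ?_⟩
  have h1 : orderOf (g * x * g⁻¹) = orderOf x := by
    have := MulEquiv.orderOf_eq (MulAut.conj g) x
    simpa using this
  rw [h1]
  exact hx.2

end Cfsg.Agent.Lib.Helper84.NC
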