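import Mathlib
import Cfsg.Prelude.Def_GeometricClasses
import Cfsg.Prelude.Def_LieClassical

/-! Project O9 (helper44), piece D33: for `q = 3` an orthogonal decomposition of `F⁹` into three
isometric `3`-spaces, the first of which carries a rigid orthogonal frame, refines to nine lines
permuted by every isometry stabilising the decomposition. -/

set_option autoImplicit false

namespace Cfsg.Agent.Lib.Helper44.O9

open Matrix Cfsg.Geo

variable {n : ℕ} {F : Type*} [Field F] [Fintype F]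

/-- a family of pairwise orthogonal non-isotropic vectors is linearly independent -/
theorem D33_linIndep {ι : Type} [Fintype ι] [DecidableEq ι]
    (b : (Fin 9 → F) → (Fin 9 → F) → F) (hb : IsBilinearForm b) (v : ι → Fin 9 → F)
    (h1 : ∀ a, b (v a) (v a) ≠ 0) (h2 : ∀ a a', a ≠ a' → b (v a) (v a') = 0) :
    LinearIndependent F v := by
  classical
  rw [Fintype.linearIndependent_iff]
  intro c hc k
  have h0 : b 0 (v k) = 0 := by
    have h := hb.smul_left 0 0 (v k)
    rwa [zero_smul, zero_mul] at h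
  have hsum : ∀ s : Finset ι,
      b (∑ a ∈ s, c a • v a) (v k) = ∑ a ∈ s, c a * b (v a) (v k) := by
    intro s
    induction s using Finset.induction_on with
    | empty => rw [Finset.sum_empty, Finset.sum_empty, h0]
    | insert a s ha ih =>
      rw [Finset.sum_insert ha, Finset.sum_insert ha, hb.add_left, hb.smul_left, ih]
  have h3 := hsum Finset.univ
  rw [hc, h0, Finset.sum_eq_single k] at h3
  · exact (mul_eq_zero.1 h3.symm).resolve_right (h1 k)
  · intro a _ ha
    rw [h2 a k ha, mul_zero]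
  · intro h
    exact absurd (Finset.mem_univ k) h

theorem D33 (hq : Fintype.card F = 3) (Q : (Fin 9 → F) → F)
    (hQ : IsNondegenerateQuadraticForm Q) (D : Fin 3 → Submodule F (Fin 9 → F))
    (hD : IsOrthogonalMDecomposition Q 3 D)
    (w : Fin 3 → Fin 9 → F) (ε : F) (hε : ε ≠ 0) (hw : ∀ j, w j ∈ D 0)
    (hnorm : ∀ j, QuadraticMap.polar Q (w j) (w j) = ε)
    (horth : ∀ j k, j ≠ k → QuadraticMap.polar Q (w j) (w k) = 0)
    (hfr : ∀ x ∈ D 0, QuadraticMap.polar Q x x = ε → ∃ j, x = w j ∨ x = - w j) :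
    ∃ D' : Fin 9 → Submodule F (Fin 9 → F), IsOrthogonalMDecomposition Q 1 D' ∧
      ∀ g : GL (Fin 9) F, g ∈ decompositionStabilizer D → (∀ v, Q (g.1 *ᵥ v) = Q v) →
        ∀ i, ∃ j, (D' i).map (Matrix.toLin' g.1) = D' j := by
  classical
  have hb := hQ.polar_bilinear
  -- characteristic facts
  have h3 : (3 : F) = 0 := by
    have h := FiniteField.cast_card_eq_zero F
    rw [hq] at h
    exact_mod_cast h
  have h2 : (2 : F) ≠ 0 := by
    intro h
    have h1 : (1 : F) = 0 := by linear_combination h3 - h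
    exact one_ne_zero h1
  have hbQ : ∀ x : Fin 9 → F, QuadraticMap.polar Q x x = 2 * Q x := by
    intro x
    have hx : x + x = (2 : F) • x := (two_smul F x).symm
    unfold QuadraticMap.polar
    rw [hx, hQ.smul]
    ring
  -- the isometries
  choose φ hφ using fun i => hD.isometric 0 i
  have hφb : ∀ (i : Fin 3) (x y : D 0),
      QuadraticMap.polar Q ((φ i x : D i) : Fin 9 → F) ((φ i y : D i) : Fin 9 → F) =
        QuadraticMap.polar Q (x : Fin 9 → F) (y : Fin 9 → F) := by
    intro i x y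
    unfold QuadraticMap.polar
    have hxy : ((φ i x : D i) : Fin 9 → F) + ((φ i y : D i) : Fin 9 → F) =
        ((φ i (x + y) : D i) : Fin 9 → F) := by
      rw [map_add, Submodule.coe_add]
    rw [hxy, hφ, hφ, hφ, Submodule.coe_add]
  -- the nine vectors
  let u : Fin 3 → Fin 3 → Fin 9 → F := fun i j => ((φ i ⟨w j, hw j⟩ : D i) : Fin 9 → F)
  have hu_mem : ∀ i j, u i j ∈ D i := fun i j => (φ i ⟨w j, hw j⟩).2
  have hu_same : ∀ i j k, QuadraticMap.polar Q (u i j) (u i k) =
      QuadraticMap.polar Q (w j) (w k) := fun i j k => hφb i ⟨w j, hw j⟩ ⟨w k, hw k⟩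
  have hu_diff : ∀ i i' j k, i ≠ i' → QuadraticMap.polar Q (u i j) (u i' k) = 0 :=
    fun i i' j k hii' => hD.decomp.orthogonal i i' hii' (u i j) (hu_mem i j) (u i' k) (hu_mem i' k)
  have hu_Q : ∀ i j, 2 * Q (u i j) = ε := by
    intro i j
    rw [← hbQ, hu_same, hnorm]
  let e9 : Fin 9 ≃ Fin 3 × Fin 3 := Fintype.equivOfCardEq (by simp)
  let v : Fin 9 → Fin 9 → F := fun a => u (e9 a).1 (e9 a).2
  have hv_mem : ∀ a, v a ∈ D (e9 a).1 := fun a => hu_mem _ _
  have hvv : ∀ a, QuadraticMap.polar Q (v a) (v a) = ε := by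
    intro a
    show QuadraticMap.polar Q (u (e9 a).1 (e9 a).2) (u (e9 a).1 (e9 a).2) = ε
    rw [hu_same, hnorm]
  have hvo : ∀ a a', a ≠ a' → QuadraticMap.polar Q (v a) (v a') = 0 := by
    intro a a' hne
    show QuadraticMap.polar Q (u (e9 a).1 (e9 a).2) (u (e9 a').1 (e9 a').2) = 0
    by_cases h : (e9 a).1 = (e9 a').1
    · have hj : (e9 a).2 ≠ (e9 a').2 := fun h' => hne (e9.injective (Prod.ext h h'))
      rw [← h, hu_same]
      exact horth _ _ hj
    · exact hu_diff _ _ _ _ h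
  have hvQ : ∀ a a', Q (v a) = Q (v a') := by
    intro a a'
    apply mul_left_cancel₀ h2
    show 2 * Q (u (e9 a).1 (e9 a).2) = 2 * Q (u (e9 a').1 (e9 a').2)
    rw [hu_Q, hu_Q]
  have h0l : ∀ x : Fin 9 → F, QuadraticMap.polar Q 0 x = 0 := by
    intro x
    have h := hb.smul_left 0 0 x
    rwa [zero_smul, zero_mul] at h
  have hv0 : ∀ a, v a ≠ 0 := by
    intro a h
    have h1 := hvv a
    rw [h, h0l] at h1
    exact hε h1.symm
  have hli : LinearIndependent F v :=
    D33_linIndep (QuadraticMap.polar Q) hb v (fun a => by rw [hvv]; exact hε) hvo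
  have hspan : Submodule.span F (Set.range v) = ⊤ :=
    hli.span_eq_top_of_card_eq_finrank' (by simp)
  refine ⟨fun a => Submodule.span F {v a}, ⟨⟨⟨by norm_num, by norm_num, ?_, ?_, ?_⟩, ?_, ?_⟩, ?_⟩, ?_⟩
  · -- finrank
    intro a
    exact finrank_span_singleton (hv0 a)
  · -- independent
    exact hli.iSupIndep_span_singleton
  · -- spanning
    rw [← hspan, Submodule.span_range_eq_iSup]
  · -- non-degenerate
    intro a x hx hx0
    obtain ⟨c, rfl⟩ := Submodule.mem_span_singleton.1 hx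
    have hc : c ≠ 0 := by
      rintro rfl
      exact hx0 (zero_smul F (v a))
    refine ⟨⟨v a, Submodule.mem_span_singleton_self _, ?_⟩,
      ⟨v a, Submodule.mem_span_singleton_self _, ?_⟩⟩
    · rw [hb.smul_right, hvv]
      exact mul_ne_zero hc hε
    · rw [hb.smul_left, hvv]
      exact mul_ne_zero hc hε
  · -- orthogonal
    intro a a' hne x hx y hy
    obtain ⟨c, rfl⟩ := Submodule.mem_span_singleton.1 hx
    obtain ⟨d, rfl⟩ := Submodule.mem_span_singleton.1 hy
    rw [hb.smul_left, hb.smul_right, hvo a a' hne, mul_zero, mul_zero]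
  · -- isometric
    intro a a'
    refine ⟨(LinearEquiv.toSpanNonzeroSingleton F (Fin 9 → F) (v a) (hv0 a)).symm.trans
      (LinearEquiv.toSpanNonzeroSingleton F (Fin 9 → F) (v a') (hv0 a')), ?_⟩
    intro x
    have hx : (x : Fin 9 → F) =
        (LinearEquiv.toSpanNonzeroSingleton F (Fin 9 → F) (v a) (hv0 a)).symm x • v a :=
      (LinearEquiv.toSpanNonzeroSingleton_symm_apply_smul F (Fin 9 → F) (v a) (hv0 a) x).symm
    rw [LinearEquiv.trans_apply, LinearEquiv.toSpanNonzeroSingleton_apply]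
    show Q ((LinearEquiv.toSpanNonzeroSingleton F (Fin 9 → F) (v a) (hv0 a)).symm x • v a') = Q x
    conv_rhs => rw [hx]
    rw [hQ.smul, hQ.smul, hvQ a a']
  · -- the stabiliser
    intro g hg hgQ a
    obtain ⟨σ, hσ⟩ := hg
    have hgb : ∀ x y : Fin 9 → F,
        QuadraticMap.polar Q (g.1 *ᵥ x) (g.1 *ᵥ y) = QuadraticMap.polar Q x y := by
      intro x y
      unfold QuadraticMap.polar
      rw [← Matrix.mulVec_add, hgQ, hgQ, hgQ]
    have hmem : g.1 *ᵥ v a ∈ D (σ (e9 a).1) := by
      rw [← hσ (e9 a).1]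
      exact Submodule.mem_map.2 ⟨v a, hv_mem a, Matrix.toLin'_apply _ _⟩
    obtain ⟨y, hy⟩ : ∃ y : D 0, ((φ (σ (e9 a).1) y : D (σ (e9 a).1)) : Fin 9 → F) = g.1 *ᵥ v a :=
      ⟨(φ (σ (e9 a).1)).symm ⟨g.1 *ᵥ v a, hmem⟩, by rw [LinearEquiv.apply_symm_apply]⟩
    have hyy : QuadraticMap.polar Q (y : Fin 9 → F) (y : Fin 9 → F) = ε := by
      rw [← hφb (σ (e9 a).1) y y, hy, hgb, hvv]
    obtain ⟨j', hj'⟩ := hfr y y.2 hyy
    refine ⟨e9.symm (σ (e9 a).1, j'), ?_⟩
    have hv' : v (e9.symm (σ (e9 a).1, j')) = u (σ (e9 a).1) j' := by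
      show u (e9 (e9.symm (σ (e9 a).1, j'))).1 (e9 (e9.symm (σ (e9 a).1, j'))).2 = _
      rw [Equiv.apply_symm_apply]
    show (Submodule.span F {v a}).map (Matrix.toLin' g.1) =
      Submodule.span F {v (e9.symm (σ (e9 a).1, j'))}
    rw [Submodule.map_span, Set.image_singleton, Matrix.toLin'_apply, hv', ← hy]
    rcases hj' with h | h
    · have hyw : y = ⟨w j', hw j'⟩ := Subtype.ext h
      rw [hyw]
    · have hyw : y = - ⟨w j', hw j'⟩ := Subtype.ext h
      rw [hyw, map_neg, Submodule.coe_neg]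
      have hneg : -u (σ (e9 a).1) j' = (-1 : F) • u (σ (e9 a).1) j' := by
        rw [neg_smul, one_smul]
      show Submodule.span F {-u (σ (e9 a).1) j'} = Submodule.span F {u (σ (e9 a).1) j'}
      rw [hneg]
      exact Submodule.span_singleton_smul_eq (IsUnit.neg isUnit_one) _

end Cfsg.Agent.Lib.Helper44.O9
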