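import Mathlib
import Cfsg.Prelude.Def_Local
import Cfsg.Prelude.Def_Solvable
import Cfsg.Agent.Lib.Helper1.Coprime
import Cfsg.Agent.Lib.Helper40.HallHigman
import Cfsg.Agent.Lib.Helper55.Basic
import Cfsg.Agent.Lib.Helper75.FrattiniAct
import Cfsg.Agent.Lib.Helper81.PSolv
import Cfsg.Agent.Lib.Helper81.PSolv2

/-! Group-theoretic lemmas for the commuting Sylow subgroups criterion (helper84). -/

set_option autoImplicit false
set_option linter.style.haveILetI false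
set_option linter.unusedVariables false
set_option linter.unusedSimpArgs false

namespace Cfsg.Agent.Lib.Helper84.PQ

open Cfsg

/-- an element of `p`-power and `q`-power order is trivial -/
theorem eq_one_of_pow_pow {Γ : Type*} [Group Γ] {p q : ℕ} (hp : p.Prime) (hq : q.Prime)
    (hpq : p ≠ q) (x : Γ) (a b : ℕ) (ha : x ^ p ^ a = 1) (hb : x ^ q ^ b = 1) : x = 1 := by
  have h1 := orderOf_dvd_of_pow_eq_one ha
  have h2 := orderOf_dvd_of_pow_eq_one hb
  have hc : (p ^ a).Coprime (q ^ b) := Nat.Coprime.pow a b ((Nat.coprime_primes hp hq).mpr hpq)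
  exact orderOf_eq_one_iff.mp (Nat.eq_one_of_dvd_coprimes hc h1 h2)

/-- an element of a `p`-group and of a `q`-group is trivial -/
theorem eq_one_of_mem_mem {Γ : Type*} [Group Γ] {p q : ℕ} [hp : Fact p.Prime] [hq : Fact q.Prime]
    (hpq : p ≠ q) (P Q : Subgroup Γ) (hP : IsPGroup p P) (hQ : IsPGroup q Q) (x : Γ)
    (hxP : x ∈ P) (hxQ : x ∈ Q) : x = 1 := by
  obtain ⟨a, ha⟩ := hP ⟨x, hxP⟩
  obtain ⟨b, hb⟩ := hQ ⟨x, hxQ⟩
  have ha' : x ^ p ^ a = 1 := by
    have := congrArg Subtype.val ha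
    simpa using this
  have hb' : x ^ q ^ b = 1 := by
    have := congrArg Subtype.val hb
    simpa using this
  exact eq_one_of_pow_pow hp.out hq.out hpq x a b ha' hb'

/-- an element of a `q`-group whose order is prime to `q` is trivial -/
theorem eq_one_of_mem_coprime {Γ : Type*} [Group Γ] [Finite Γ] {q : ℕ} [hq : Fact q.Prime]
    (Q M : Subgroup Γ) (hQ : IsPGroup q Q) (hM : (Nat.card M).Coprime q) (x : Γ)
    (hxQ : x ∈ Q) (hxM : x ∈ M) : x = 1 := by
  obtain ⟨b, hb⟩ := hQ ⟨x, hxQ⟩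
  have hb' : x ^ q ^ b = 1 := by
    have := congrArg Subtype.val hb
    simpa using this
  have h1 := orderOf_dvd_of_pow_eq_one hb'
  have h2 : orderOf x ∣ Nat.card M := by
    have h := orderOf_dvd_natCard (⟨x, hxM⟩ : M)
    rwa [Subgroup.orderOf_mk] at h
  have hc : (q ^ b).Coprime (Nat.card M) := Nat.Coprime.pow_left b hM.symm
  exact orderOf_eq_one_iff.mp (Nat.eq_one_of_dvd_coprimes hc h1 h2)

/-- stability: if `n x n⁻¹ = w x` with `w` commuting with `x` then `w ^ k = 1` when `x ^ k = 1` -/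
theorem pow_eq_one_of_conj_eq_mul {Γ : Type*} [Group Γ] (n x w : Γ) (h : n * x * n⁻¹ = w * x)
    (hc : w * x = x * w) (k : ℕ) (hx : x ^ k = 1) : w ^ k = 1 := by
  have h1 : (n * x * n⁻¹) ^ k = 1 := by rw [conj_pow, hx]; group
  rw [h, (show Commute w x from hc).mul_pow, hx, mul_one] at h1
  exact h1

/-- a `p`-group acting on the Sylow `q`-subgroups of a normal `p'`-subgroup of `q'`-index
normalizes one of them -/
theorem exists_invariant_sylow {G : Type*} [Group G] [Finite G] (p q : ℕ) [hp : Fact p.Prime]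
    [Fact q.Prime] (N : Subgroup G) [N.Normal] (hN : (Nat.card N).Coprime p)
    (hidx : ¬ q ∣ N.index) (R : Subgroup G) (hR : IsPGroup p R) :
    ∃ Q : Sylow q G, (Q : Subgroup G) ≤ N ∧
      R ≤ Subgroup.normalizer ((Q : Subgroup G) : Set G) := by
  obtain ⟨Q₀, hQ₀⟩ := Helper81.exists_sylow_le_of_not_dvd_index q N hidx
  have hall : ∀ Q : Sylow q G, (Q : Subgroup G) ≤ N := by
    intro Q
    obtain ⟨g, rfl⟩ := MulAction.exists_smul_eq G Q₀ Q
    intro n hn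
    rw [Sylow.coe_subgroup_smul, Subgroup.mem_pointwise_smul_iff_inv_smul_mem] at hn
    have h1 := hQ₀ hn
    have h2 : (MulAut.conj g)⁻¹ • n = g⁻¹ * n * g := by
      simp [MulAut.smul_def, MulAut.conj_inv_apply]
    rw [h2] at h1
    have h3 := (inferInstance : N.Normal).conj_mem _ h1 g
    have h4 : g * (g⁻¹ * n * g) * g⁻¹ = n := by group
    rwa [h4] at h3
  have hcard : ¬ p ∣ Nat.card (Sylow q G) := by
    rw [Sylow.card_eq_index_normalizer Q₀]
    have h1 := Sylow.normalizer_sup_eq_top' Q₀ hQ₀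
    rw [Helper81.index_eq_relIndex_of_sup_eq_top _ N h1]
    intro hdvd
    have h2 := hdvd.trans (Subgroup.relIndex_dvd_card _ N)
    have h3 : p ∣ Nat.gcd (Nat.card N) p := Nat.dvd_gcd h2 dvd_rfl
    rw [hN] at h3
    exact hp.out.one_lt.ne' (Nat.dvd_one.mp h3)
  obtain ⟨Q, hQ⟩ := hR.nonempty_fixed_point_of_prime_not_dvd_card (Sylow q G) hcard
  refine ⟨Q, hall Q, fun r hr => ?_⟩
  have h1 := hQ ⟨r, hr⟩
  exact Sylow.smul_eq_iff_mem_normalizer.mp h1

/-- commuting Sylow `p`- and `q`-subgroups of a `p`-solvable group: the Sylow `q`-subgroups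
lie in `O_{p'}(G)` -/
theorem not_dvd_index_of_commute {G : Type*} [Group G] [Finite G] (p q : ℕ) [hp : Fact p.Prime]
    [hq : Fact q.Prime] (hpq : p ≠ q) (hps : IsPSolvable p G) (P : Sylow p G) (Q : Sylow q G)
    (hc : ∀ x ∈ (P : Subgroup G), ∀ y ∈ (Q : Subgroup G), x * y = y * x) :
    ¬ q ∣ (pPrimeCore p G).index := by
  haveI hNn : (pPrimeCore p G).Normal := Helper81.pPrimeCore_normal p
  have hsurj : Function.Surjective (QuotientGroup.mk' (pPrimeCore p G)) :=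
    QuotientGroup.mk'_surjective _
  have hsolv := Helper75.Fratt.isPSolvable_quotient (pPrimeCore p G) hps
  have hred := Helper75.Fratt.pPrimeCore_quotient_eq_bot' (G := G) p
  have hHH := Helper40.centralizer_pCore_le hsolv hred
  have hcore : pCore p (G ⧸ pPrimeCore p G) ≤ (P.mapSurjective hsurj : Sylow p _) :=
    Helper55.pCore_le_sylow _
  have hcp : IsPGroup p (pCore p (G ⧸ pPrimeCore p G)) := Helper40.pCore_isPGroup' p
  intro hdvd
  rw [Subgroup.index_eq_card] at hdvd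
  apply Sylow.ne_bot_of_dvd_card (Q.mapSurjective hsurj) hdvd
  rw [Sylow.coe_mapSurjective, eq_bot_iff]
  rintro _ ⟨y, hy, rfl⟩
  rw [Subgroup.mem_bot]
  have h1 : (QuotientGroup.mk' (pPrimeCore p G)) y ∈ pCore p (G ⧸ pPrimeCore p G) := by
    apply hHH
    rw [Subgroup.mem_centralizer_iff]
    intro z hz
    have hz' := hcore hz
    rw [Sylow.coe_mapSurjective] at hz'
    obtain ⟨x, hx, rfl⟩ := hz'
    rw [← map_mul, ← map_mul, hc x hx y hy]
  have h2 : (QuotientGroup.mk' (pPrimeCore p G)) y ∈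
      (Q : Subgroup G).map (QuotientGroup.mk' (pPrimeCore p G)) := Subgroup.mem_map_of_mem _ hy
  exact eq_one_of_mem_mem hpq _ _ hcp ((Q.2).map _) _ h1 h2

/-- Glauberman's lemma, subgroup form, for a `q`-group of operators -/
theorem glauberman_subgroup {Γ : Type*} [Group Γ] [Finite Γ] (q : ℕ) [hq : Fact q.Prime]
    (Q T S : Subgroup Γ) (hQ : IsPGroup q Q) (hT : (Nat.card T).Coprime q)
    (hnorm : ∀ x ∈ Q, ∀ t ∈ T, x * t * x⁻¹ ∈ T)
    (hcov : ∀ x ∈ Q, ∃ t ∈ T, x * t ∈ S) :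
    ∃ t ∈ T, ∀ x ∈ Q, t⁻¹ * x * t ∈ S := by
  classical
  let Ω : Set (Γ ⧸ S) := {ω | ∃ t ∈ T, ω = ((t : Γ) : Γ ⧸ S)}
  have hsm : ∀ (x : Q) (ω : Ω), ((x : Γ) • (ω : Γ ⧸ S)) ∈ Ω := by
    rintro ⟨x, hx⟩ ⟨ω, t, ht, rfl⟩
    obtain ⟨t', ht', hs⟩ := hcov x hx
    refine ⟨x * (t * t'⁻¹) * x⁻¹, hnorm x hx _ (T.mul_mem ht (T.inv_mem ht')), ?_⟩
    show (x • ((t : Γ) : Γ ⧸ S)) = _
    rw [MulAction.Quotient.smul_mk, QuotientGroup.eq, smul_eq_mul]
    have h1 : (x * t)⁻¹ * (x * (t * t'⁻¹) * x⁻¹) = (x * t')⁻¹ := by group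
    rw [h1]
    exact S.inv_mem hs
  letI : MulAction Q Ω :=
    { smul := fun x ω => ⟨(x : Γ) • (ω : Γ ⧸ S), hsm x ω⟩
      one_smul := fun ω => Subtype.ext (by
        show ((1 : Q) : Γ) • (ω : Γ ⧸ S) = ω
        simp)
      mul_smul := fun x y ω => Subtype.ext (by
        show ((x * y : Q) : Γ) • (ω : Γ ⧸ S) = (x : Γ) • ((y : Γ) • (ω : Γ ⧸ S))
        rw [Subgroup.coe_mul, mul_smul]) }
  have hcard : ¬ q ∣ Nat.card Ω := by
    have hsurj : Function.Surjective (fun t : T => (⟨((t : Γ) : Γ ⧸ S), t, t.2, rfl⟩ : Ω)) := by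
      rintro ⟨ω, t, ht, rfl⟩
      exact ⟨⟨t, ht⟩, rfl⟩
    -- the fibres of `T → Ω` are cosets of `T ⊓ S`
    have hΩ : Nat.card Ω = (S.subgroupOf T).index := by
      rw [Subgroup.index_eq_card]
      symm
      apply Nat.card_congr
      refine Equiv.ofBijective (fun c => Quotient.liftOn' c
        (fun t : T => (⟨((t : Γ) : Γ ⧸ S), t, t.2, rfl⟩ : Ω)) ?_) ⟨?_, ?_⟩
      · intro a b hab
        apply Subtype.ext
        show ((a : Γ) : Γ ⧸ S) = ((b : Γ) : Γ ⧸ S)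
        rw [QuotientGroup.eq]
        have := QuotientGroup.leftRel_apply.mp hab
        simpa [Subgroup.mem_subgroupOf] using this
      · intro c d
        induction c using Quotient.inductionOn' with | _ a => ?_
        induction d using Quotient.inductionOn' with | _ b => ?_
        intro h
        have h' : ((a : Γ) : Γ ⧸ S) = ((b : Γ) : Γ ⧸ S) := congrArg Subtype.val h
        rw [QuotientGroup.eq] at h'
        apply Quotient.sound'
        rw [QuotientGroup.leftRel_apply]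
        simpa [Subgroup.mem_subgroupOf] using h'
      · intro ω
        obtain ⟨t, rfl⟩ := hsurj ω
        exact ⟨Quotient.mk'' t, rfl⟩
    rw [hΩ]
    intro hdvd
    have h2 := hdvd.trans (Subgroup.relIndex_dvd_card S T)
    have h3 : q ∣ Nat.gcd (Nat.card T) q := Nat.dvd_gcd h2 dvd_rfl
    rw [hT] at h3
    exact hq.out.one_lt.ne' (Nat.dvd_one.mp h3)
  obtain ⟨⟨ω, t, ht, rfl⟩, hfix⟩ := hQ.nonempty_fixed_point_of_prime_not_dvd_card Ω hcard
  refine ⟨t, ht, fun x hx => ?_⟩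
  have h1 := hfix ⟨x, hx⟩
  have h2 : (x • ((t : Γ) : Γ ⧸ S)) = ((t : Γ) : Γ ⧸ S) := congrArg Subtype.val h1
  rw [MulAction.Quotient.smul_mk, QuotientGroup.eq, smul_eq_mul] at h2
  have h3 : t⁻¹ * x * t = ((x * t)⁻¹ * t)⁻¹ := by group
  rw [h3]
  exact S.inv_mem h2

/-- Sylow conjugacy inside a subgroup, for `p`-subgroups of `p'`-index in it -/
theorem conj_of_relIndex {Γ : Type*} [Group Γ] [Finite Γ] (p : ℕ) [Fact p.Prime]
    (P₁ P₂ D : Subgroup Γ) (h1 : P₁ ≤ D) (h2 : P₂ ≤ D) (hp1 : IsPGroup p P₁)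
    (hp2 : IsPGroup p P₂) (hi1 : ¬ p ∣ P₁.relIndex D) (hc : Nat.card P₂ = Nat.card P₁) :
    ∃ c ∈ D, ∀ z : Γ, z ∈ P₁ ↔ c⁻¹ * z * c ∈ P₂ := by
  have hi2 : ¬ p ∣ P₂.relIndex D := by
    have e1 := Subgroup.card_mul_index (P₁.subgroupOf D)
    have e2 := Subgroup.card_mul_index (P₂.subgroupOf D)
    rw [Nat.card_congr (Subgroup.subgroupOfEquivOfLe h1).toEquiv] at e1
    rw [Nat.card_congr (Subgroup.subgroupOfEquivOfLe h2).toEquiv, hc] at e2
    have hpos : 0 < Nat.card P₁ := Nat.card_pos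
    have e3 : (P₂.subgroupOf D).index = (P₁.subgroupOf D).index :=
      Nat.eq_of_mul_eq_mul_left hpos (e2.trans e1.symm)
    show ¬ p ∣ (P₂.subgroupOf D).index
    rw [e3]
    exact hi1
  let S₁ : Sylow p D := (hp1.comap_subtype (K := D)).toSylow hi1
  let S₂ : Sylow p D := (hp2.comap_subtype (K := D)).toSylow hi2
  obtain ⟨c, hc'⟩ := MulAction.exists_smul_eq D S₂ S₁
  have key : ∀ z : D, (z : Γ) ∈ P₁ ↔ (c : Γ)⁻¹ * (z : Γ) * (c : Γ) ∈ P₂ := by
    intro z
    have e1 : z ∈ (S₁ : Subgroup D) ↔ (z : Γ) ∈ P₁ := by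
      show z ∈ P₁.subgroupOf D ↔ _
      rw [Subgroup.mem_subgroupOf]
    rw [← e1, ← hc', Sylow.coe_subgroup_smul, Subgroup.mem_pointwise_smul_iff_inv_smul_mem]
    show _ ∈ P₂.subgroupOf D ↔ _
    rw [Subgroup.mem_subgroupOf]
    simp [MulAut.smul_def, mul_assoc]
  refine ⟨c, c.2, fun z => ⟨fun hz => (key ⟨z, h1 hz⟩).mp hz, fun hz => ?_⟩⟩
  have hzD : z ∈ D := by
    have h3 : (c : Γ) * ((c : Γ)⁻¹ * z * (c : Γ)) * (c : Γ)⁻¹ ∈ D :=
      D.mul_mem (D.mul_mem c.2 (h2 hz)) (D.inv_mem c.2)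
    simpa [mul_assoc] using h3
  exact (key ⟨z, hzD⟩).mpr hz

/-- Burnside-type fusion: a conjugating element moving the Sylow `p`-subgroup `P` of `D`
into `D` differs from an element normalizing `P` by an element of `D` -/
theorem fusion_normalizer {Γ : Type*} [Group Γ] [Finite Γ] (p : ℕ) [Fact p.Prime]
    (P D : Subgroup Γ) (hPD : P ≤ D) (hp : IsPGroup p P) (hi : ¬ p ∣ P.relIndex D) (m : Γ)
    (hm : ∀ u ∈ P, m * u * m⁻¹ ∈ D) :
    ∃ t ∈ D, ∀ z : Γ, z ∈ P ↔ (t⁻¹ * m) * z * (t⁻¹ * m)⁻¹ ∈ P := by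
  let P₂ : Subgroup Γ := P.map (MulAut.conj m).toMonoidHom
  have hP₂ : ∀ z : Γ, z ∈ P₂ ↔ m⁻¹ * z * m ∈ P := by
    intro z
    constructor
    · rintro ⟨u, hu, rfl⟩
      have : m⁻¹ * ((MulAut.conj m).toMonoidHom u) * m = u := by
        simp [MulAut.conj_apply, mul_assoc]
      rw [this]
      exact hu
    · intro hz
      refine ⟨m⁻¹ * z * m, hz, ?_⟩
      simp [MulAut.conj_apply, mul_assoc]
  have h2 : P₂ ≤ D := by
    rintro _ ⟨u, hu, rfl⟩
    have := hm u hu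
    simpa [MulAut.conj_apply] using this
  have hc : Nat.card P₂ = Nat.card P :=
    Subgroup.card_map_of_injective (MulAut.conj m).injective
  obtain ⟨c, hcD, hcz⟩ := conj_of_relIndex p P P₂ D hPD h2 hp (hp.map _) hi hc
  refine ⟨c⁻¹, D.inv_mem hcD, fun z => ?_⟩
  rw [hcz ((c⁻¹)⁻¹ * m * z * ((c⁻¹)⁻¹ * m)⁻¹), hP₂]
  have : m⁻¹ * (c⁻¹ * ((c⁻¹)⁻¹ * m * z * ((c⁻¹)⁻¹ * m)⁻¹) * c) * m = z := by group
  rw [this]

/-- Burnside: a `q`-group normalizing the `p`-group `P` and acting trivially on `P / P'`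
centralizes `P` -/
theorem centralizes_of_comm_mem_commutator {Γ : Type*} [Group Γ] [Finite Γ] (p q : ℕ)
    [hp : Fact p.Prime] [hq : Fact q.Prime] (hpq : p ≠ q) (P Q : Subgroup Γ)
    (hP : IsPGroup p P) (hQ : IsPGroup q Q)
    (hnorm : Q ≤ Subgroup.normalizer (P : Set Γ))
    (h : ∀ x ∈ Q, ∀ u ∈ P, x * u * x⁻¹ * u⁻¹ ∈ (commutator ↥P).map P.subtype) :
    ∀ x ∈ Q, ∀ u ∈ P, x * u = u * x := by
  set D : Subgroup Γ := (commutator ↥P).map P.subtype with hD
  have hDP : D ≤ P := Subgroup.map_subtype_le _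
  have hQD : Q ≤ Subgroup.normalizer (D : Set Γ) :=
    hnorm.trans (Helper1.normalizer_le_normalizer_map_of_characteristic _)
  have hcop : (Nat.card Q).Coprime (Nat.card D) := by
    obtain ⟨a, ha⟩ := IsPGroup.iff_card.mp hQ
    obtain ⟨b, hb⟩ := IsPGroup.iff_card.mp hP
    have h1 : Nat.card D ∣ p ^ b := hb ▸ Subgroup.card_dvd_of_le hDP
    rw [ha]
    exact Nat.Coprime.coprime_dvd_right h1
      (Nat.Coprime.pow a b ((Nat.coprime_primes hq.out hp.out).mpr hpq.symm))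
  have hsolv : Group.IsSolvable Q := by
    haveI := hQ.isNilpotent
    infer_instance
  have hDn : ∀ u ∈ P, ∀ d ∈ D, u⁻¹ * d * u ∈ D := by
    rintro u hu _ ⟨d, hd, rfl⟩
    refine ⟨(⟨u, hu⟩ : P)⁻¹ * d * ⟨u, hu⟩, ?_, by simp⟩
    have := (inferInstance : (commutator ↥P).Normal).conj_mem d hd (⟨u, hu⟩ : P)⁻¹
    simpa using this
  have hdec : ∀ u ∈ P, ∃ d ∈ D, u * d ∈ Subgroup.centralizer (Q : Set Γ) := by
    intro u hu
    apply Helper1.coprime_coset_fixed hQD hcop (Or.inl hsolv) u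
    intro a ha
    have h1 := hDn u hu _ (h a ha u hu)
    have h2 : u⁻¹ * (a * u * a⁻¹ * u⁻¹) * u = u⁻¹ * (a * u * a⁻¹) := by group
    rwa [h2] at h1
  have htop : (Subgroup.centralizer (Q : Set Γ)).subgroupOf P = ⊤ := by
    apply frattini_nongenerating
    rw [eq_top_iff]
    intro u _
    obtain ⟨d, hd, hud⟩ := hdec u u.2
    obtain ⟨d', hd', rfl⟩ := hd
    have h1 : u = (u * d') * d'⁻¹ := by group
    rw [h1]
    apply Subgroup.mul_mem_sup
    · rw [Subgroup.mem_subgroupOf]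
      exact hud
    · exact Helper75.Fratt.commutator_le_frattini hP ((commutator ↥P).inv_mem hd')
  intro x hx u hu
  have h1 : (⟨u, hu⟩ : P) ∈ (Subgroup.centralizer (Q : Set Γ)).subgroupOf P := by
    rw [htop]; trivial
  rw [Subgroup.mem_subgroupOf, Subgroup.mem_centralizer_iff] at h1
  exact h1 x hx

end Cfsg.Agent.Lib.Helper84.PQ
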