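import Mathlib
import Cfsg.Agent.Lib.Helper84.Gagola4
import Cfsg.Agent.Lib.Helper4.CharDual

set_option autoImplicit false

namespace Cfsg.Agent.Lib.Helper84

open Cfsg
open scoped ComplexConjugate

universe u

section OrbitCount

/-- Burnside orbit counting for a bare action map. -/
theorem card_quot_mul_card {G : Type*} [Group G] [Fintype G] {Z : Type*} [Finite Z]
    (act : G → Z → Z) (h1 : ∀ z, act 1 z = z)
    (hmul : ∀ g h z, act (g * h) z = act g (act h z)) :
    Nat.card (Quot (fun z w : Z => ∃ g : G, w = act g z)) * Nat.card G =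
      ∑ g : G, Nat.card {z : Z // act g z = z} := by
  classical
  letI : MulAction G Z := { smul := act, one_smul := h1, mul_smul := hmul }
  letI := Fintype.ofFinite Z
  have hB := MulAction.sum_card_fixedBy_eq_card_orbits_mul_card_group G Z
  have e : Quot (fun z w : Z => ∃ g : G, w = act g z) ≃ Quotient (MulAction.orbitRel G Z) :=
    Quot.congrRight (fun z w => by
      show (∃ g : G, w = g • z) ↔ z ∈ MulAction.orbit G w
      rw [MulAction.mem_orbit_iff]
      constructor
      · rintro ⟨g, hg⟩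
        exact ⟨g⁻¹, by rw [hg, inv_smul_smul]⟩
      · rintro ⟨g, hg⟩
        exact ⟨g⁻¹, by rw [← hg, inv_smul_smul]⟩)
  rw [Nat.card_congr e, Nat.card_eq_fintype_card, Nat.card_eq_fintype_card, ← hB]
  apply Finset.sum_congr rfl
  intro g _
  rw [Nat.card_eq_fintype_card]
  rfl

theorem card_subtype_sum {Z : Type*} [Fintype Z] (P : Z → Prop) [DecidablePred P] :
    Nat.card {z : Z // P z} = ∑ z : Z, if P z then 1 else 0 := by
  rw [Nat.card_eq_fintype_card, Fintype.card_subtype, Finset.card_filter]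

/-- The number of elements conjugating `x` to `a`. -/
theorem card_conj_to {H : Type*} [Group H] [Finite H] (a x : H) [Decidable (IsConj a x)] :
    Nat.card {k : H // k * x * k⁻¹ = a} =
      if IsConj a x then Nat.card (Subgroup.centralizer ({a} : Set H)) else 0 := by
  split_ifs with h
  · obtain ⟨k₀, hk₀⟩ := isConj_iff.mp h.symm
    apply Nat.card_congr
    refine ⟨fun k => ⟨k.1 * k₀⁻¹, ?_⟩, fun c => ⟨c.1 * k₀, ?_⟩, ?_, ?_⟩
    · rw [Subgroup.mem_centralizer_iff]
      intro b hb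
      rw [Set.mem_singleton_iff] at hb
      rw [hb]
      have hk := k.2
      calc a * (k.1 * k₀⁻¹) = (k.1 * x * k.1⁻¹) * (k.1 * k₀⁻¹) := by rw [hk]
        _ = (k.1 * k₀⁻¹) * (k₀ * x * k₀⁻¹) := by group
        _ = (k.1 * k₀⁻¹) * a := by rw [hk₀]
    · have hc := (Subgroup.mem_centralizer_iff.mp c.2) a (Set.mem_singleton a)
      calc c.1 * k₀ * x * (c.1 * k₀)⁻¹ = c.1 * (k₀ * x * k₀⁻¹) * c.1⁻¹ := by group
        _ = c.1 * a * c.1⁻¹ := by rw [hk₀]
        _ = a * c.1 * c.1⁻¹ := by rw [hc]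
        _ = a := by group
    · intro k
      apply Subtype.ext
      simp
    · intro c
      apply Subtype.ext
      simp
  · have : IsEmpty {k : H // k * x * k⁻¹ = a} :=
      ⟨fun k => h (isConj_iff.mpr ⟨k.1, k.2⟩).symm⟩
    rw [Nat.card_of_isEmpty]

end OrbitCount

section RealOrb

variable {G : Type u} [Group G] [Finite G] (K : Subgroup G) [K.Normal]

omit [Finite G] in
theorem tw_eq_iff (g : G) (θ η : IrrCharacter K) :
    tw K g η = θ ↔ ∀ n n' : K, (n' : G) = g * n * g⁻¹ → η.1 n' = θ.1 n := by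
  constructor
  · intro h n n' hn
    have h1 : n' = MulAut.conjNormal g n := by
      apply Subtype.ext
      rw [hn, MulAut.conjNormal_apply]
    rw [h1, ← tw_apply, h]
  · intro h
    apply Subtype.ext
    funext n
    rw [tw_apply]
    exact h n (MulAut.conjNormal g n) (MulAut.conjNormal_apply g n)

/-- Elements of `K` fix every irreducible character of `K`. -/
theorem tw_of_mem (θ : IrrCharacter K) (k : G) (hk : k ∈ K) : tw K k θ = θ := by
  apply Subtype.ext
  funext n
  rw [tw_apply]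
  have : MulAut.conjNormal k n = (⟨k, hk⟩ : K) * n * (⟨k, hk⟩ : K)⁻¹ := by
    apply Subtype.ext
    simp [MulAut.conjNormal_apply]
  rw [this]
  exact irr_conj_inv θ n ⟨k, hk⟩

/-- For `K` of odd index, `θ` is real and `g`-stable iff it is fixed by conjugate-twisting. -/
theorem real_fix_iff [Fintype K] (hodd : Odd K.index) (g : G) (θ : IrrCharacter K) :
    ((∀ k : K, (θ.1 k).im = 0) ∧ tw K g θ = θ) ↔
      Cfsg.Agent.Lib.Helper4.irrConj (tw K g θ) = θ := by
  constructor
  · rintro ⟨hr, hf⟩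
    rw [hf]
    exact (Cfsg.Agent.Lib.Helper4.irrConj_eq_self_iff θ).mpr hr
  · intro h
    have h1 : tw K g θ = Cfsg.Agent.Lib.Helper4.irrConj θ := by
      rw [← h, Cfsg.Agent.Lib.Helper4.irrConj_irrConj]
      rw [h]
    have hcomm : tw K g (Cfsg.Agent.Lib.Helper4.irrConj θ) =
        Cfsg.Agent.Lib.Helper4.irrConj (tw K g θ) := by
      apply Subtype.ext
      funext n
      rfl
    have h2 : g * g ∈ twStab K θ := by
      show tw K (g * g) θ = θ
      rw [tw_mul, h1, hcomm, h]
    have hstab : g ∈ twStab K θ := by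
      obtain ⟨t, ht⟩ := hodd
      have h3 : g ^ K.index ∈ twStab K θ := tw_of_mem K θ _ (Subgroup.pow_index_mem K g)
      have h4 : (g * g) ^ t ∈ twStab K θ := Subgroup.pow_mem _ h2 t
      have h5 : g = ((g * g) ^ t)⁻¹ * g ^ K.index := by
        rw [ht, pow_succ, pow_mul, pow_two, ← mul_assoc, inv_mul_cancel, one_mul]
      rw [h5]
      exact Subgroup.mul_mem _ (Subgroup.inv_mem _ h4) h3
    have h5 : tw K g θ = θ := hstab
    refine ⟨?_, h5⟩
    apply (Cfsg.Agent.Lib.Helper4.irrConj_eq_self_iff θ).mp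
    rw [← h1, h5]

/-- Orthogonality count of the characters fixed by a conjugate-twist. -/
theorem card_fix_ctw [Fintype K] (g : G) :
    Nat.card K * Nat.card {θ : IrrCharacter K // Cfsg.Agent.Lib.Helper4.irrConj (tw K g θ) = θ} =
      ∑ x : K, Nat.card {k : K // k * x * k⁻¹ = (MulAut.conjNormal g x)⁻¹} := by
  classical
  have : Finite (IrrCharacter K) := irr_finite
  letI := Fintype.ofFinite (IrrCharacter K)
  have key : ∑ θ : IrrCharacter K,
      (if Cfsg.Agent.Lib.Helper4.irrConj (tw K g θ) = θ then (Nat.card K : ℂ) else 0) =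
      ∑ x : K, (Nat.card {k : K // k * x * k⁻¹ = (MulAut.conjNormal g x)⁻¹} : ℂ) := by
    have h1 : ∀ θ : IrrCharacter K,
        (if Cfsg.Agent.Lib.Helper4.irrConj (tw K g θ) = θ then (Nat.card K : ℂ) else 0) =
        ∑ x : K, (Cfsg.Agent.Lib.Helper4.irrConj (tw K g θ)).1 x * conj (θ.1 x) := by
      intro θ
      rw [irr_row_orth]
    simp_rw [h1]
    rw [Finset.sum_comm]
    apply Finset.sum_congr rfl
    intro x _
    have h2 : ∀ θ : IrrCharacter K, (Cfsg.Agent.Lib.Helper4.irrConj (tw K g θ)).1 x =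
        θ.1 (MulAut.conjNormal g x)⁻¹ := by
      intro θ
      rw [irr_inv]
      rfl
    simp_rw [h2]
    rw [irr_col_orth, card_conj_to]
    split_ifs <;> simp
  rw [← Finset.sum_filter, Finset.sum_const, nsmul_eq_mul] at key
  rw [Nat.card_eq_fintype_card (α := {θ : IrrCharacter K // _}), Fintype.card_subtype]
  have key' : ((Nat.card K * (Finset.univ.filter (fun θ : IrrCharacter K =>
      Cfsg.Agent.Lib.Helper4.irrConj (tw K g θ) = θ)).card : ℕ) : ℂ) =
      ((∑ x : K, Nat.card {k : K // k * x * k⁻¹ = (MulAut.conjNormal g x)⁻¹} : ℕ) : ℂ) := by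
    push_cast
    rw [mul_comm]
    exact key
  exact_mod_cast key'

/-- Triple count: conjugators of `x` to the inverse of its `g`-conjugate. -/
theorem sum_conj_count [Fintype G] [Fintype K] :
    ∑ g : G, ∑ x : K, Nat.card {k : K // k * x * k⁻¹ = (MulAut.conjNormal g x)⁻¹} =
      Nat.card K * ∑ x : K, Nat.card {g : G // g * (x : G) * g⁻¹ = (x : G)⁻¹} := by
  classical
  have hc : Nat.card K = Fintype.card K := Nat.card_eq_fintype_card
  rw [hc]
  simp_rw [card_subtype_sum]
  rw [Finset.sum_comm, Finset.mul_sum]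
  apply Finset.sum_congr rfl
  intro x _
  rw [Finset.sum_comm]
  have hk : ∀ k : K, ∑ g : G, (if k * x * k⁻¹ = (MulAut.conjNormal g x)⁻¹ then 1 else 0) =
      ∑ g : G, (if g * (x : G) * g⁻¹ = (x : G)⁻¹ then 1 else 0) := by
    intro k
    rw [← Equiv.sum_comp (Equiv.mulLeft (k : G))]
    apply Finset.sum_congr rfl
    intro g _
    have hiff : (k * x * k⁻¹ = (MulAut.conjNormal ((Equiv.mulLeft (k : G)) g) x)⁻¹) ↔
        g * (x : G) * g⁻¹ = (x : G)⁻¹ := by
      rw [Subtype.ext_iff]
      simp only [Subgroup.coe_mul, Subgroup.coe_inv, MulAut.conjNormal_apply, Equiv.coe_mulLeft]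
      constructor
      · intro h
        have h' : (k : G) * g * x * ((k : G) * g)⁻¹ = ((k : G) * x * (k : G)⁻¹)⁻¹ := by
          rw [h, inv_inv]
        calc g * (x : G) * g⁻¹ = (k : G)⁻¹ * ((k : G) * g * x * ((k : G) * g)⁻¹) * k := by group
          _ = (k : G)⁻¹ * ((k : G) * x * (k : G)⁻¹)⁻¹ * k := by rw [h']
          _ = (x : G)⁻¹ := by group
      · intro h
        calc (k : G) * x * (k : G)⁻¹ = ((k : G) * (x : G)⁻¹ * (k : G)⁻¹)⁻¹ := by group
          _ = ((k : G) * (g * (x : G) * g⁻¹) * (k : G)⁻¹)⁻¹ := by rw [h]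
          _ = ((k : G) * g * x * ((k : G) * g)⁻¹)⁻¹ := by group
    simp only [hiff]
  simp_rw [hk]
  rw [Finset.sum_const, Finset.card_univ, smul_eq_mul]

omit [Finite G] in
theorem odd_pow_inverts (x g : G) (h : g * x * g⁻¹ = x⁻¹) (t : ℕ) :
    g ^ (2 * t + 1) * x * (g ^ (2 * t + 1))⁻¹ = x⁻¹ := by
  have hs : SemiconjBy g x x⁻¹ := by
    show g * x = x⁻¹ * g
    rw [← h]; group
  have hs2 : SemiconjBy (g * g) x x := by
    have h1 := hs.inv_right
    rw [inv_inv] at h1
    exact h1.mul_left hs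
  have hs3 : SemiconjBy (g ^ (2 * t + 1)) x x⁻¹ := by
    induction t with
    | zero => simpa using hs
    | succ t ih =>
      have e2 : 2 * (t + 1) + 1 = 2 * t + 1 + 2 := by ring
      have e : g ^ (2 * (t + 1) + 1) = g ^ (2 * t + 1) * (g * g) := by
        rw [e2, pow_add, pow_two]
      rw [e]
      exact ih.mul_left hs2
  have h2 : g ^ (2 * t + 1) * x = x⁻¹ * g ^ (2 * t + 1) := hs3
  rw [h2]; group

/-- For `K` of odd index, the elements of `G` inverting `x ∈ K`. -/
theorem card_inverting (hodd : Odd K.index) (x : K) [Decidable (IsConj x x⁻¹)] :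
    Nat.card {g : G // g * (x : G) * g⁻¹ = (x : G)⁻¹} =
      if IsConj x x⁻¹ then Nat.card {g : G // g * (x : G) * g⁻¹ = (x : G)} else 0 := by
  split_ifs with h
  · obtain ⟨k₀, hk₀⟩ := isConj_iff.mp h
    have hk : (k₀ : G) * x * (k₀ : G)⁻¹ = (x : G)⁻¹ := by
      have := congrArg Subtype.val hk₀
      simpa using this
    apply Nat.card_congr
    refine ⟨fun g => ⟨(k₀ : G)⁻¹ * g.1, ?_⟩, fun g => ⟨(k₀ : G) * g.1, ?_⟩, ?_, ?_⟩
    · have hg := g.2
      calc (k₀ : G)⁻¹ * g.1 * x * ((k₀ : G)⁻¹ * g.1)⁻¹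
          = (k₀ : G)⁻¹ * (g.1 * x * g.1⁻¹) * k₀ := by group
        _ = (k₀ : G)⁻¹ * ((k₀ : G) * x * (k₀ : G)⁻¹) * k₀ := by rw [hg, hk]
        _ = x := by group
    · have hg := g.2
      calc (k₀ : G) * g.1 * x * ((k₀ : G) * g.1)⁻¹
          = (k₀ : G) * (g.1 * x * g.1⁻¹) * (k₀ : G)⁻¹ := by group
        _ = (x : G)⁻¹ := by rw [hg, hk]
    · intro g; apply Subtype.ext; simp
    · intro g; apply Subtype.ext; simp
  · have : IsEmpty {g : G // g * (x : G) * g⁻¹ = (x : G)⁻¹} := by
      refine ⟨fun g => h ?_⟩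
      obtain ⟨t, ht⟩ := hodd
      have h1 := odd_pow_inverts (x : G) g.1 g.2 t
      rw [← ht] at h1
      have hmem : g.1 ^ K.index ∈ K := Subgroup.pow_index_mem K g.1
      exact isConj_iff.mpr ⟨⟨g.1 ^ K.index, hmem⟩, Subtype.ext (by simpa using h1)⟩
    rw [Nat.card_of_isEmpty]

/-- For `K` normal of odd index in `G`: as many `G`-orbits on real irreducible characters
of `K` as on real elements of `K`. -/
theorem real_orbits (hodd : Odd K.index) :
    Nat.card (Quot (fun θ η : {θ : IrrCharacter K // ∀ k : K, ((θ : K → ℂ) k).im = 0} =>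
      ∃ g : G, ∀ k k' : K, (k' : G) = g * (k : G) * g⁻¹ →
        (η.1 : K → ℂ) k' = (θ.1 : K → ℂ) k)) =
    Nat.card (Quot (fun x y : {x : K // IsConj x x⁻¹} =>
      ∃ g : G, (y.1 : G) = g * x.1 * g⁻¹)) := by
  classical
  letI := Fintype.ofFinite G
  letI := Fintype.ofFinite K
  have hfin : Finite (IrrCharacter K) := irr_finite
  have hGpos : 0 < Nat.card G := Nat.card_pos
  have hKpos : 0 < Nat.card K := Nat.card_pos
  -- the character side
  let actX : G → {θ : IrrCharacter K // ∀ k : K, ((θ : K → ℂ) k).im = 0} →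
      {θ : IrrCharacter K // ∀ k : K, ((θ : K → ℂ) k).im = 0} :=
    fun g θ => ⟨tw K g⁻¹ θ.1, fun k => θ.2 _⟩
  have hX := card_quot_mul_card actX
    (fun z => Subtype.ext (by simp only [actX, inv_one, tw_one]))
    (fun g h z => Subtype.ext (by simp only [actX, mul_inv_rev, tw_mul]))
  have eX : Quot (fun θ η : {θ : IrrCharacter K // ∀ k : K, ((θ : K → ℂ) k).im = 0} =>
      ∃ g : G, ∀ k k' : K, (k' : G) = g * (k : G) * g⁻¹ →
        (η.1 : K → ℂ) k' = (θ.1 : K → ℂ) k) ≃
      Quot (fun z w : {θ : IrrCharacter K // ∀ k : K, ((θ : K → ℂ) k).im = 0} =>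
        ∃ g : G, w = actX g z) :=
    Quot.congrRight (fun θ η => by
      apply exists_congr
      intro g
      rw [← tw_eq_iff K g θ.1 η.1]
      constructor
      · intro h
        apply Subtype.ext
        show η.1 = tw K g⁻¹ θ.1
        rw [← h, tw_inv_cancel]
      · intro h
        have h' : η.1 = tw K g⁻¹ θ.1 := congrArg Subtype.val h
        rw [h', tw_cancel_inv])
  have hXfix : ∀ g : G, Nat.card {z : {θ : IrrCharacter K // ∀ k : K, ((θ : K → ℂ) k).im = 0} //
      actX g z = z} =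
      Nat.card {θ : IrrCharacter K // Cfsg.Agent.Lib.Helper4.irrConj (tw K g⁻¹ θ) = θ} := by
    intro g
    apply Nat.card_congr
    refine ⟨fun z => ⟨z.1.1, (real_fix_iff K hodd g⁻¹ z.1.1).mp
        ⟨z.1.2, congrArg Subtype.val z.2⟩⟩,
      fun θ => ⟨⟨θ.1, ((real_fix_iff K hodd g⁻¹ θ.1).mpr θ.2).1⟩,
        Subtype.ext ((real_fix_iff K hodd g⁻¹ θ.1).mpr θ.2).2⟩, ?_, ?_⟩
    · intro z; rfl
    · intro θ; rfl
  have hX2 : Nat.card K * (Nat.card (Quot (fun z w :
      {θ : IrrCharacter K // ∀ k : K, ((θ : K → ℂ) k).im = 0} => ∃ g : G, w = actX g z)) *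
      Nat.card G) =
      Nat.card K * ∑ x : K, (if IsConj x x⁻¹ then
        Nat.card {g : G // g * (x : G) * g⁻¹ = (x : G)} else 0) := by
    rw [hX]
    simp_rw [hXfix]
    have hinv : ∑ g : G, Nat.card {θ : IrrCharacter K //
        Cfsg.Agent.Lib.Helper4.irrConj (tw K g⁻¹ θ) = θ} =
        ∑ g : G, Nat.card {θ : IrrCharacter K //
          Cfsg.Agent.Lib.Helper4.irrConj (tw K g θ) = θ} :=
      Fintype.sum_equiv (Equiv.inv G) _ _ (fun g => rfl)
    rw [hinv, Finset.mul_sum]
    simp_rw [card_fix_ctw]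
    rw [sum_conj_count]
    congr 1
    apply Finset.sum_congr rfl
    intro x _
    exact card_inverting K hodd x
  -- the class side
  let actY : G → {x : K // IsConj x x⁻¹} → {x : K // IsConj x x⁻¹} :=
    fun g x => ⟨MulAut.conjNormal g x.1, by
      obtain ⟨c, hc⟩ := isConj_iff.mp x.2
      refine isConj_iff.mpr ⟨MulAut.conjNormal g c, ?_⟩
      rw [← map_inv, ← map_mul, ← map_mul, hc, map_inv]⟩
  have hY := card_quot_mul_card actY
    (fun z => Subtype.ext (by simp only [actY, map_one, MulAut.one_apply]))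
    (fun g h z => Subtype.ext (by simp only [actY, map_mul, MulAut.mul_apply]))
  have eY : Quot (fun x y : {x : K // IsConj x x⁻¹} => ∃ g : G, (y.1 : G) = g * x.1 * g⁻¹) ≃
      Quot (fun z w : {x : K // IsConj x x⁻¹} => ∃ g : G, w = actY g z) :=
    Quot.congrRight (fun x y => by
      apply exists_congr
      intro g
      rw [Subtype.ext_iff, Subtype.ext_iff]
      simp only [actY, MulAut.conjNormal_apply])
  have hYfix : ∀ g : G, Nat.card {z : {x : K // IsConj x x⁻¹} // actY g z = z} =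
      ∑ x : K, (if IsConj x x⁻¹ ∧ g * (x : G) * g⁻¹ = (x : G) then 1 else 0) := by
    intro g
    rw [← card_subtype_sum]
    apply Nat.card_congr
    refine ⟨fun z => ⟨z.1.1, z.1.2, ?_⟩, fun x => ⟨⟨x.1, x.2.1⟩, ?_⟩, ?_, ?_⟩
    · have := congrArg (fun w : {x : K // IsConj x x⁻¹} => ((w.1 : K) : G)) z.2
      simpa only [actY, MulAut.conjNormal_apply] using this
    · apply Subtype.ext
      apply Subtype.ext
      simp only [actY, MulAut.conjNormal_apply]
      exact x.2.2
    · intro z; rfl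
    · intro x; rfl
  have hY2 : Nat.card (Quot (fun z w : {x : K // IsConj x x⁻¹} => ∃ g : G, w = actY g z)) *
      Nat.card G = ∑ x : K, (if IsConj x x⁻¹ then
        Nat.card {g : G // g * (x : G) * g⁻¹ = (x : G)} else 0) := by
    rw [hY]
    simp_rw [hYfix]
    rw [Finset.sum_comm]
    apply Finset.sum_congr rfl
    intro x _
    by_cases hx : IsConj x x⁻¹
    · simp only [hx, true_and, if_true]
      rw [card_subtype_sum]
    · simp only [hx, false_and, if_false, Finset.sum_const_zero]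
  rw [Nat.card_congr eX, Nat.card_congr eY]
  rw [← hY2] at hX2
  exact Nat.eq_of_mul_eq_mul_right hGpos (Nat.eq_of_mul_eq_mul_left hKpos hX2)

end RealOrb

end Cfsg.Agent.Lib.Helper84
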