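import Mathlib
import Cfsg.Agent.Lib.Helper84.RealOrb
import Cfsg.Agent.Lib.Helper84.CliffInd
import Cfsg.Agent.Lib.Helper79.FSCount

set_option autoImplicit false

namespace Cfsg.Agent.Lib.Helper84

open Cfsg
open scoped ComplexConjugate

universe u

section RealOver

variable {G : Type u} [Group G] [Fintype G] (N : Subgroup G) [hN : N.Normal] [Fintype N]

omit hN in
/-- A sum over `G` of a function vanishing off `N`. -/
theorem sum_eq_sum_subgroup {M : Type*} [AddCommMonoid M] (F : G → M)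
    (h : ∀ g : G, g ∉ N → F g = 0) : ∑ g : G, F g = ∑ n : N, F n := by
  classical
  rw [← Finset.sum_subtype (Finset.univ.filter (fun g : G => g ∈ N)) (by simp) F]
  rw [Finset.sum_filter]
  apply Finset.sum_congr rfl
  intro g _
  split_ifs with hg
  · rfl
  · exact h g hg

omit [Fintype G] [Fintype N] in
theorem mem_of_sq_mem (hodd : Odd N.index) (g : G) (h : g * g ∈ N) : g ∈ N := by
  obtain ⟨t, ht⟩ := hodd
  have h3 : g ^ N.index ∈ N := Subgroup.pow_index_mem N g
  have h4 : (g * g) ^ t ∈ N := Subgroup.pow_mem _ h t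
  have h5 : g = ((g * g) ^ t)⁻¹ * g ^ N.index := by
    rw [ht, pow_succ, pow_mul, pow_two, ← mul_assoc, inv_mul_cancel, one_mul]
  rw [h5]
  exact Subgroup.mul_mem _ (Subgroup.inv_mem _ h4) h3

omit [Fintype G] [Fintype N] in
theorem mem_of_inverted (hodd : Odd N.index) (x k : G) (h : k * x * k⁻¹ = x⁻¹) : x ∈ N := by
  obtain ⟨t, ht⟩ := hodd
  have h1 := odd_pow_inverts x k h t
  rw [← ht] at h1
  have hc : k ^ N.index ∈ N := Subgroup.pow_index_mem N k
  apply mem_of_sq_mem N ⟨t, ht⟩
  generalize k ^ N.index = c at h1 hc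
  have h2 : c * (x * c⁻¹ * x⁻¹) = x⁻¹ * x⁻¹ := by
    calc c * (x * c⁻¹ * x⁻¹) = (c * x * c⁻¹) * x⁻¹ := by group
      _ = x⁻¹ * x⁻¹ := by rw [h1]
  have h3 : x⁻¹ * x⁻¹ ∈ N := by
    rw [← h2]
    exact N.mul_mem hc (hN.conj_mem _ (N.inv_mem hc) x)
  have h4 := N.inv_mem h3
  simpa using h4

/-- Odd index: the Frobenius–Schur indicator is preserved by induction. -/
theorem fsInd_indFun (hodd : Odd N.index) (θ : N → ℂ) :
    Helper79.fsInd (indFun N θ) = Helper79.fsInd θ := by
  unfold Helper79.fsInd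
  have hG : (Nat.card G : ℂ) ≠ 0 := by exact_mod_cast (Nat.card_pos (α := G)).ne'
  have hNc : (Nat.card N : ℂ) ≠ 0 := by exact_mod_cast (Nat.card_pos (α := N)).ne'
  have h1 : ∑ s : G, indFun N θ (s * s) = ∑ n : N, indFun N θ ((n : G) * (n : G)) :=
    sum_eq_sum_subgroup N (fun s => indFun N θ (s * s)) (fun g hg =>
      Helper20.indFun_normal_of_not_mem N θ (g * g) (fun h => hg (mem_of_sq_mem N hodd g h)))
  have h2 : ∀ n : N, indFun N θ ((n : G) * (n : G)) =
      (Nat.card N : ℂ)⁻¹ * ∑ x : G, Helper20.conjFun N θ x (n * n) :=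
    fun n => Helper20.indFun_normal_apply N θ (n * n)
  have h3 : ∀ x : G, ∑ n : N, Helper20.conjFun N θ x (n * n) = ∑ n : N, θ (n * n) := by
    intro x
    rw [← Equiv.sum_comp (MulAut.conjNormal x : N ≃* N).toEquiv (fun n => θ (n * n))]
    apply Finset.sum_congr rfl
    intro n _
    rw [Helper20.conjFun_apply]
    congr 1
    apply Subtype.ext
    simp [MulAut.conjNormal_apply]
  rw [h1]
  simp_rw [h2]
  rw [← Finset.mul_sum, Finset.sum_comm]
  simp_rw [h3]
  rw [Finset.sum_const, Finset.card_univ, nsmul_eq_mul, ← Nat.card_eq_fintype_card]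
  field_simp

omit hN [Fintype N] in
/-- The indicator is linear in the expansion into irreducible characters. -/
theorem fsInd_expansion [Fintype (IrrCharacter G)] (ψ : G → ℂ) (hψ : IsClassFunction G ψ) :
    Helper79.fsInd ψ = ∑ χ : IrrCharacter G, classInner ψ χ.1 * Helper79.fsInd χ.1 := by
  have h := Helper4.classFunction_expansion ψ hψ
  unfold Helper79.fsInd
  have h1 : ∀ s : G, ψ (s * s) = ∑ χ : IrrCharacter G, classInner ψ χ.1 * χ.1 (s * s) := by
    intro s
    have h2 := congrFun h (s * s)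
    rw [h2]
    simp only [Finset.sum_apply, Pi.smul_apply, smul_eq_mul]
  calc (Nat.card G : ℂ)⁻¹ * ∑ s : G, ψ (s * s)
      = (Nat.card G : ℂ)⁻¹ * ∑ s : G, ∑ χ : IrrCharacter G, classInner ψ χ.1 * χ.1 (s * s) := by
        congr 1
        exact Finset.sum_congr rfl (fun s _ => h1 s)
    _ = ∑ χ : IrrCharacter G, classInner ψ χ.1 * ((Nat.card G : ℂ)⁻¹ * ∑ s : G, χ.1 (s * s)) := by
        rw [Finset.sum_comm, Finset.mul_sum]
        apply Finset.sum_congr rfl
        intro χ _
        rw [← Finset.mul_sum]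
        ring

/-- Multiplicities of the irreducible constituents of an induced character, weighted by
indicators. -/
theorem exists_mult_fsSign [Fintype (IrrCharacter G)] (hodd : Odd N.index)
    (θ : IrrCharacter N) :
    ∃ m : IrrCharacter G → ℕ, (∀ χ : IrrCharacter G, classInner (indFun N θ.1) χ.1 = m χ) ∧
      ∑ χ : IrrCharacter G, (m χ : ℤ) * Helper79.fsSign χ = Helper79.fsSign θ := by
  have hch : IsCharacter G (indFun N θ.1) :=
    Helper35.isCharacter_indFun N (Helper35.isChar_of_irr θ.2)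
  have hex : ∀ χ : IrrCharacter G, ∃ k : ℕ, classInner (indFun N θ.1) χ.1 = k :=
    fun χ => Helper35.classInner_char_nat hch (Helper35.isChar_of_irr χ.2)
  choose m hm using hex
  refine ⟨m, hm, ?_⟩
  have h1 := fsInd_expansion (indFun N θ.1) (Helper35.isClassFunction_indFun N θ.1)
  rw [fsInd_indFun N hodd θ.1, Helper79.fsSign_spec θ] at h1
  have h2 : ((Helper79.fsSign θ : ℤ) : ℂ) =
      ((∑ χ : IrrCharacter G, (m χ : ℤ) * Helper79.fsSign χ : ℤ) : ℂ) := by
    rw [h1]
    push_cast
    apply Finset.sum_congr rfl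
    intro χ _
    rw [hm χ, Helper79.fsSign_spec χ]
  exact_mod_cast h2.symm

/-- Count of the real-valued irreducible characters. -/
theorem card_real_irr :
    Nat.card G * Nat.card {χ : IrrCharacter G // Helper4.irrConj χ = χ} =
      ∑ x : G, Nat.card {k : G // k * x * k⁻¹ = x⁻¹} := by
  classical
  have : Finite (IrrCharacter G) := irr_finite
  letI := Fintype.ofFinite (IrrCharacter G)
  have key : ∑ χ : IrrCharacter G,
      (if Helper4.irrConj χ = χ then (Nat.card G : ℂ) else 0) =
      ∑ x : G, (Nat.card {k : G // k * x * k⁻¹ = x⁻¹} : ℂ) := by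
    have h1 : ∀ χ : IrrCharacter G,
        (if Helper4.irrConj χ = χ then (Nat.card G : ℂ) else 0) =
        ∑ x : G, (Helper4.irrConj χ).1 x * conj (χ.1 x) := by
      intro χ
      rw [irr_row_orth]
    simp_rw [h1]
    rw [Finset.sum_comm]
    apply Finset.sum_congr rfl
    intro x _
    have h2 : ∀ χ : IrrCharacter G, (Helper4.irrConj χ).1 x = χ.1 x⁻¹ := by
      intro χ
      rw [irr_inv]
      rfl
    simp_rw [h2]
    rw [irr_col_orth, card_conj_to]
    split_ifs <;> simp
  rw [← Finset.sum_filter, Finset.sum_const, nsmul_eq_mul] at key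
  rw [Nat.card_eq_fintype_card (α := {χ : IrrCharacter G // _}), Fintype.card_subtype]
  have key' : ((Nat.card G * (Finset.univ.filter (fun χ : IrrCharacter G =>
      Helper4.irrConj χ = χ)).card : ℕ) : ℂ) =
      ((∑ x : G, Nat.card {k : G // k * x * k⁻¹ = x⁻¹} : ℕ) : ℂ) := by
    push_cast
    rw [mul_comm]
    exact key
  exact_mod_cast key'

/-- Orbit count for the action of `G` on the real irreducible characters of `N`. -/
theorem card_real_orbits (hodd : Odd N.index) :
    Nat.card (Quot (fun z w : {θ : IrrCharacter N // ∀ k : N, ((θ : N → ℂ) k).im = 0} =>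
      ∃ g : G, w.1 = tw N g⁻¹ z.1)) * Nat.card G =
      ∑ x : N, Nat.card {g : G // g * (x : G) * g⁻¹ = (x : G)⁻¹} := by
  classical
  have hfin : Finite (IrrCharacter N) := irr_finite
  have hKpos : 0 < Nat.card N := Nat.card_pos
  let actX : G → {θ : IrrCharacter N // ∀ k : N, ((θ : N → ℂ) k).im = 0} →
      {θ : IrrCharacter N // ∀ k : N, ((θ : N → ℂ) k).im = 0} :=
    fun g θ => ⟨tw N g⁻¹ θ.1, fun k => θ.2 _⟩
  have hX := card_quot_mul_card actX
    (fun z => Subtype.ext (by simp only [actX, inv_one, tw_one]))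
    (fun g h z => Subtype.ext (by simp only [actX, mul_inv_rev, tw_mul]))
  have eX : Quot (fun z w : {θ : IrrCharacter N // ∀ k : N, ((θ : N → ℂ) k).im = 0} =>
      ∃ g : G, w.1 = tw N g⁻¹ z.1) ≃
      Quot (fun z w : {θ : IrrCharacter N // ∀ k : N, ((θ : N → ℂ) k).im = 0} =>
        ∃ g : G, w = actX g z) :=
    Quot.congrRight (fun θ η => by
      apply exists_congr
      intro g
      exact ⟨fun h => Subtype.ext h, fun h => congrArg Subtype.val h⟩)
  have hXfix : ∀ g : G, Nat.card {z : {θ : IrrCharacter N // ∀ k : N, ((θ : N → ℂ) k).im = 0} //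
      actX g z = z} =
      Nat.card {θ : IrrCharacter N // Helper4.irrConj (tw N g⁻¹ θ) = θ} := by
    intro g
    apply Nat.card_congr
    refine ⟨fun z => ⟨z.1.1, (real_fix_iff N hodd g⁻¹ z.1.1).mp
        ⟨z.1.2, congrArg Subtype.val z.2⟩⟩,
      fun θ => ⟨⟨θ.1, ((real_fix_iff N hodd g⁻¹ θ.1).mpr θ.2).1⟩,
        Subtype.ext ((real_fix_iff N hodd g⁻¹ θ.1).mpr θ.2).2⟩, ?_, ?_⟩
    · intro z; rfl
    · intro θ; rfl
  have hX2 : Nat.card N * (Nat.card (Quot (fun z w :
      {θ : IrrCharacter N // ∀ k : N, ((θ : N → ℂ) k).im = 0} => ∃ g : G, w = actX g z)) *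
      Nat.card G) =
      Nat.card N * ∑ x : N, Nat.card {g : G // g * (x : G) * g⁻¹ = (x : G)⁻¹} := by
    rw [hX]
    simp_rw [hXfix]
    have hinv : ∑ g : G, Nat.card {θ : IrrCharacter N //
        Helper4.irrConj (tw N g⁻¹ θ) = θ} =
        ∑ g : G, Nat.card {θ : IrrCharacter N //
          Helper4.irrConj (tw N g θ) = θ} :=
      Fintype.sum_equiv (Equiv.inv G) _ _ (fun g => rfl)
    rw [hinv, Finset.mul_sum]
    simp_rw [card_fix_ctw]
    rw [sum_conj_count]
  rw [Nat.card_congr eX]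
  exact Nat.eq_of_mul_eq_mul_left hKpos hX2

/-- Odd index: as many real irreducible characters of `G` as `G`-orbits of real irreducible
characters of `N`. -/
theorem card_real_irr_eq (hodd : Odd N.index) :
    Nat.card {χ : IrrCharacter G // Helper4.irrConj χ = χ} =
      Nat.card (Quot (fun z w : {θ : IrrCharacter N // ∀ k : N, ((θ : N → ℂ) k).im = 0} =>
        ∃ g : G, w.1 = tw N g⁻¹ z.1)) := by
  have hGpos : 0 < Nat.card G := Nat.card_pos
  have h1 := card_real_irr (G := G)
  have h2 := card_real_orbits N hodd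
  have h3 : ∑ x : G, Nat.card {k : G // k * x * k⁻¹ = x⁻¹} =
      ∑ x : N, Nat.card {g : G // g * (x : G) * g⁻¹ = (x : G)⁻¹} :=
    sum_eq_sum_subgroup N (fun x => Nat.card {k : G // k * x * k⁻¹ = x⁻¹}) (fun x hx => by
      have : IsEmpty {k : G // k * x * k⁻¹ = x⁻¹} :=
        ⟨fun k => hx (mem_of_inverted N hodd x k.1 k.2)⟩
      exact Nat.card_of_isEmpty)
  rw [h3, ← h2, mul_comm] at h1
  exact Nat.eq_of_mul_eq_mul_right hGpos h1

omit [Fintype G] [Fintype N] in
theorem tw_val (x : G) (θ : IrrCharacter N) : (tw N x θ).1 = Helper20.conjFun N θ.1 x := by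
  funext n
  rw [tw_apply, Helper20.conjFun_apply]
  congr 1

omit hN in
/-- Every irreducible character of `G` has an irreducible constituent on `N`. -/
theorem exists_constituent (χ : IrrCharacter G) :
    ∃ θ : IrrCharacter N, classInner (fun n : N => χ.1 n) θ.1 ≠ 0 := by
  classical
  have hfin : Finite (IrrCharacter N) := irr_finite
  letI := Fintype.ofFinite (IrrCharacter N)
  by_contra hcon
  push Not at hcon
  have hcf : IsClassFunction N (fun n : N => χ.1 n) :=
    Helper35.isClassFunction_res N (Helper4.isClassFunction_irr χ)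
  have h := Helper4.classFunction_expansion (fun n : N => χ.1 n) hcf
  have h1 := congrFun h 1
  simp only [hcon, zero_smul, Finset.sum_const_zero, Pi.zero_apply] at h1
  have h2 := irr_one χ
  have h3 := irr_degree_pos χ
  rw [show ((1 : N) : G) = 1 from rfl, h2] at h1
  have : (charDegree χ.1 : ℂ) ≠ 0 := by exact_mod_cast h3.ne'
  exact this h1

/-- Odd index: a real irreducible character of `G` has a real irreducible constituent. -/
theorem exists_real_constituent (hodd : Odd N.index) (χ : IrrCharacter G)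
    (hχ : Helper4.irrConj χ = χ) :
    ∃ θ : {θ : IrrCharacter N // ∀ k : N, ((θ : N → ℂ) k).im = 0},
      classInner (fun n : N => χ.1 n) θ.1.1 ≠ 0 := by
  obtain ⟨θ, hθ⟩ := exists_constituent N χ
  have hreal : (fun n : N => conj (χ.1 n)) = fun n : N => χ.1 n := by
    funext n
    exact congrFun (congrArg Subtype.val hχ) n
  have h1 : classInner (fun n : N => χ.1 n) (Helper4.irrConj θ).1 ≠ 0 := by
    have h2 := Helper4.classInner_conj_conj (fun n : N => χ.1 n) θ.1
    rw [hreal] at h2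
    have h3 : (Helper4.irrConj θ).1 = fun g => conj (θ.1 g) := rfl
    rw [h3, h2]
    intro h4
    apply hθ
    have := congrArg (starRingEnd ℂ) h4
    simpa using this
  obtain ⟨x, hx⟩ := Helper20.clifford_conj N θ.2 χ.2 hθ (Helper4.irrConj θ).2 h1
  have h5 : Helper4.irrConj θ = tw N x θ := Subtype.ext (by rw [hx, tw_val])
  have h6 : Helper4.irrConj (tw N x θ) = θ := by
    rw [← h5, Helper4.irrConj_irrConj]
  exact ⟨⟨θ, ((real_fix_iff N hodd x θ).mpr h6).1⟩, hθ⟩

/-- Odd index: a real irreducible character of `N` lies under at most one real irreducible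
character of `G`, and under at least one. -/
theorem real_over_unique (hodd : Odd N.index) (φ : IrrCharacter N)
    (hφ : ∀ k : N, ((φ : N → ℂ) k).im = 0) (χ₁ χ₂ : IrrCharacter G)
    (h₁ : Helper4.irrConj χ₁ = χ₁) (h₂ : Helper4.irrConj χ₂ = χ₂)
    (hc₁ : classInner (fun n : N => χ₁.1 n) φ.1 ≠ 0)
    (hc₂ : classInner (fun n : N => χ₂.1 n) φ.1 ≠ 0) : χ₁ = χ₂ := by
  classical
  have hfinG : Finite (IrrCharacter G) := irr_finite
  letI := Fintype.ofFinite (IrrCharacter G)
  have hfinN : Finite (IrrCharacter N) := irr_finite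
  let R : {θ : IrrCharacter N // ∀ k : N, ((θ : N → ℂ) k).im = 0} →
      {θ : IrrCharacter N // ∀ k : N, ((θ : N → ℂ) k).im = 0} → Prop :=
    fun z w => ∃ g : G, w.1 = tw N g⁻¹ z.1
  have hex : ∀ χ : {χ : IrrCharacter G // Helper4.irrConj χ = χ},
      ∃ θ : {θ : IrrCharacter N // ∀ k : N, ((θ : N → ℂ) k).im = 0},
        classInner (fun n : N => χ.1.1 n) θ.1.1 ≠ 0 :=
    fun χ => exists_real_constituent N hodd χ.1 χ.2
  choose c hc using hex
  let Φ : {χ : IrrCharacter G // Helper4.irrConj χ = χ} → Quot R := fun χ => Quot.mk R (c χ)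
  -- the class of any real constituent
  have hΦ : ∀ (χ : {χ : IrrCharacter G // Helper4.irrConj χ = χ})
      (θ : {θ : IrrCharacter N // ∀ k : N, ((θ : N → ℂ) k).im = 0}),
      classInner (fun n : N => χ.1.1 n) θ.1.1 ≠ 0 → Φ χ = Quot.mk R θ := by
    intro χ θ hθ
    apply Quot.sound
    obtain ⟨x, hx⟩ := Helper20.clifford_conj N (c χ).1.2 χ.1.2 (hc χ) θ.1.2 hθ
    refine ⟨x⁻¹, ?_⟩
    rw [inv_inv]
    exact Subtype.ext (by rw [hx, tw_val])
  have hsurj : Function.Surjective Φ := by
    intro q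
    induction q using Quot.inductionOn with
    | _ θ =>
      obtain ⟨m, hm, hsum⟩ := exists_mult_fsSign N hodd θ.1
      have hne : Helper79.fsSign θ.1 ≠ 0 := (Helper79.fsSign_ne_zero_iff θ.1).mpr θ.2
      have hex2 : ∃ χ : IrrCharacter G, m χ ≠ 0 ∧ Helper79.fsSign χ ≠ 0 := by
        by_contra hcon
        push Not at hcon
        apply hne
        rw [← hsum]
        apply Finset.sum_eq_zero
        intro χ _
        by_cases hmχ : m χ = 0
        · rw [hmχ]; simp
        · rw [hcon χ hmχ]; simp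
      obtain ⟨χ, hmχ, hsχ⟩ := hex2
      have hχreal : Helper4.irrConj χ = χ :=
        (Helper4.irrConj_eq_self_iff χ).mpr ((Helper79.fsSign_ne_zero_iff χ).mp hsχ)
      refine ⟨⟨χ, hχreal⟩, ?_⟩
      apply hΦ
      have h1 := hm χ
      rw [Helper35.frobenius_reciprocity N θ.1.1 χ.1 (Helper4.isClassFunction_irr χ)] at h1
      rw [Helper4.classInner_conj_symm]
      show (starRingEnd ℂ) (classInner θ.1.1 (Helper35.res N χ.1)) ≠ 0
      rw [h1]
      simp only [map_natCast]
      exact_mod_cast hmχ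
  have hcard := card_real_irr_eq N hodd
  have hbij : Function.Bijective Φ :=
    hsurj.bijective_of_nat_card_le (le_of_eq hcard)
  have e1 := hΦ ⟨χ₁, h₁⟩ ⟨φ, hφ⟩ hc₁
  have e2 := hΦ ⟨χ₂, h₂⟩ ⟨φ, hφ⟩ hc₂
  have := hbij.1 (e1.trans e2.symm)
  exact congrArg Subtype.val this

end RealOver

/-- For `N ⊴ G` of odd index, every irreducible character of `N` with indicator `+1` lies under
exactly one irreducible character of `G` with indicator `+1`. -/
theorem strongly_real_over {G : Type u} [Group G] [Finite G] (N : Subgroup G) [N.Normal]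
    (hodd : Odd N.index) (φ : IrrCharacter N)
    (hφ : (Nat.card N : ℂ)⁻¹ * ∑ᶠ g : N, (φ : N → ℂ) (g * g) = 1) :
    ∃! χ : IrrCharacter G, (Nat.card G : ℂ)⁻¹ * ∑ᶠ g : G, (χ : G → ℂ) (g * g) = 1 ∧
      (∑ᶠ n : N, (χ : G → ℂ) n * (starRingEnd ℂ) ((φ : N → ℂ) n)) ≠ 0 := by
  classical
  letI := Fintype.ofFinite G
  letI := Fintype.ofFinite N
  have hfinG : Finite (IrrCharacter G) := irr_finite
  letI := Fintype.ofFinite (IrrCharacter G)
  have hNc : (Nat.card N : ℂ) ≠ 0 := by exact_mod_cast (Nat.card_pos (α := N)).ne'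
  rw [finsum_eq_sum_of_fintype] at hφ
  have hφ' : Helper79.fsInd φ.1 = 1 := hφ
  have hφs : Helper79.fsSign φ = 1 := by
    have := Helper79.fsSign_spec φ
    rw [hφ'] at this
    exact_mod_cast this.symm
  have hφreal : ∀ k : N, ((φ : N → ℂ) k).im = 0 :=
    (Helper79.fsSign_ne_zero_iff φ).mp (by rw [hφs]; exact one_ne_zero)
  -- reformulations
  have hfs : ∀ χ : IrrCharacter G, ((Nat.card G : ℂ)⁻¹ * ∑ᶠ g : G, (χ : G → ℂ) (g * g) = 1) ↔
      Helper79.fsSign χ = 1 := by
    intro χ
    rw [finsum_eq_sum_of_fintype]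
    have := Helper79.fsSign_spec χ
    constructor
    · intro h
      have h' : Helper79.fsInd χ.1 = 1 := h
      rw [h'] at this
      exact_mod_cast this.symm
    · intro h
      show Helper79.fsInd χ.1 = 1
      rw [this, h]
      simp
  have hcon : ∀ χ : IrrCharacter G,
      ((∑ᶠ n : N, (χ : G → ℂ) n * (starRingEnd ℂ) ((φ : N → ℂ) n)) ≠ 0) ↔
      classInner (fun n : N => χ.1 n) φ.1 ≠ 0 := by
    intro χ
    rw [finsum_eq_sum_of_fintype]
    unfold classInner
    constructor
    · intro h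
      exact mul_ne_zero (inv_ne_zero hNc) h
    · intro h h0
      apply h
      rw [h0, mul_zero]
  -- existence
  obtain ⟨m, hm, hsum⟩ := exists_mult_fsSign N hodd φ
  rw [hφs] at hsum
  have hex : ∃ χ : IrrCharacter G, m χ ≠ 0 ∧ Helper79.fsSign χ = 1 := by
    by_contra hcon2
    push Not at hcon2
    have hle : ∑ χ : IrrCharacter G, (m χ : ℤ) * Helper79.fsSign χ ≤ 0 := by
      apply Finset.sum_nonpos
      intro χ _
      by_cases hmχ : m χ = 0
      · rw [hmχ]; simp
      · have h1 := hcon2 χ hmχ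
        rcases Helper79.fsSign_cases χ with h | h | h
        · rw [h]; simp
        · exact absurd h h1
        · rw [h]
          have : (0 : ℤ) ≤ (m χ : ℤ) := Int.natCast_nonneg _
          linarith
    rw [hsum] at hle
    exact absurd hle (by norm_num)
  obtain ⟨χ, hmχ, hsχ⟩ := hex
  have hover : ∀ χ : IrrCharacter G, m χ ≠ 0 → classInner (fun n : N => χ.1 n) φ.1 ≠ 0 := by
    intro χ hmχ
    have h1 := hm χ
    rw [Helper35.frobenius_reciprocity N φ.1 χ.1 (Helper4.isClassFunction_irr χ)] at h1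
    rw [Helper4.classInner_conj_symm]
    show (starRingEnd ℂ) (classInner φ.1 (Helper35.res N χ.1)) ≠ 0
    rw [h1]
    simp only [map_natCast]
    exact_mod_cast hmχ
  refine ⟨χ, ⟨(hfs χ).mpr hsχ, (hcon χ).mpr (hover χ hmχ)⟩, ?_⟩
  rintro χ' ⟨h1, h2⟩
  have hs' := (hfs χ').mp h1
  have hr' : Helper4.irrConj χ' = χ' :=
    (Helper4.irrConj_eq_self_iff χ').mpr
      ((Helper79.fsSign_ne_zero_iff χ').mp (by rw [hs']; exact one_ne_zero))
  have hr : Helper4.irrConj χ = χ :=
    (Helper4.irrConj_eq_self_iff χ).mpr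
      ((Helper79.fsSign_ne_zero_iff χ).mp (by rw [hsχ]; exact one_ne_zero))
  exact real_over_unique N hodd φ hφreal χ' χ hr' hr ((hcon χ').mp h2) (hover χ hmχ)

end Cfsg.Agent.Lib.Helper84
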