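import Mathlib
import Cfsg.Agent.Lib.Helper50.SU4Q3Def
import Cfsg.Agent.Lib.Helper71.Asch5

/-!
# Project SU4 (helper50, S5784): sub-piece Q3FRAME (helper84)

For `q = 3` a nondegenerate 1-decomposition of `F^4` is the image of the standard frame under a
unitary matrix.
-/

set_option autoImplicit false

namespace Cfsg.Agent.Lib.Helper84.SU4Q3FRAME

open Matrix Cfsg.Geo Cfsg.Agent.Lib.Helper71.Asch Cfsg.Agent.Lib.Helper50.SU4Q3Def

variable {F : Type*} [Field F] [Fintype F] {q : ℕ}

/-- the field with nine elements has characteristic three -/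
theorem su4q3frame_char (hF : Fintype.card F = 9) : CharP F 3 := by
  obtain ⟨p, hp⟩ := CharP.exists F
  have h9 : ((9 : ℕ) : F) = 0 := by
    rw [← hF]; exact Nat.cast_card_eq_zero F
  have h3 : ((3 : ℕ) : F) = 0 := by
    have e : ((3 : ℕ) : F) * ((3 : ℕ) : F) = 0 := by
      rw [← Nat.cast_mul]; exact h9
    rcases mul_eq_zero.1 e with h | h <;> exact h
  have hdvd : p ∣ 3 := (CharP.cast_eq_zero_iff F p 3).1 h3
  have hp1 : p ≠ 1 := CharP.char_ne_one F p
  have hp3 : p = 3 := by
    rcases (Nat.dvd_prime Nat.prime_three).1 hdvd with h | h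
    · exact absurd h hp1
    · exact h
  rw [← hp3]; exact hp

/-- an element of norm `-1` -/
theorem su4q3frame_mu (hF : Fintype.card F = 9) : ∃ μ : F, μ ^ 4 = -1 := by
  classical
  obtain ⟨g, hg⟩ := IsCyclic.exists_generator (α := Fˣ)
  have hord : orderOf g = 8 := by
    rw [orderOf_eq_card_of_forall_mem_zpowers hg, Nat.card_eq_fintype_card, Fintype.card_units, hF]
  refine ⟨(g : F), ?_⟩
  have h8 : (g : F) ^ 8 = 1 := by
    have h := pow_orderOf_eq_one g
    rw [hord] at h
    have h' := congrArg Units.val h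
    simpa using h'
  have h4 : (g : F) ^ 4 ≠ 1 := by
    intro h
    have h' : g ^ 4 = 1 := Units.ext (by simpa using h)
    have h'' := orderOf_dvd_of_pow_eq_one h'
    rw [hord] at h''
    omega
  have hm : ((g : F) ^ 4 - 1) * ((g : F) ^ 4 + 1) = 0 := by linear_combination h8
  rcases mul_eq_zero.1 hm with h | h
  · exact absurd (sub_eq_zero.1 h) h4
  · exact eq_neg_of_add_eq_zero_left h

/-- Q3FRAME: for `q = 3` an orthogonal frame is the image of the standard frame under a unitary
matrix. -/
theorem Q3FRAME (hF : Fintype.card F = q ^ 2) (hq : q = 3) (D : Fin 4 → Submodule F (Fin 4 → F))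
    (hD : IsNondegenerateMDecomposition (Cfsg.hermForm 4 F q) 1 D) :
    ∃ g : GL (Fin 4) F, g ∈ Cfsg.GU 4 F q ∧
      ∀ j, D j = Submodule.span F {g.1 *ᵥ (Pi.single j 1 : Fin 4 → F)} := by
  subst hq
  have hF9 : Fintype.card F = 9 := by rw [hF]; norm_num
  have hprime : Fact (Nat.Prime 3) := ⟨Nat.prime_three⟩
  have hchar : CharP F 3 := su4q3frame_char hF9
  have h9 : ∀ x : F, x ^ 9 = x := fun x => by
    have h := FiniteField.pow_card x
    rw [hF9] at h
    exact h
  obtain ⟨μ, hμ⟩ := su4q3frame_mu hF9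
  have hμ0 : μ ≠ 0 := by
    rintro rfl
    have h0 : (0 : F) = -1 := by simpa using hμ
    have h1 : (1 : F) = 0 := by linear_combination h0
    exact one_ne_zero h1
  have key : ∀ j, ∃ e : Fin 4 → F, D j = Submodule.span F {e} ∧ Cfsg.hermForm 4 F 3 e e = 1 := by
    intro j
    have hfr := hD.decomp.finrank_eq j
    obtain ⟨⟨d, hdD⟩, hd0, hdspan⟩ := finrank_eq_one_iff'.1 hfr
    have hd0' : d ≠ 0 := fun h0 => hd0 (Subtype.ext h0)
    have hspan : D j = Submodule.span F {d} := by
      apply le_antisymm
      · intro w hw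
        obtain ⟨c, hc⟩ := hdspan ⟨w, hw⟩
        rw [Submodule.mem_span_singleton]
        exact ⟨c, congrArg Subtype.val hc⟩
      · rw [Submodule.span_singleton_le_iff_mem]; exact hdD
    obtain ⟨⟨x, hxD, hx⟩, -⟩ := hD.nondegenerate j d hdD hd0'
    obtain ⟨a, ha⟩ := hdspan ⟨x, hxD⟩
    have hxa : x = a • d := (congrArg Subtype.val ha).symm
    have hsm : ∀ (b : F), Cfsg.hermForm 4 F 3 (b • d) d = b * Cfsg.hermForm 4 F 3 d d := by
      intro b
      unfold Cfsg.hermForm
      rw [Finset.mul_sum]
      apply Finset.sum_congr rfl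
      intro i _
      simp only [Pi.smul_apply, smul_eq_mul]
      ring
    have hc0 : Cfsg.hermForm 4 F 3 d d ≠ 0 := by
      intro h0
      apply hx
      rw [hxa, hsm, h0, mul_zero]
    have hc3 : (Cfsg.hermForm 4 F 3 d d) ^ 3 = Cfsg.hermForm 4 F 3 d d := by
      unfold Cfsg.hermForm
      rw [sum_pow_char]
      apply Finset.sum_congr rfl
      intro i _
      rw [mul_pow, ← pow_mul, h9]
      ring
    have hc2 : (Cfsg.hermForm 4 F 3 d d - 1) * (Cfsg.hermForm 4 F 3 d d + 1) = 0 := by
      have h := mul_left_cancel₀ hc0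
        (show Cfsg.hermForm 4 F 3 d d * (Cfsg.hermForm 4 F 3 d d) ^ 2
          = Cfsg.hermForm 4 F 3 d d * 1 by linear_combination hc3)
      linear_combination h
    rcases mul_eq_zero.1 hc2 with h | h
    · exact ⟨d, hspan, sub_eq_zero.1 h⟩
    · refine ⟨μ • d, ?_, ?_⟩
      · rw [hspan, Submodule.span_singleton_smul_eq (IsUnit.mk0 μ hμ0)]
      · have e1 : Cfsg.hermForm 4 F 3 (μ • d) (μ • d) = μ ^ 4 * Cfsg.hermForm 4 F 3 d d := by
          unfold Cfsg.hermForm
          rw [Finset.mul_sum]
          apply Finset.sum_congr rfl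
          intro i _
          simp only [Pi.smul_apply, smul_eq_mul]
          ring
        rw [e1, hμ, eq_neg_of_add_eq_zero_left h]
        ring
  choose e he1 he2 using key
  have horth : ∀ j k, Cfsg.hermForm 4 F 3 (e j) (e k) = if j = k then 1 else 0 := by
    intro j k
    by_cases hjk : j = k
    · subst hjk
      rw [if_pos rfl]
      exact he2 j
    · rw [if_neg hjk]
      apply hD.orthogonal j k hjk
      · rw [he1 j]; exact Submodule.mem_span_singleton_self _
      · rw [he1 k]; exact Submodule.mem_span_singleton_self _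
  let g : Matrix (Fin 4) (Fin 4) F := Matrix.of (fun i j => e j i)
  let h : Matrix (Fin 4) (Fin 4) F := Matrix.of (fun i j => (e j i) ^ 3)
  have hgh : ∀ j k, ∑ i, g i j * g i k ^ 3 = if j = k then 1 else 0 := by
    intro j k
    rw [← horth j k]
    rfl
  have h1 : gᵀ * h = 1 := by
    ext j k
    rw [Matrix.mul_apply, Matrix.one_apply, ← hgh j k]
    rfl
  have h2 : h * gᵀ = 1 := mul_eq_one_comm.1 h1
  have h3 : g * hᵀ = 1 := by
    have := congrArg Matrix.transpose h2
    simpa [Matrix.transpose_mul] using this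
  have h4 : hᵀ * g = 1 := by
    have := congrArg Matrix.transpose h1
    simpa [Matrix.transpose_mul] using this
  refine ⟨⟨g, hᵀ, h3, h4⟩, ?_, ?_⟩
  · intro u v
    show Cfsg.hermForm 4 F 3 (g *ᵥ u) (g *ᵥ v) = Cfsg.hermForm 4 F 3 u v
    unfold Cfsg.hermForm
    have e1 : ∀ i, (g *ᵥ v) i ^ 3 = ∑ k, g i k ^ 3 * v k ^ 3 := by
      intro i
      simp only [Matrix.mulVec, dotProduct]
      rw [sum_pow_char]
      apply Finset.sum_congr rfl
      intro k _
      rw [mul_pow]
    calc ∑ i, (g *ᵥ u) i * (g *ᵥ v) i ^ 3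
        = ∑ i, ∑ j, ∑ k, u j * v k ^ 3 * (g i j * g i k ^ 3) := by
          apply Finset.sum_congr rfl
          intro i _
          rw [e1 i]
          simp only [Matrix.mulVec, dotProduct]
          rw [Finset.sum_mul]
          apply Finset.sum_congr rfl
          intro j _
          rw [Finset.mul_sum]
          apply Finset.sum_congr rfl
          intro k _
          ring
      _ = ∑ j, ∑ k, u j * v k ^ 3 * (∑ i, g i j * g i k ^ 3) := by
          rw [Finset.sum_comm]
          apply Finset.sum_congr rfl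
          intro j _
          rw [Finset.sum_comm]
          apply Finset.sum_congr rfl
          intro k _
          rw [Finset.mul_sum]
      _ = ∑ j, ∑ k, u j * v k ^ 3 * (if j = k then 1 else 0) := by
          apply Finset.sum_congr rfl
          intro j _
          apply Finset.sum_congr rfl
          intro k _
          rw [hgh j k]
      _ = ∑ j, u j * v j ^ 3 := by
          apply Finset.sum_congr rfl
          intro j _
          simp
  · intro j
    rw [he1 j]
    congr 2
    ext i
    show e j i = (g *ᵥ (Pi.single j 1 : Fin 4 → F)) i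
    simp [g, Matrix.mulVec, dotProduct, Pi.single_apply]

end Cfsg.Agent.Lib.Helper84.SU4Q3FRAME
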