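import Cfsg.Agent.Lib.Helper84.ExtFMT
import Cfsg.Agent.Lib.Helper84.Fong
import Cfsg.Agent.Lib.Helper20.Ito
import Cfsg.Agent.Lib.Helper83.IrrBasic
import Cfsg.Agent.Lib.Helper22.Defect2
import Cfsg.Agent.S0937
import Cfsg.Agent.S0934
import Cfsg.Agent.S0919
import Cfsg.Agent.S0917
import Cfsg.Agent.S0912

set_option autoImplicit false

namespace Cfsg.Agent.Lib.Helper84

open Cfsg Cfsg.Agent.Lib Cfsg.Agent.Lib.Helper21 Cfsg.Agent.Lib.Helper4
open scoped ComplexConjugate

universe u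

section transport

variable {p : ℕ} {M : Ideal AlgInt}

/-- transport of a set of irreducible characters along an isomorphism -/
def trSet {A B' : Type*} [Group A] [Group B'] (e : A ≃* B') (b : Set (IrrCharacter B')) :
    Set (IrrCharacter A) := {ξ | trIrr e.symm ξ ∈ b}

theorem trIrr_mem_trSet {A B' : Type*} [Group A] [Group B'] (e : A ≃* B')
    (b : Set (IrrCharacter B')) (θ : IrrCharacter B') : trIrr e θ ∈ trSet e b ↔ θ ∈ b := by
  show trIrr e.symm (trIrr e θ) ∈ b ↔ _
  rw [trIrr_symm']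

theorem isPBlock_trSet {A B' : Type*} [Group A] [Group B'] (e : A ≃* B')
    (b : Set (IrrCharacter B')) (hb : IsPBlock M b) : IsPBlock M (trSet e b) := by
  obtain ⟨θ₁, rfl⟩ := hb
  refine ⟨trIrr e θ₁, ?_⟩
  ext ξ
  constructor
  · intro h
    have h1 := sameBlock_trIrr e _ _ h
    rw [trIrr_symm] at h1
    exact h1
  · intro h
    have h1 := sameBlock_trIrr e.symm _ _ h
    rw [trIrr_symm'] at h1
    exact h1

theorem charDegree_trIrr {A B' : Type*} [Group A] [Group B'] (e : A ≃* B')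
    (θ : IrrCharacter B') :
    charDegree (trIrr e θ : A → ℂ) = charDegree (θ : B' → ℂ) := by
  unfold charDegree
  rw [trIrr_apply, map_one]

theorem blockDefect_trSet {A B' : Type*} [Group A] [Group B'] (e : A ≃* B')
    (b : Set (IrrCharacter B')) : blockDefect p (trSet e b) = blockDefect p b := by
  unfold blockDefect
  rw [Nat.card_congr e.toEquiv]
  congr 2
  ext d
  constructor
  · rintro ⟨ξ, hξ, rfl⟩
    refine ⟨trIrr e.symm ξ, hξ, ?_⟩
    show (charDegree (trIrr e.symm ξ : B' → ℂ)).factorization p = _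
    rw [charDegree_trIrr]
  · rintro ⟨θ, hθ, rfl⟩
    refine ⟨trIrr e θ, (trIrr_mem_trSet e b θ).mpr hθ, ?_⟩
    show (charDegree (trIrr e θ : A → ℂ)).factorization p = _
    rw [charDegree_trIrr]

/-- conjugation by `g` as an automorphism of a subgroup normalized by `g` -/
def conjEquiv {G : Type*} [Group G] (H : Subgroup G) (g : G) (h1 : ∀ x ∈ H, g * x * g⁻¹ ∈ H)
    (h2 : ∀ x ∈ H, g⁻¹ * x * g ∈ H) : H ≃* H where
  toFun := fun x => ⟨g * x * g⁻¹, h1 x x.2⟩
  invFun := fun x => ⟨g⁻¹ * x * g, h2 x x.2⟩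
  left_inv := fun x => by
    apply Subtype.ext
    show g⁻¹ * (g * x * g⁻¹) * g = x
    group
  right_inv := fun x => by
    apply Subtype.ext
    show g * (g⁻¹ * x * g) * g⁻¹ = x
    group
  map_mul' := fun x y => by
    apply Subtype.ext
    show g * ((x : G) * (y : G)) * g⁻¹ = (g * x * g⁻¹) * (g * y * g⁻¹)
    group

theorem conjEquiv_apply_coe {G : Type*} [Group G] (H : Subgroup G) (g : G)
    (h1 : ∀ x ∈ H, g * x * g⁻¹ ∈ H) (h2 : ∀ x ∈ H, g⁻¹ * x * g ∈ H) (x : H) :
    ((conjEquiv H g h1 h2 x : H) : G) = g * x * g⁻¹ := rfl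

end transport

section stab

variable {G : Type u} [Group G] [Fintype G] {p : ℕ} [hp : Fact p.Prime] {M : Ideal AlgInt}

/-- height zero: `ν_p(χ(1)) + d(B) = ν_p(|G|)` -/
theorem height_zero_add_defect (hM : IsPModular p M) (B : Set (IrrCharacter G))
    (hB : IsPBlock M B) (χ : IrrCharacter G) (hχ : χ ∈ B)
    (h0 : blockHeight p B (χ : G → ℂ) = 0) :
    (charDegree (χ : G → ℂ)).factorization p + blockDefect p B =
      (Nat.card G).factorization p := by
  obtain ⟨g, hg⟩ := Cfsg.Agent.S0906.result p M hM B hB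
  have h1 := Helper22.factorization_eq_of_height_zero hM B hB g hg χ hχ h0
  have h2 := Helper22.blockDefect_eq_of_defectClass hM B hB g hg
  have h3 := (Subgroup.centralizer ({g} : Set G)).card_mul_index
  have hC0 : Nat.card (Subgroup.centralizer ({g} : Set G)) ≠ 0 := Nat.card_pos.ne'
  have hi0 : (Subgroup.centralizer ({g} : Set G)).index ≠ 0 := Subgroup.index_ne_zero_of_finite
  have f3 := congrArg (fun k : ℕ => k.factorization p) h3
  rw [Nat.factorization_mul hC0 hi0, Finsupp.add_apply] at f3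
  omega

/-- if `b^G = B` has defect group `P` then the stabilizer of `b` has index prime to `p`
over `H` -/
theorem stab_index_of_defect (hM : IsPModular p M) (P H T : Subgroup G) [Fintype H] [Fintype T]
    (hPp : IsPGroup p P) (hPH : P ≤ H) (hCH : Subgroup.centralizer (P : Set G) ≤ H)
    (hHT : H ≤ T) (hTN : T ≤ Subgroup.normalizer (P : Set G))
    (hconj : ∀ t ∈ T, ∀ x ∈ H, t * x * t⁻¹ ∈ H)
    (b : Set (IrrCharacter H)) (hb : IsPBlock M b)
    (hbP : IsDefectGroup p M b (P.subgroupOf H))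
    (B : Set (IrrCharacter G)) (hind : IsInducedBlock M H b B)
    (hstab : ∀ t ∈ T, ∀ θ ∈ b, ∀ θ' : IrrCharacter H,
      (∀ h h' : H, (h' : G) = t * h * t⁻¹ → (θ' : H → ℂ) h' = (θ : H → ℂ) h) → θ' ∈ b)
    (hDB : IsDefectGroup p M B P) : ¬ p ∣ H.relIndex T := by
  classical
  have hp' : p.Prime := hp.out
  letI : Fintype ↥(H.subgroupOf T) := Fintype.ofFinite _
  haveI hnorm : (H.subgroupOf T).Normal := ⟨fun x hx g => by
    rw [Subgroup.mem_subgroupOf] at hx ⊢
    have h1 := hconj g g.2 x hx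
    simpa using h1⟩
  have hbT : IsPBlock M (trSet (Subgroup.subgroupOfEquivOfLe hHT) b) :=
    isPBlock_trSet _ b hb
  have hAT : ∀ φ ∈ trSet (Subgroup.subgroupOfEquivOfLe hHT) b, ∀ t : T,
      Helper22.irrConjFun (H.subgroupOf T) φ t ∈ trSet (Subgroup.subgroupOfEquivOfLe hHT) b := by
    intro φ hφ t
    refine hstab ((t : G)⁻¹) (inv_mem t.2) _ hφ _ (fun h h' hh' => ?_)
    show (φ : ↥(H.subgroupOf T) → ℂ) ⟨t * ((Subgroup.subgroupOfEquivOfLe hHT).symm h' : T) * t⁻¹, _⟩
      = (φ : ↥(H.subgroupOf T) → ℂ) ((Subgroup.subgroupOfEquivOfLe hHT).symm h)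
    refine congrArg (φ : ↥(H.subgroupOf T) → ℂ) ?_
    apply Subtype.ext
    apply Subtype.ext
    show (t : G) * (((Subgroup.subgroupOfEquivOfLe hHT).symm h' : T) : G) * (t : G)⁻¹ =
      (((Subgroup.subgroupOfEquivOfLe hHT).symm h : T) : G)
    rw [Subgroup.subgroupOfEquivOfLe_symm_apply_coe_coe,
      Subgroup.subgroupOfEquivOfLe_symm_apply_coe_coe, hh']
    group
  -- a block of `T` of maximal defect covering `b`
  obtain ⟨Bm, hBm, hcovm, hmax⟩ : ∃ Bm : Set (IrrCharacter T), IsPBlock M Bm ∧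
      (∃ χ ∈ Bm, ∃ θ ∈ trSet (Subgroup.subgroupOfEquivOfLe hHT) b,
        classInner (fun n : ↥(H.subgroupOf T) => (χ : T → ℂ) n)
          (θ : ↥(H.subgroupOf T) → ℂ) ≠ 0) ∧
      ∀ B' : Set (IrrCharacter T), IsPBlock M B' →
        (∃ χ ∈ B', ∃ θ ∈ trSet (Subgroup.subgroupOfEquivOfLe hHT) b,
          classInner (fun n : ↥(H.subgroupOf T) => (χ : T → ℂ) n)
            (θ : ↥(H.subgroupOf T) → ℂ) ≠ 0) →
        blockDefect p B' ≤ blockDefect p Bm := by
    set S : Set ℕ := {d | ∃ B' : Set (IrrCharacter T), IsPBlock M B' ∧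
      (∃ χ ∈ B', ∃ θ ∈ trSet (Subgroup.subgroupOfEquivOfLe hHT) b,
        classInner (fun n : ↥(H.subgroupOf T) => (χ : T → ℂ) n)
          (θ : ↥(H.subgroupOf T) → ℂ) ≠ 0) ∧ blockDefect p B' = d} with hS
    have hSne : S.Nonempty := by
      obtain ⟨θ₁, hθ₁⟩ : ∃ θ₁, θ₁ ∈ trSet (Subgroup.subgroupOfEquivOfLe hHT) b := by
        obtain ⟨θ₁, hθ₁eq⟩ := hbT
        exact ⟨θ₁, by rw [hθ₁eq]; exact Helper79.mem_blockOf_self hM θ₁⟩
      obtain ⟨ψ, hψ, hcon⟩ := Helper20.exists_irr_over (H.subgroupOf T) θ₁.2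
      exact ⟨_, blockOf M ψ, Helper79.isPBlock_blockOf ⟨ψ, hψ⟩,
        ⟨⟨ψ, hψ⟩, Helper79.mem_blockOf_self hM ⟨ψ, hψ⟩, θ₁, hθ₁, hcon⟩, rfl⟩
    have hSbdd : BddAbove S := ⟨(Nat.card T).factorization p, fun d hd => by
      obtain ⟨B', -, -, rfl⟩ := hd
      exact Nat.sub_le _ _⟩
    obtain ⟨Bm, hBm, hcovm, hdm⟩ := Nat.sSup_mem hSne hSbdd
    refine ⟨Bm, hBm, hcovm, fun B' hB' hc => ?_⟩
    rw [hdm]
    exact le_csSup hSbdd ⟨B', hB', hc, rfl⟩
  obtain ⟨y, hy⟩ := Cfsg.Agent.S0906.result p M hM Bm hBm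
  obtain ⟨Q⟩ : Nonempty (Sylow p (Subgroup.centralizer ({y} : Set T))) := inferInstance
  have hPm : IsDefectGroup p M Bm
      ((Q : Subgroup (Subgroup.centralizer ({y} : Set T))).map
        (Subgroup.centralizer ({y} : Set T)).subtype) := ⟨y, hy, Q, rfl⟩
  obtain ⟨-, -, hfong⟩ := fong_main hM (H.subgroupOf T) _ hbT hAT Bm hBm hcovm hmax _ hPm
  -- `Bm` induces `B`
  obtain ⟨χ₁, hχ₁, θ₁, hθ₁, hcon₁⟩ := hcovm
  have hindm : IsInducedBlock M T Bm B := by
    rw [Helper79.blockOf_eq_of_mem hM hBm hχ₁]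
    refine induced_of_over hM P T H hPp (hPH.trans hHT) hTN hHT hCH hconj b B hind
      (trIrr (Subgroup.subgroupOfEquivOfLe hHT).symm θ₁) hθ₁ χ₁ ?_
    rw [← classInner_subgroupOf T H hHT, trIrr_symm]
    exact hcon₁
  obtain ⟨E, hE, hle⟩ := Cfsg.Agent.S0917.result p M hM T Bm hBm B hind.2.1 hindm _ hPm
  have c1 := Subgroup.card_le_of_le hle
  rw [Subgroup.card_map_of_injective (Subgroup.subtype_injective T),
    Cfsg.Agent.S0908.result p M hM Bm hBm _ hPm,
    Cfsg.Agent.S0908.result p M hM B hind.2.1 E hE] at c1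
  have c2 := (Nat.pow_le_pow_iff_right hp'.one_lt).mp c1
  have c3 := Cfsg.Agent.S0908.result p M hM B hind.2.1 P hDB
  have c4 := Cfsg.Agent.S0908.result p M hM b hb _ hbP
  have c5 : Nat.card (P.subgroupOf H) = Nat.card P :=
    Nat.card_congr (Subgroup.subgroupOfEquivOfLe hPH).toEquiv
  rw [c5, c3] at c4
  have c6 := Nat.pow_right_injective hp'.two_le c4
  have c7 : blockDefect p (trSet (Subgroup.subgroupOfEquivOfLe hHT) b) = blockDefect p b :=
    blockDefect_trSet _ b
  have c8 : (H.subgroupOf T).index.factorization p = 0 := by omega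
  intro hdvd
  have hne : (H.subgroupOf T).index ≠ 0 := Subgroup.index_ne_zero_of_finite
  have c9 := (hp'.dvd_iff_one_le_factorization hne).mp hdvd
  omega

/-- if the stabilizer `T` of `b` has index prime to `p` over `H`, the block of `N` induced by
`b` has defect group `P` -/
theorem exists_block_defect_of_stab_index (hM : IsPModular p M) (P N H T : Subgroup G)
    [Fintype N] [Fintype H] (hPp : IsPGroup p P) (hPH : P ≤ H)
    (hCH : Subgroup.centralizer (P : Set G) ≤ H) (hHN : H ≤ N)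
    (hNP : N ≤ Subgroup.normalizer (P : Set G))
    (hconj : ∀ n ∈ N, ∀ x ∈ H, n * x * n⁻¹ ∈ H)
    (b : Set (IrrCharacter H)) (hb : IsPBlock M b)
    (hbP : IsDefectGroup p M b (P.subgroupOf H))
    (B : Set (IrrCharacter G)) (hind : IsInducedBlock M H b B) (hHT : H ≤ T)
    (hTmem : ∀ g ∈ N, (∀ θ ∈ b, ∀ θ' : IrrCharacter H,
      (∀ h h' : H, (h' : G) = g * h * g⁻¹ → (θ' : H → ℂ) h' = (θ : H → ℂ) h) → θ' ∈ b) → g ∈ T)
    (hidx : ¬ p ∣ H.relIndex T) :
    ∃ β : Set (IrrCharacter N), IsInducedBlock M N β B ∧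
      IsDefectGroup p M β (P.subgroupOf N) := by
  classical
  have hp' : p.Prime := hp.out
  have hPN : P ≤ N := hPH.trans hHN
  letI : Fintype ↥(H.subgroupOf N) := Fintype.ofFinite _
  haveI hnorm : (H.subgroupOf N).Normal := ⟨fun x hx g => by
    rw [Subgroup.mem_subgroupOf] at hx ⊢
    have h1 := hconj g g.2 x hx
    simpa using h1⟩
  haveI hPnorm : (P.subgroupOf N).Normal :=
    (Subgroup.normal_subgroupOf_iff_le_normalizer hPN).mpr hNP
  have hbN : IsPBlock M (trSet (Subgroup.subgroupOfEquivOfLe hHN) b) := isPBlock_trSet _ b hb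
  -- the induced block of `N`
  have hP'H' : P.subgroupOf N ≤ H.subgroupOf N := fun n hn => by
    rw [Subgroup.mem_subgroupOf] at hn ⊢
    exact hPH hn
  have hC'H' : Subgroup.centralizer ((P.subgroupOf N : Subgroup N) : Set N) ≤ H.subgroupOf N := by
    intro n hn
    rw [Subgroup.mem_subgroupOf]
    apply hCH
    rw [Subgroup.mem_centralizer_iff]
    intro y hy
    have h1 := (Subgroup.mem_centralizer_iff.mp hn) ⟨y, hPN hy⟩ (by
      show (⟨y, hPN hy⟩ : N) ∈ P.subgroupOf N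
      rw [Subgroup.mem_subgroupOf]
      exact hy)
    have h2 := congrArg Subtype.val h1
    simpa using h2
  have hH'N' : H.subgroupOf N ≤ Subgroup.normalizer ((P.subgroupOf N : Subgroup N) : Set N) := by
    rw [Subgroup.normalizer_eq_top]
    exact le_top
  obtain ⟨β, hβ⟩ := Cfsg.Agent.S0919.result p M hM (P.subgroupOf N) (H.subgroupOf N)
    hPp.comap_subtype hP'H' hC'H' hH'N' _ hbN
  obtain ⟨θ₀, hθ₀⟩ : ∃ θ₀, θ₀ ∈ b := by
    obtain ⟨θ₀, hθ₀eq⟩ := hb
    exact ⟨θ₀, by rw [hθ₀eq]; exact Helper79.mem_blockOf_self hM θ₀⟩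
  obtain ⟨ψ₀, hψ₀, hcon₀⟩ := Cfsg.Agent.S0934.result p M hM (H.subgroupOf N) _ β hβ
    (trIrr (Subgroup.subgroupOfEquivOfLe hHN) θ₀) ((trIrr_mem_trSet _ b θ₀).mpr hθ₀)
  have hindβ : IsInducedBlock M N β B := by
    rw [Helper79.blockOf_eq_of_mem hM hβ.2.1 hψ₀]
    refine induced_of_over hM P N H hPp hPN hNP hHN hCH hconj b B hind θ₀ hθ₀ ψ₀ ?_
    rw [← classInner_subgroupOf N H hHN]
    exact hcon₀
  -- a height zero character and Blau's theorem
  obtain ⟨χ, hχ, h0⟩ := Helper22.exists_height_zero hM β hβ.2.1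
  obtain ⟨ξ, hξ, hξ0, n, hn, hpn⟩ := Cfsg.Agent.S0937.result p M hM (H.subgroupOf N) _ β hβ χ hχ h0
  have hn0 : n ≠ 0 := by
    rintro rfl
    exact hpn (dvd_zero p)
  have hconξ : classInner (fun h : ↥(H.subgroupOf N) => (χ : N → ℂ) h)
      (ξ : ↥(H.subgroupOf N) → ℂ) ≠ 0 := by
    rw [hn]
    exact_mod_cast hn0
  have hdeg := Helper20.clifford_degree (H.subgroupOf N) ξ.2 χ.2 hconξ
    (Helper20.inertia (H.subgroupOf N) (ξ : ↥(H.subgroupOf N) → ℂ)) (fun g => Iff.rfl)
  rw [hn, (Helper83.irr_degree χ.2).2, (Helper83.irr_degree ξ.2).2] at hdeg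
  have hdegN : charDegree (χ : N → ℂ) =
      n * (Helper20.inertia (H.subgroupOf N) (ξ : ↥(H.subgroupOf N) → ℂ)).index *
        charDegree (ξ : ↥(H.subgroupOf N) → ℂ) := by
    exact_mod_cast hdeg
  -- the inertia group lies between `H` and `T`
  have hHI : H.subgroupOf N ≤ Helper20.inertia (H.subgroupOf N) (ξ : ↥(H.subgroupOf N) → ℂ) := by
    intro h hh
    show Helper20.conjFun (H.subgroupOf N) (ξ : ↥(H.subgroupOf N) → ℂ) h = _
    funext k
    rw [Helper20.conjFun_apply]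
    exact isClassFunction_irr ξ k ⟨h, hh⟩
  have hIT : ∀ g ∈ Helper20.inertia (H.subgroupOf N) (ξ : ↥(H.subgroupOf N) → ℂ),
      (g : G) ∈ T := by
    intro g hg
    have hg' : Helper20.conjFun (H.subgroupOf N) (ξ : ↥(H.subgroupOf N) → ℂ) g = _ := hg
    apply hTmem (g : G) g.2
    intro θ hθ θ' hθ'
    have hc2 : ∀ x ∈ H, (g : G)⁻¹ * x * (g : G) ∈ H := fun x hx => by
      have h1 := hconj _ (inv_mem g.2) x hx
      simpa using h1
    have e1 : trIrr (conjEquiv H (g : G) (hconj g g.2) hc2) θ' = θ := by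
      apply Subtype.ext
      funext h
      exact hθ' h _ rfl
    have hξb : trIrr (Subgroup.subgroupOfEquivOfLe hHN).symm ξ ∈ b := hξ
    have e2 : trIrr (conjEquiv H (g : G) (hconj g g.2) hc2)
        (trIrr (Subgroup.subgroupOfEquivOfLe hHN).symm ξ) =
        trIrr (Subgroup.subgroupOfEquivOfLe hHN).symm ξ := by
      apply Subtype.ext
      funext h
      show (ξ : ↥(H.subgroupOf N) → ℂ) ((Subgroup.subgroupOfEquivOfLe hHN).symm
        (conjEquiv H (g : G) (hconj g g.2) hc2 h)) =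
        (ξ : ↥(H.subgroupOf N) → ℂ) ((Subgroup.subgroupOfEquivOfLe hHN).symm h)
      have h1 := congrFun hg' ((Subgroup.subgroupOfEquivOfLe hHN).symm h)
      rw [Helper20.conjFun_apply] at h1
      rw [← h1]
      refine congrArg (ξ : ↥(H.subgroupOf N) → ℂ) ?_
      apply Subtype.ext
      apply Subtype.ext
      show (((Subgroup.subgroupOfEquivOfLe hHN).symm
        (conjEquiv H (g : G) (hconj g g.2) hc2 h) : N) : G) =
        (g : G) * (((Subgroup.subgroupOfEquivOfLe hHN).symm h : N) : G) * (g : G)⁻¹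
      rw [Subgroup.subgroupOfEquivOfLe_symm_apply_coe_coe,
        Subgroup.subgroupOfEquivOfLe_symm_apply_coe_coe, conjEquiv_apply_coe]
    have hbeq := Helper79.blockOf_eq_of_mem hM hb hξb
    have h3 : SameBlock M (trIrr (Subgroup.subgroupOfEquivOfLe hHN).symm ξ : H → ℂ)
        (θ : H → ℂ) := by
      rw [hbeq] at hθ
      exact hθ
    rw [← e1] at h3
    rw [← e2] at h3
    have h4 := sameBlock_trIrr (conjEquiv H (g : G) (hconj g g.2) hc2).symm _ _ h3
    rw [trIrr_symm', trIrr_symm'] at h4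
    rw [hbeq]
    exact h4
  obtain ⟨I, hIdef⟩ : ∃ I : Subgroup N,
      I = Helper20.inertia (H.subgroupOf N) (ξ : ↥(H.subgroupOf N) → ℂ) := ⟨_, rfl⟩
  rw [← hIdef] at hdegN hHI hIT
  -- cardinalities
  have cH' : Nat.card ↥(H.subgroupOf N) = Nat.card H :=
    Nat.card_congr (Subgroup.subgroupOfEquivOfLe hHN).toEquiv
  have cHT : Nat.card H * H.relIndex T = Nat.card T := by
    have h1 := (H.subgroupOf T).card_mul_index
    rw [Nat.card_congr (Subgroup.subgroupOfEquivOfLe hHT).toEquiv] at h1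
    exact h1
  have d1 : Nat.card ↥(H.subgroupOf N) ∣ Nat.card I := Subgroup.card_dvd_of_le hHI
  have d2 : Nat.card I ∣ Nat.card T := by
    have h1 : I.map N.subtype ≤ T := by
      rintro _ ⟨g, hg, rfl⟩
      exact hIT g hg
    have h2 := Subgroup.card_dvd_of_le h1
    rwa [Subgroup.card_map_of_injective (Subgroup.subtype_injective N)] at h2
  have cI := I.card_mul_index
  have hrel0 : H.relIndex T ≠ 0 := by
    intro h
    rw [h, mul_zero] at cHT
    exact Nat.card_pos.ne' cHT.symm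
  have hI0 : Nat.card I ≠ 0 := Nat.card_pos.ne'
  have hIi0 : I.index ≠ 0 := Subgroup.index_ne_zero_of_finite
  have hH0 : Nat.card H ≠ 0 := Nat.card_pos.ne'
  have hT0 : Nat.card T ≠ 0 := Nat.card_pos.ne'
  have hξd0 : charDegree (ξ : ↥(H.subgroupOf N) → ℂ) ≠ 0 := (Helper83.irr_degree ξ.2).1.ne'
  have vT : (Nat.card T).factorization p = (Nat.card H).factorization p := by
    rw [← cHT, Nat.factorization_mul hH0 hrel0, Finsupp.add_apply,
      Nat.factorization_eq_zero_of_not_dvd hidx, add_zero]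
  have v1 : (Nat.card H).factorization p ≤ (Nat.card I).factorization p := by
    rw [← cH']
    exact (Nat.factorization_le_iff_dvd Nat.card_pos.ne' hI0).mpr d1 p
  have v2 : (Nat.card I).factorization p ≤ (Nat.card T).factorization p :=
    (Nat.factorization_le_iff_dvd hI0 hT0).mpr d2 p
  have vI : (Nat.card I).factorization p + I.index.factorization p =
      (Nat.card N).factorization p := by
    rw [← cI, Nat.factorization_mul hI0 hIi0, Finsupp.add_apply]
  have vχ : (charDegree (χ : N → ℂ)).factorization p =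
      I.index.factorization p + (charDegree (ξ : ↥(H.subgroupOf N) → ℂ)).factorization p := by
    rw [hdegN, Nat.factorization_mul (Nat.mul_ne_zero hn0 hIi0) hξd0,
      Nat.factorization_mul hn0 hIi0, Finsupp.add_apply, Finsupp.add_apply,
      Nat.factorization_eq_zero_of_not_dvd hpn, zero_add]
  have hχh := height_zero_add_defect hM β hβ.2.1 χ hχ h0
  have hξh := height_zero_add_defect hM _ hbN ξ hξ hξ0
  rw [cH'] at hξh
  have hdb : blockDefect p (trSet (Subgroup.subgroupOfEquivOfLe hHN) b) = blockDefect p b :=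
    blockDefect_trSet _ b
  have hdβ : blockDefect p β = blockDefect p b := by omega
  -- the defect group
  obtain ⟨y, hy⟩ := Cfsg.Agent.S0906.result p M hM β hβ.2.1
  obtain ⟨Q⟩ : Nonempty (Sylow p (Subgroup.centralizer ({y} : Set N))) := inferInstance
  have hD : IsDefectGroup p M β ((Q : Subgroup (Subgroup.centralizer ({y} : Set N))).map
      (Subgroup.centralizer ({y} : Set N)).subtype) := ⟨y, hy, Q, rfl⟩
  have h1 := Cfsg.Agent.S0912.result p M hM β hβ.2.1 _ hD
  have h2 : P.subgroupOf N ≤ Cfsg.pCore p N :=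
    Cfsg.Agent.Lib.Helper55.le_pCore hPnorm hPp.comap_subtype
  have c1 := Cfsg.Agent.S0908.result p M hM β hβ.2.1 _ hD
  have c2 := Cfsg.Agent.S0908.result p M hM b hb _ hbP
  have c3 : Nat.card (P.subgroupOf H) = Nat.card P :=
    Nat.card_congr (Subgroup.subgroupOfEquivOfLe hPH).toEquiv
  have c4 : Nat.card (P.subgroupOf N) = Nat.card P :=
    Nat.card_congr (Subgroup.subgroupOfEquivOfLe hPN).toEquiv
  have h5 := Subgroup.eq_of_le_of_card_ge (h2.trans h1) (by rw [c1, hdβ, ← c2, c3, c4])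
  exact ⟨β, hindβ, by rw [h5]; exact hD⟩

/-- S4437: `b^G` has defect group `P` iff the stabilizer of `b` in `N_G(P)` has index prime
to `p` over `P C_G(P)` -/
theorem defect_iff_stab_index (hM : IsPModular p M) (P : Subgroup G) (hPp : IsPGroup p P)
    [Fintype ↥(P ⊔ Subgroup.centralizer (P : Set G))]
    (b : Set (IrrCharacter ↥(P ⊔ Subgroup.centralizer (P : Set G)))) (hb : IsPBlock M b)
    (hbP : IsDefectGroup p M b (P.subgroupOf (P ⊔ Subgroup.centralizer (P : Set G))))
    (B : Set (IrrCharacter G))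
    (hind : IsInducedBlock M (P ⊔ Subgroup.centralizer (P : Set G)) b B) (T : Subgroup G)
    (hT : ∀ g : G, g ∈ T ↔ (g ∈ Subgroup.normalizer (P : Set G) ∧
      ∀ θ ∈ b, ∀ θ' : IrrCharacter ↥(P ⊔ Subgroup.centralizer (P : Set G)),
        (∀ h h' : ↥(P ⊔ Subgroup.centralizer (P : Set G)), (h' : G) = g * h * g⁻¹ →
          (θ' : ↥(P ⊔ Subgroup.centralizer (P : Set G)) → ℂ) h' =
            (θ : ↥(P ⊔ Subgroup.centralizer (P : Set G)) → ℂ) h) → θ' ∈ b)) :
    IsDefectGroup p M B P ↔ ¬ p ∣ (P ⊔ Subgroup.centralizer (P : Set G)).relIndex T := by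
  classical
  letI : Fintype T := Fintype.ofFinite _
  letI : Fintype ↥(Subgroup.normalizer (P : Set G)) := Fintype.ofFinite _
  have hHT : P ⊔ Subgroup.centralizer (P : Set G) ≤ T := by
    intro g hg
    rw [hT]
    refine ⟨sup_centralizer_le_normalizer P hg, fun θ hθ θ' hθ' => ?_⟩
    have e : θ' = θ := by
      apply Subtype.ext
      funext k
      have h1 := hθ' ⟨g⁻¹ * k * g, by
        have h2 := (P ⊔ Subgroup.centralizer (P : Set G)).mul_mem
          ((P ⊔ Subgroup.centralizer (P : Set G)).mul_mem (inv_mem hg) k.2) hg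
        exact h2⟩ k (by
          show (k : G) = g * (g⁻¹ * k * g) * g⁻¹
          group)
      rw [h1]
      have h3 := isClassFunction_irr θ k ⟨g⁻¹, inv_mem hg⟩
      rw [← h3]
      refine congrArg (θ : ↥(P ⊔ Subgroup.centralizer (P : Set G)) → ℂ) ?_
      apply Subtype.ext
      show g⁻¹ * (k : G) * g = g⁻¹ * (k : G) * g⁻¹⁻¹
      rw [inv_inv]
    rw [e]
    exact hθ
  have hTN : T ≤ Subgroup.normalizer (P : Set G) := fun g hg => ((hT g).mp hg).1
  constructor
  · intro hDB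
    exact stab_index_of_defect hM P _ T hPp le_sup_left le_sup_right hHT hTN
      (fun t ht x hx => conj_mem_sup_centralizer P (hTN ht) hx) b hb hbP B hind
      (fun t ht => ((hT t).mp ht).2) hDB
  · intro hidx
    obtain ⟨β, hindβ, hDβ⟩ := exists_block_defect_of_stab_index hM P
      (Subgroup.normalizer (P : Set G)) _ T hPp le_sup_left le_sup_right
      (sup_centralizer_le_normalizer P) le_rfl
      (fun n hn x hx => conj_mem_sup_centralizer P hn hx) b hb hbP B hind hHT
      (fun g hg h => (hT g).mpr ⟨hg, h⟩) hidx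
    exact Helper22.fmt_defectGroup_induced hM P hPp β hDβ B hindβ

end stab

end Cfsg.Agent.Lib.Helper84
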