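import Mathlib

/-!
# A concrete field with 16 elements

`F16c` is carried by `Fin 16`; addition is bitwise xor and multiplication is the carry-less product
modulo `x^4 + x + 1`, read off a packed table so that the kernel evaluates it quickly.
-/

set_option autoImplicit false
set_option maxHeartbeats 400000

namespace Cfsg.Agent.Lib.Helper84.U34

/-- Packed multiplication table of `GF(16)` (4 bits per entry, index `16 * a + b`). -/
def MT : ℕ := 116196760129267793630862849262464326346044543732748708940920453221664288556434379745879494961270582141731748813355742142288220638766218855867759359510984593843506004200114943278699875244065120512813025380665946106619127097398772031257643617143689515450995722003729973585221105779229319991106539050771048038400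

/-- Packed table of `x ↦ x ^ 4`. -/
def FT : ℕ := 9924487649903846160

/-- Packed table of inverses (with `0 ↦ 0`). -/
def IT : ℕ := 9460475325918865680

/-- Multiplication on codes. -/
def mulN (a b : ℕ) : ℕ := Nat.land (Nat.shiftRight MT (Nat.mul 4 (Nat.add (Nat.mul 16 a) b))) 15

/-- The Frobenius `x ↦ x ^ 4` on codes. -/
def frobN (a : ℕ) : ℕ := Nat.land (Nat.shiftRight FT (Nat.mul 4 a)) 15

/-- Inversion on codes. -/
def invN (a : ℕ) : ℕ := Nat.land (Nat.shiftRight IT (Nat.mul 4 a)) 15

/-- The concrete field with 16 elements. -/
def F16c : Type := Fin 16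

instance : DecidableEq F16c := inferInstanceAs (DecidableEq (Fin 16))
instance : Fintype F16c := inferInstanceAs (Fintype (Fin 16))

namespace F16c

/-- The element with a given code (reduced mod 16). -/
def mk (n : ℕ) : F16c := (⟨n % 16, Nat.mod_lt _ (by norm_num)⟩ : Fin 16)

/-- The code of an element. -/
def val (a : F16c) : ℕ := Fin.val (show Fin 16 from a)

/-- addition -/
def add (a b : F16c) : F16c := mk (Nat.xor a.val b.val)

/-- multiplication -/
def mul (a b : F16c) : F16c := mk (mulN a.val b.val)

/-- inversion -/
def inv (a : F16c) : F16c := mk (invN a.val)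

/-- zero -/
def o : F16c := mk 0

/-- one -/
def i : F16c := mk 1

theorem add_assoc' : ∀ a b c : F16c, add (add a b) c = add a (add b c) := by decide +kernel
theorem zero_add' : ∀ a : F16c, add o a = a := by decide +kernel
theorem add_zero' : ∀ a : F16c, add a o = a := by decide +kernel
theorem neg_add' : ∀ a : F16c, add a a = o := by decide +kernel
theorem add_comm' : ∀ a b : F16c, add a b = add b a := by decide +kernel
theorem left_distrib' : ∀ a b c : F16c, mul a (add b c) = add (mul a b) (mul a c) := by
  decide +kernel
theorem right_distrib' : ∀ a b c : F16c, mul (add a b) c = add (mul a c) (mul b c) := by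
  decide +kernel
theorem zero_mul' : ∀ a : F16c, mul o a = o := by decide +kernel
theorem mul_zero' : ∀ a : F16c, mul a o = o := by decide +kernel
theorem mul_assoc' : ∀ a b c : F16c, mul (mul a b) c = mul a (mul b c) := by decide +kernel
theorem one_mul' : ∀ a : F16c, mul i a = a := by decide +kernel
theorem mul_one' : ∀ a : F16c, mul a i = a := by decide +kernel
theorem mul_comm' : ∀ a b : F16c, mul a b = mul b a := by decide +kernel
theorem mul_inv' : ∀ a : F16c, a ≠ o → mul a (inv a) = i := by decide +kernel

instance : Zero F16c := ⟨o⟩
instance : One F16c := ⟨i⟩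
instance : Add F16c := ⟨add⟩
instance : Mul F16c := ⟨mul⟩
instance : Neg F16c := ⟨fun a => a⟩
instance : Inv F16c := ⟨inv⟩

instance instCommRing : CommRing F16c where
  add_assoc := add_assoc'
  zero_add := zero_add'
  add_zero := add_zero'
  nsmul := nsmulRec
  zsmul := zsmulRec
  neg_add_cancel := neg_add'
  add_comm := add_comm'
  left_distrib := left_distrib'
  right_distrib := right_distrib'
  zero_mul := zero_mul'
  mul_zero := mul_zero'
  mul_assoc := mul_assoc'
  one_mul := one_mul'
  mul_one := mul_one'
  mul_comm := mul_comm'

instance instField : Field F16c where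
  toCommRing := instCommRing
  exists_pair_ne := ⟨o, i, by decide⟩
  mul_inv_cancel := mul_inv'
  inv_zero := rfl
  nnqsmul := _
  nnqsmul_def := fun _ _ => rfl
  qsmul := _
  qsmul_def := fun _ _ => rfl

theorem card : Fintype.card F16c = 16 := rfl

theorem add_def (a b : F16c) : a + b = add a b := rfl
theorem mul_def (a b : F16c) : a * b = mul a b := rfl
theorem zero_def : (0 : F16c) = o := rfl
theorem one_def : (1 : F16c) = i := rfl
theorem neg_def (a : F16c) : -a = a := rfl

theorem val_zero : (0 : F16c).val = 0 := rfl
theorem val_one : (1 : F16c).val = 1 := rfl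

theorem val_lt (a : F16c) : a.val < 16 := Fin.is_lt (show Fin 16 from a)

theorem val_inj {a b : F16c} (h : a.val = b.val) : a = b := Fin.ext h

theorem val_add : ∀ a b : F16c, (a + b).val = Nat.xor a.val b.val := by decide +kernel
theorem val_mul : ∀ a b : F16c, (a * b).val = mulN a.val b.val := by decide +kernel
theorem val_frob : ∀ a : F16c, (a ^ 4).val = frobN a.val := by decide +kernel
theorem frob_frob : ∀ a : F16c, (a ^ 4) ^ 4 = a := by decide +kernel

end F16c

end Cfsg.Agent.Lib.Helper84.U34
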