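import Cfsg.Agent.Lib.Helper84.U34S

/-!
# Explicit elements of `SU(3,4)` over `F16c` of orders dividing 10, 15 and 13
-/

set_option autoImplicit false
set_option maxHeartbeats 400000
set_option maxRecDepth 100000

namespace Cfsg.Agent.Lib.Helper84.U34

open Matrix

/-- The matrix with the given codes (row by row). -/
def mkM (c0 c1 c2 c3 c4 c5 c6 c7 c8 : ℕ) : Matrix (Fin 3) (Fin 3) F16c :=
  !![F16c.mk c0, F16c.mk c1, F16c.mk c2; F16c.mk c3, F16c.mk c4, F16c.mk c5;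
    F16c.mk c6, F16c.mk c7, F16c.mk c8]

/-- A monomial element. -/
def wN : Matrix (Fin 3) (Fin 3) F16c := mkM 0 8 0 0 0 10 8 0 0

/-- An element of order 10. -/
def w10 : Matrix (Fin 3) (Fin 3) F16c := mkM 0 2 14 13 2 12 5 12 14

/-- An element of order 15. -/
def w15 : Matrix (Fin 3) (Fin 3) F16c := mkM 0 13 6 0 5 7 15 0 0

/-- An element of order 13. -/
def w13 : Matrix (Fin 3) (Fin 3) F16c := mkM 0 0 10 2 14 0 6 7 0

theorem wN_gram : ∀ i j, ∑ k, wN k i * (wN k j) ^ 4 = if i = j then 1 else 0 := by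
  decide +kernel

theorem w10_gram : ∀ i j, ∑ k, w10 k i * (w10 k j) ^ 4 = if i = j then 1 else 0 := by
  decide +kernel

theorem w15_gram : ∀ i j, ∑ k, w15 k i * (w15 k j) ^ 4 = if i = j then 1 else 0 := by
  decide +kernel

theorem w13_gram : ∀ i j, ∑ k, w13 k i * (w13 k j) ^ 4 = if i = j then 1 else 0 := by
  decide +kernel

theorem wN_det : wN.det = 1 := by rw [Matrix.det_fin_three]; decide +kernel

theorem w10_det : w10.det = 1 := by rw [Matrix.det_fin_three]; decide +kernel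

theorem w15_det : w15.det = 1 := by rw [Matrix.det_fin_three]; decide +kernel

theorem w13_det : w13.det = 1 := by rw [Matrix.det_fin_three]; decide +kernel

theorem w10_pow : w10 ^ 10 = 1 := pow10K_val _ (by decide +kernel)

theorem w15_pow : w15 ^ 15 = 1 := pow15K_val _ (by decide +kernel)

theorem w13_pow : w13 ^ 13 = 1 := pow13K_val _ (by decide +kernel)

theorem w10_ne2 : w10 ^ 2 * wN ≠ wN * w10 ^ 2 := by decide +kernel

theorem w10_ne5 : w10 ^ 5 * wN ≠ wN * w10 ^ 5 := by decide +kernel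

theorem w15_ne3 : w15 ^ 3 * wN ≠ wN * w15 ^ 3 := by decide +kernel

theorem w15_ne5 : w15 ^ 5 * wN ≠ wN * w15 ^ 5 := by decide +kernel

theorem w13_ne : w13 * wN ≠ wN * w13 := by decide +kernel

/-- An element of order 10 whose square and fifth power are not central. -/
theorem su34c_wit10 : ∃ M N : Matrix (Fin 3) (Fin 3) F16c,
    (∀ i j, ∑ k, M k i * (M k j) ^ 4 = if i = j then 1 else 0) ∧ M.det = 1 ∧
    (∀ i j, ∑ k, N k i * (N k j) ^ 4 = if i = j then 1 else 0) ∧ N.det = 1 ∧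
    M ^ 10 = 1 ∧ M ^ 2 * N ≠ N * M ^ 2 ∧ M ^ 5 * N ≠ N * M ^ 5 :=
  ⟨w10, wN, w10_gram, w10_det, wN_gram, wN_det, w10_pow, w10_ne2, w10_ne5⟩

/-- An element of order 15 whose cube and fifth power are not central. -/
theorem su34c_wit15 : ∃ M N : Matrix (Fin 3) (Fin 3) F16c,
    (∀ i j, ∑ k, M k i * (M k j) ^ 4 = if i = j then 1 else 0) ∧ M.det = 1 ∧
    (∀ i j, ∑ k, N k i * (N k j) ^ 4 = if i = j then 1 else 0) ∧ N.det = 1 ∧
    M ^ 15 = 1 ∧ M ^ 3 * N ≠ N * M ^ 3 ∧ M ^ 5 * N ≠ N * M ^ 5 :=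
  ⟨w15, wN, w15_gram, w15_det, wN_gram, wN_det, w15_pow, w15_ne3, w15_ne5⟩

/-- A non-central element of order 13. -/
theorem su34c_wit13 : ∃ M N : Matrix (Fin 3) (Fin 3) F16c,
    (∀ i j, ∑ k, M k i * (M k j) ^ 4 = if i = j then 1 else 0) ∧ M.det = 1 ∧
    (∀ i j, ∑ k, N k i * (N k j) ^ 4 = if i = j then 1 else 0) ∧ N.det = 1 ∧
    M ^ 13 = 1 ∧ M * N ≠ N * M :=
  ⟨w13, wN, w13_gram, w13_det, wN_gram, wN_det, w13_pow, w13_ne⟩

end Cfsg.Agent.Lib.Helper84.U34
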